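import Groth.Prelude.Def_EGA4b
import Mathlib.RingTheory.Localization.LocalizationLocalization
import Mathlib.RingTheory.Localization.AtPrime.Basic
import Mathlib.RingTheory.Spectrum.Prime.Noetherian

/-!
`(R_k)` at a prime in terms of the primes below it.
-/

universe u

namespace Groth.Ega4Algebra1

open IsLocalization

variable {A : Type u} [CommRing A]

/-- Localizing a localization at a prime is localizing the original ring at the contracted prime. -/
noncomputable def localizationLocalizationEquiv (S : Submonoid A) (P : Ideal (Localization S)) [P.IsPrime] :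
    Localization.AtPrime P ≃+* Localization.AtPrime (P.comap (algebraMap A (Localization S))) :=
  haveI : IsLocalization.AtPrime (Localization.AtPrime P) (P.comap (algebraMap A (Localization S))) :=
    IsLocalization.isLocalization_isLocalization_atPrime_isLocalization S (Localization.AtPrime P) P
  (IsLocalization.algEquiv (P.comap (algebraMap A (Localization S))).primeCompl
    (Localization.AtPrime P) (Localization.AtPrime (P.comap (algebraMap A (Localization S))))).toRingEquiv

theorem isRegularLocalRing_of_eq {p q : Ideal A} [p.IsPrime] [q.IsPrime] (h : p = q)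
    (hp : IsRegularLocalRing (Localization.AtPrime p)) : IsRegularLocalRing (Localization.AtPrime q) := by
  subst h; exact hp

theorem hasRk_localization_iff (k : ℕ) (S : Submonoid A) :
    LocCoh.HasRk k (Localization S) ↔
      ∀ (q : Ideal A) [q.IsPrime], Disjoint (S : Set A) q → q.height ≤ k →
        IsRegularLocalRing (Localization.AtPrime q) := by
  constructor
  · intro h q _ hdis hq
    haveI := IsLocalization.isPrime_of_isPrime_disjoint S (Localization S) q ‹_› hdis
    have hc : (q.map (algebraMap A (Localization S))).comap (algebraMap A (Localization S)) = q :=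
      IsLocalization.under_map_of_isPrime_disjoint S (Localization S) ‹q.IsPrime› hdis
    have := h (q.map (algebraMap A (Localization S))) (by
      rw [← IsLocalization.height_comap S, Ideal.under_def, hc]; exact hq)
    exact isRegularLocalRing_of_eq hc (IsRegularLocalRing.of_ringEquiv (localizationLocalizationEquiv S _))
  · intro h P _ hP
    have := h (P.comap (algebraMap A (Localization S)))
      ((IsLocalization.isPrime_iff_isPrime_disjoint S (Localization S) P).mp ‹_›).2
      (by rw [IsLocalization.height_comap S]; exact hP)
    exact IsRegularLocalRing.of_ringEquiv (localizationLocalizationEquiv S P).symm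

theorem hasRkAt_iff (k : ℕ) (p : Ideal A) [p.IsPrime] :
    EGA4.HasRkAt k A p ↔
      ∀ (q : Ideal A) [q.IsPrime], q ≤ p → q.height ≤ k →
        IsRegularLocalRing (Localization.AtPrime q) := by
  rw [EGA4.HasRkAt, hasRk_localization_iff]
  refine forall_congr' fun q => forall_congr' fun _ => ?_
  rw [show Disjoint (p.primeCompl : Set A) (q : Set A) ↔ q ≤ p from
    ⟨fun h x hx => by_contra fun hn => Set.disjoint_left.mp h hn hx,
      fun h => Set.disjoint_left.mpr fun x hx hx' => hx (h hx')⟩]

/-- If finitely many primes of height at most `k` control the singular primes of height at most `k`,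
then the `(R_k)` locus is open. -/
theorem isOpen_hasRkAt_of_finite (k : ℕ) (T : Set (PrimeSpectrum A)) (hT : T.Finite)
    (hbad : ∀ q ∈ T, q.asIdeal.height ≤ k ∧ ¬ IsRegularLocalRing (Localization.AtPrime q.asIdeal))
    (hcov : ∀ q : PrimeSpectrum A, q.asIdeal.height ≤ k →
      ¬ IsRegularLocalRing (Localization.AtPrime q.asIdeal) → ∃ q₀ ∈ T, q₀.asIdeal ≤ q.asIdeal) :
    IsOpen {p : PrimeSpectrum A | EGA4.HasRkAt k A p.asIdeal} := by
  have h : {p : PrimeSpectrum A | EGA4.HasRkAt k A p.asIdeal} =
      (⋃ q ∈ T, PrimeSpectrum.zeroLocus (q.asIdeal : Set A))ᶜ := by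
    ext p
    simp only [Set.mem_setOf_eq, Set.mem_compl_iff, Set.mem_iUnion, PrimeSpectrum.mem_zeroLocus,
      SetLike.coe_subset_coe, not_exists]
    rw [hasRkAt_iff]
    constructor
    · intro h q hq hqp
      exact (hbad q hq).2 (h q.asIdeal hqp (hbad q hq).1)
    · intro h q _ hqp hqk
      by_contra hns
      obtain ⟨q₀, hq₀, hle⟩ := hcov ⟨q, ‹_›⟩ hqk hns
      exact h q₀ hq₀ (hle.trans hqp)
  rw [h]
  exact (hT.isClosed_biUnion fun q _ => PrimeSpectrum.isClosed_zeroLocus _).isOpen_compl

end Groth.Ega4Algebra1
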