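import Groth.Agent.Ega4Algebra1.PdBasic
import Mathlib.RingTheory.RegularLocalRing.Defs
import Mathlib.RingTheory.KrullDimension.Regular
import Mathlib.RingTheory.Ideal.AssociatedPrime.Finiteness
import Mathlib.RingTheory.Ideal.Cotangent
import Mathlib.LinearAlgebra.Dual.Lemmas

/-!
Regular local rings: quotients by `x ∈ m \ m²`, domain, Serre's criterion with projective dimension,
localization, flat descent.
-/

universe u

open IsLocalRing

namespace Groth.Ega4Algebra1

variable {R : Type u} [CommRing R] [IsLocalRing R]

theorem isLocalRing_quotient_of_le (I : Ideal R) (hI : I ≤ maximalIdeal R) : IsLocalRing (R ⧸ I) :=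
  have : Nontrivial (R ⧸ I) := Ideal.Quotient.nontrivial_iff.mpr fun h =>
    (maximalIdeal.isMaximal R).ne_top (top_le_iff.mp (h ▸ hI))
  IsLocalRing.of_surjective' _ Ideal.Quotient.mk_surjective

variable [IsNoetherianRing R]

theorem spanFinrank_maximalIdeal_quotient_lt {x : R} (hx : x ∈ maximalIdeal R) (hx2 : x ∉ maximalIdeal R ^ 2)
    [IsLocalRing (R ⧸ Ideal.span {x})] :
    (maximalIdeal (R ⧸ Ideal.span {x})).spanFinrank + 1 ≤ (maximalIdeal R).spanFinrank := by
  classical
  set m := maximalIdeal R
  have hfg : m.FG := IsNoetherian.noetherian m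
  have hfin := Submodule.FG.finite_generators hfg
  let S := hfin.toFinset
  have hS : Submodule.span R (S : Set R) = m := by rw [hfin.coe_toFinset]; exact Submodule.span_generators m
  obtain ⟨c, -, hc⟩ := Submodule.mem_span_finset.mp (show x ∈ Submodule.span R (S : Set R) by rw [hS]; exact hx)
  obtain ⟨g, hg, hu⟩ : ∃ g ∈ S, IsUnit (c g) := by
    by_contra! h
    apply hx2
    rw [← hc, pow_two]
    exact sum_mem fun g hg => Ideal.mul_mem_mul ((mem_maximalIdeal _).mpr (h g hg))
      (hS ▸ Submodule.subset_span hg)
  let π := Ideal.Quotient.mk (Ideal.span {x})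
  have hmap : m.map π = maximalIdeal (R ⧸ Ideal.span {x}) :=
    map_maximalIdeal_of_surjective _ Ideal.Quotient.mk_surjective
  have hspan : maximalIdeal (R ⧸ Ideal.span {x}) = Ideal.span (π '' ((S.erase g : Finset R) : Set R)) := by
    refine le_antisymm ?_ ?_
    · rw [← hmap, ← hS]
      show (Ideal.span (S : Set R)).map π ≤ _
      rw [Ideal.map_span, Ideal.span_le]
      rintro _ ⟨h, hh, rfl⟩
      rw [Finset.mem_coe] at hh
      by_cases he : h = g
      · subst he
        have h0 : π x = 0 := Ideal.Quotient.eq_zero_iff_mem.mpr (Ideal.mem_span_singleton_self x)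
        replace h0 : π (∑ i ∈ S, c i • i) = 0 := (congrArg π hc).trans h0
        rw [map_sum, ← Finset.add_sum_erase _ _ hg, smul_eq_mul, map_mul] at h0
        rw [SetLike.mem_coe, ← Ideal.unit_mul_mem_iff_mem _ (hu.map π), eq_neg_of_add_eq_zero_left h0]
        exact neg_mem (sum_mem fun i hi => by
          rw [smul_eq_mul, map_mul]
          exact Ideal.mul_mem_left _ _ (Ideal.subset_span ⟨i, hi, rfl⟩))
      · exact Ideal.subset_span ⟨h, Finset.mem_erase.mpr ⟨he, hh⟩, rfl⟩
    · rw [Ideal.span_le]
      rintro _ ⟨h, hh, rfl⟩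
      rw [SetLike.mem_coe, ← hmap]
      exact Ideal.mem_map_of_mem _ (hS ▸ Submodule.subset_span (Finset.mem_of_mem_erase hh))
  have hle : (maximalIdeal (R ⧸ Ideal.span {x})).spanFinrank ≤ (S.erase g).card := by
    rw [hspan]
    refine (Submodule.spanFinrank_span_le_ncard_of_finite ((Finset.finite_toSet _).image _)).trans ?_
    exact (Set.ncard_image_le (Finset.finite_toSet _)).trans (le_of_eq (Set.ncard_coe_finset _))
  have hcard : S.card = m.spanFinrank := by
    rw [← Submodule.FG.generators_ncard hfg, Set.ncard_eq_toFinset_card _ hfin]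
  have h1 : (S.erase g).card + 1 = m.spanFinrank := hcard ▸ Finset.card_erase_add_one hg
  omega

theorem spanFinrank_maximalIdeal_le_quotient_add_one {x : R} (hx : x ∈ maximalIdeal R)
    [IsLocalRing (R ⧸ Ideal.span {x})] :
    (maximalIdeal R).spanFinrank ≤ (maximalIdeal (R ⧸ Ideal.span {x})).spanFinrank + 1 := by
  classical
  set m' := maximalIdeal (R ⧸ Ideal.span {x})
  let π := Ideal.Quotient.mk (Ideal.span {x})
  have hfg : m'.FG := IsNoetherian.noetherian m'
  have hfin := Submodule.FG.finite_generators hfg
  choose l hl using fun y : R ⧸ Ideal.span {x} => Ideal.Quotient.mk_surjective y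
  have hmap : (maximalIdeal R).map π = m' := map_maximalIdeal_of_surjective _ Ideal.Quotient.mk_surjective
  have hm : maximalIdeal R = Ideal.span (insert x (l '' m'.generators)) := by
    refine le_antisymm (fun y hy => ?_) ?_
    · have h1 : π y ∈ (Ideal.span (l '' m'.generators)).map π := by
        rw [Ideal.map_span, ← Set.image_comp, show π ∘ l = id from funext hl, Set.image_id]
        show π y ∈ Submodule.span _ m'.generators
        rw [Submodule.span_generators, ← hmap]
        exact Ideal.mem_map_of_mem _ hy
      rw [← Ideal.mem_comap, Ideal.comap_map_of_surjective' _ Ideal.Quotient.mk_surjective, Ideal.mk_ker] at h1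
      rw [Ideal.span_insert, sup_comm]
      exact h1
    · rw [Ideal.span_le, Set.insert_subset_iff]
      refine ⟨hx, ?_⟩
      rintro _ ⟨z, hz, rfl⟩
      have hzm : π (l z) ∈ m' := by rw [hl]; exact Submodule.span_generators m' ▸ Submodule.subset_span hz
      rw [← hmap, ← Ideal.mem_comap, Ideal.comap_map_of_surjective' _ Ideal.Quotient.mk_surjective, Ideal.mk_ker] at hzm
      have hle : maximalIdeal R ⊔ Ideal.span {x} ≤ maximalIdeal R :=
        sup_le le_rfl (by rw [Ideal.span_le, Set.singleton_subset_iff]; exact hx)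
      exact hle hzm
  rw [hm]
  refine (Submodule.spanFinrank_span_le_ncard_of_finite ((hfin.image l).insert x)).trans ?_
  refine (Set.ncard_insert_le _ _).trans ?_
  exact Nat.add_le_add_right ((Set.ncard_image_le hfin).trans (Submodule.FG.generators_ncard hfg).le) 1

theorem isRegularLocalRing_quotient_span_singleton [IsRegularLocalRing R] {x : R} (hx : x ∈ maximalIdeal R)
    (hx2 : x ∉ maximalIdeal R ^ 2) :
    IsRegularLocalRing (R ⧸ Ideal.span {x}) ∧
      ringKrullDim (R ⧸ Ideal.span {x}) + 1 = ringKrullDim R := by
  have := isLocalRing_quotient_of_le (Ideal.span {x}) (by simpa [Ideal.span_le] using hx)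
  have h1 := spanFinrank_maximalIdeal_quotient_lt hx hx2
  have h2 := spanFinrank_maximalIdeal_le_quotient_add_one (R := R) hx
  have h3 : ringKrullDim R ≤ ringKrullDim (R ⧸ Ideal.span {x}) + 1 := by
    have := ringKrullDim_le_ringKrullDim_quotient_add_encard ({x} : Set R) (by
      simpa [IsLocalRing.ringJacobson_eq_maximalIdeal] using hx)
    simpa using this
  have h4 := ringKrullDim_le_spanFinrank_maximalIdeal (R ⧸ Ideal.span {x})
  have hreg := IsRegularLocalRing.spanFinrank_maximalIdeal (R := R)
  obtain ⟨d, hd⟩ : ∃ d : ℕ, ringKrullDim (R ⧸ Ideal.span {x}) = d := by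
    obtain ⟨a, ha⟩ := WithBot.ne_bot_iff_exists.mp (ringKrullDim_ne_bot (R := R ⧸ Ideal.span {x}))
    obtain ⟨d, hd⟩ := ENat.ne_top_iff_exists.mp (fun h : a = ⊤ => ringKrullDim_ne_top (R := R ⧸ Ideal.span {x}) (by rw [← ha, h]; rfl))
    exact ⟨d, by rw [← ha, ← hd]; rfl⟩
  rw [hd, ← hreg] at h3
  rw [hd] at h4
  norm_cast at h3 h4
  refine ⟨IsRegularLocalRing.of_spanFinrank_maximalIdeal_le _ (by rw [hd]; norm_cast; omega), ?_⟩
  rw [hd, ← hreg]; norm_cast; omega

theorem isRegularLocalRing_of_quotient_span_singleton {x : R} (hx : x ∈ maximalIdeal R)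
    (hreg : x ∈ nonZeroDivisors R) [IsLocalRing (R ⧸ Ideal.span {x})]
    [IsRegularLocalRing (R ⧸ Ideal.span {x})] : IsRegularLocalRing R := by
  refine IsRegularLocalRing.of_spanFinrank_maximalIdeal_le R ?_
  rw [← ringKrullDim_quotient_span_singleton_succ_eq_ringKrullDim_of_mem_nonZeroDivisors hreg hx,
    ← IsRegularLocalRing.spanFinrank_maximalIdeal]
  exact_mod_cast spanFinrank_maximalIdeal_le_quotient_add_one hx

omit [IsLocalRing R] in
/-- Prime avoidance with one arbitrary ideal. -/
theorem exists_mem_notMem_notMem {I J : Ideal R} (hJ : ¬ I ≤ J) {S : Set (Ideal R)} (hS : S.Finite)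
    (hprime : ∀ P ∈ S, P.IsPrime) (h : ∀ P ∈ S, ¬ I ≤ P) : ∃ x ∈ I, x ∉ J ∧ ∀ P ∈ S, x ∉ P := by
  classical
  by_contra! hc
  have : ((I : Set R) ⊆ ⋃ P ∈ (↑(insert J hS.toFinset) : Set (Ideal R)), (id P : Ideal R)) := by
    intro x hx
    simp only [Finset.coe_insert, Set.Finite.coe_toFinset, Set.mem_iUnion, Set.mem_insert_iff, id,
      SetLike.mem_coe, exists_prop]
    by_cases hxJ : x ∈ J
    · exact ⟨J, Or.inl rfl, hxJ⟩
    · obtain ⟨P, hP, hxP⟩ := hc x hx hxJ
      exact ⟨P, Or.inr hP, hxP⟩
  obtain ⟨P, hP, hIP⟩ := (Ideal.subset_union_prime J J (fun i hi hne _ => hprime i (by simpa [hne] using hi))).mp this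
  rw [Finset.mem_insert, Set.Finite.mem_toFinset] at hP
  rcases hP with rfl | hP
  · exact hJ hIP
  · exact h P hP hIP

theorem maximalIdeal_not_le_sq (h : maximalIdeal R ≠ ⊥) : ¬ maximalIdeal R ≤ maximalIdeal R ^ 2 := fun hle =>
  h (Submodule.eq_bot_of_le_smul_of_le_jacobson_bot (maximalIdeal R) _ (IsNoetherian.noetherian _)
    (by rw [smul_eq_mul, ← pow_two]; exact hle) (maximalIdeal_le_jacobson _))

theorem isRegularLocalRing_of_maximalIdeal_eq_bot (h : maximalIdeal R = ⊥) : IsRegularLocalRing R := by
  refine IsRegularLocalRing.of_spanFinrank_maximalIdeal_le R ?_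
  rw [h, Submodule.spanFinrank_bot]
  exact ringKrullDim_nonneg_of_nontrivial

/-- A regular local ring is a domain. -/
theorem isDomain_of_isRegularLocalRing (R : Type u) [CommRing R] [IsRegularLocalRing R] : IsDomain R := by
  generalize hn : (maximalIdeal R).spanFinrank = n
  induction n generalizing R with
  | zero =>
    have : maximalIdeal R = ⊥ := (Submodule.spanFinrank_eq_zero_iff_eq_bot (IsNoetherian.noetherian _)).mp hn
    exact (isField_iff_maximalIdeal_eq.mpr this).isDomain
  | succ n ih =>
    have hbot : maximalIdeal R ≠ ⊥ := fun h => by rw [h, Submodule.spanFinrank_bot] at hn; omega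
    have hmin : ∀ P ∈ minimalPrimes R, ¬ maximalIdeal R ≤ P := by
      intro P hP hle
      have hPm : maximalIdeal R = P := le_antisymm hle (le_maximalIdeal hP.1.1.ne_top)
      have h0 : (maximalIdeal R).height = 0 := Ideal.height_eq_zero_iff.mpr (hPm ▸ hP)
      have h1 := IsRegularLocalRing.spanFinrank_maximalIdeal (R := R)
      rw [← maximalIdeal_height_eq_ringKrullDim, h0, hn] at h1
      norm_cast at h1
    obtain ⟨x, hx, hx2, hxmin⟩ := exists_mem_notMem_notMem (maximalIdeal_not_le_sq hbot)
      (minimalPrimes.finite_of_isNoetherianRing R) (fun P hP => hP.1.1) hmin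
    obtain ⟨hreg, -⟩ := isRegularLocalRing_quotient_span_singleton hx hx2
    have h1 := spanFinrank_maximalIdeal_quotient_lt hx hx2
    have h2 := spanFinrank_maximalIdeal_le_quotient_add_one (R := R) hx
    have := ih (R ⧸ Ideal.span {x}) (by omega)
    have hp : (Ideal.span {x}).IsPrime := (Ideal.Quotient.isDomain_iff_prime _).mp this
    obtain ⟨P, hP, hPx⟩ := Ideal.exists_minimalPrimes_le (I := (⊥ : Ideal R)) (J := Ideal.span {x}) bot_le
    have hPprime : P.IsPrime := hP.1.1
    have : P = ⊥ := Submodule.eq_bot_of_le_smul_of_le_jacobson_bot (maximalIdeal R) _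
      (IsNoetherian.noetherian _) (fun y hy => by
        obtain ⟨z, rfl⟩ := Ideal.mem_span_singleton.mp (hPx hy)
        have hz : z ∈ P := (hPprime.mem_or_mem hy).resolve_left (hxmin P hP)
        exact Ideal.mul_mem_mul hx hz) (maximalIdeal_le_jacobson _)
    subst this
    exact IsDomain.of_bot_isPrime R

theorem isSMulRegular_of_ne_zero_of_isRegularLocalRing (R : Type u) [CommRing R] [IsRegularLocalRing R]
    {x : R} (hx : x ≠ 0) : IsSMulRegular R x :=
  have := isDomain_of_isRegularLocalRing R
  fun _ _ h => mul_left_cancel₀ hx h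

/-- Every finite module over a regular local ring has projective dimension at most the dimension. -/
theorem pdLT_of_isRegularLocalRing (R : Type u) [CommRing R] [IsRegularLocalRing R] (n : ℕ)
    (hn : (maximalIdeal R).spanFinrank = n) (M : Type u) [AddCommGroup M] [Module R M] [Module.Finite R M] :
    PdLT R M (n + 1) := by
  induction n generalizing R M with
  | zero =>
    have : maximalIdeal R = ⊥ := (Submodule.spanFinrank_eq_zero_iff_eq_bot (IsNoetherian.noetherian _)).mp hn
    letI := (isField_iff_maximalIdeal_eq.mpr this).toField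
    rw [PdLT.one_iff]
    exact Module.Projective.of_free
  | succ n ih =>
    have hbot : maximalIdeal R ≠ ⊥ := fun h => by rw [h, Submodule.spanFinrank_bot] at hn; omega
    obtain ⟨x, hx, hx2, -⟩ := exists_mem_notMem_notMem (maximalIdeal_not_le_sq hbot)
      (S := ∅) Set.finite_empty (fun _ h => h.elim) (fun _ h => h.elim)
    have hx0 : x ≠ 0 := fun h => hx2 (h ▸ zero_mem _)
    obtain ⟨k, f, hf⟩ := exists_surjective_fin R M
    refine (PdLT.ker_iff f hf n).mpr ?_
    have hreg := isSMulRegular_of_ne_zero_of_isRegularLocalRing R hx0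
    have hxK : IsSMulRegular (LinearMap.ker f) x := fun a b hab =>
      Subtype.ext (funext fun i => hreg (congrFun (congrArg Subtype.val hab) i))
    obtain ⟨hq, -⟩ := isRegularLocalRing_quotient_span_singleton hx hx2
    have h1 := spanFinrank_maximalIdeal_quotient_lt hx hx2
    have h2 := spanFinrank_maximalIdeal_le_quotient_add_one (R := R) hx
    refine PdLT.of_quotient_of_isSMulRegular x hx hreg hxK n ?_
    have : Module.Finite (R ⧸ Ideal.span {x})
        (LinearMap.ker f ⧸ (Ideal.span {x} • ⊤ : Submodule R (LinearMap.ker f))) :=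
      Module.Finite.of_restrictScalars_finite R _ _
    exact ih _ (by omega) _

section DepthZero

/-- If the maximal ideal kills a nonzero element, finite modules of finite projective dimension are free. -/
theorem projective_of_pdLT_of_socle {a : R} (ha : a ≠ 0) (hm : ∀ y ∈ maximalIdeal R, a * y = 0) (n : ℕ)
    (M : Type u) [AddCommGroup M] [Module R M] [Module.Finite R M] (h : PdLT R M (n + 1)) :
    Module.Projective R M := by
  induction n generalizing M with
  | zero => exact PdLT.one_iff.mp h
  | succ n ih =>
    classical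
    have hfg : (⊤ : Submodule R M).FG := Module.Finite.fg_top
    have hfin := Submodule.FG.finite_generators hfg
    let S := hfin.toFinset
    let f : (S → R) →ₗ[R] M := Fintype.linearCombination R (fun s : S => (s : M))
    have hf : Function.Surjective f := by
      rw [← LinearMap.range_eq_top, Fintype.range_linearCombination, Subtype.range_coe_subtype]
      simp only [S, Set.Finite.mem_toFinset, Set.setOf_mem_eq]
      exact Submodule.span_generators _
    have hmin : ∀ c ∈ LinearMap.ker f, ∀ s, c s ∈ maximalIdeal R := by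
      intro c hc s
      by_contra hu
      obtain ⟨v, hv⟩ := (notMem_maximalIdeal.mp hu).exists_left_inv
      have hspan : Submodule.span R ((S.erase (s : M) : Finset M) : Set M) = ⊤ := by
        refine top_le_iff.mp ((Submodule.span_generators (⊤ : Submodule R M)).ge.trans (Submodule.span_le.mpr ?_))
        intro y hy
        by_cases hys : y = (s : M)
        · subst hys
          have h0 : ∑ i : S, c i • (i : M) = 0 := by
            simpa [f, Fintype.linearCombination_apply] using LinearMap.mem_ker.mp hc
          rw [← Finset.add_sum_erase _ _ (Finset.mem_univ s)] at h0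
          have : (s : M) = v • (- ∑ i ∈ Finset.univ.erase s, c i • (i : M)) := by
            rw [← eq_neg_of_add_eq_zero_left h0, smul_smul, hv, one_smul]
          refine SetLike.mem_coe.mpr ((congrArg (· ∈ Submodule.span R ((S.erase (s : M) : Finset M) : Set M)) this).mpr ?_)
          refine Submodule.smul_mem _ _ (neg_mem (sum_mem fun i hi => Submodule.smul_mem _ _ (Submodule.subset_span ?_)))
          exact Finset.mem_erase.mpr ⟨fun e => (Finset.mem_erase.mp hi).1 (Subtype.ext e), i.2⟩
        · exact Submodule.subset_span (Finset.mem_erase.mpr ⟨hys, hfin.mem_toFinset.mpr hy⟩)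
      have hle := Submodule.spanFinrank_span_le_ncard_of_finite (R := R) (Finset.finite_toSet (S.erase (s : M)))
      rw [hspan, Set.ncard_coe_finset] at hle
      have h1 : (S.erase (s : M)).card + 1 = S.card := Finset.card_erase_add_one s.2
      have h2 : S.card = (⊤ : Submodule R M).spanFinrank := by
        rw [← Submodule.FG.generators_ncard hfg, Set.ncard_eq_toFinset_card _ hfin]
      omega
    have hK := ih (LinearMap.ker f) ((PdLT.ker_iff f hf n).mp h)
    have := Module.free_of_flat_of_isLocalRing (R := R) (P := LinearMap.ker f)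
    have hker : LinearMap.ker f = ⊥ := by
      by_contra hne
      have : Nontrivial (LinearMap.ker f) := Submodule.nontrivial_iff_ne_bot.mpr hne
      have : a ∈ Module.annihilator R (LinearMap.ker f) := Module.mem_annihilator.mpr fun y =>
        Subtype.ext (funext fun s => hm _ (hmin y y.2 s))
      rw [Module.annihilator_eq_bot.mpr inferInstance, Submodule.mem_bot] at this
      exact ha this
    exact Module.Projective.of_equiv (LinearEquiv.ofBijective f ⟨LinearMap.ker_eq_bot.mp hker, hf⟩)

end DepthZero

/-- **Serre's criterion**: a local ring with a nonzero finite module killed by the maximal ideal, of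
finite projective dimension, is regular. -/
theorem isRegularLocalRing_of_pdLT (R : Type u) [CommRing R] [IsLocalRing R] [IsNoetherianRing R]
    (M : Type u) [AddCommGroup M] [Module R M] [Module.Finite R M] [Nontrivial M]
    (hM : ∀ y ∈ maximalIdeal R, ∀ z : M, y • z = 0) (n : ℕ) (h : PdLT R M (n + 1)) :
    IsRegularLocalRing R := by
  generalize hd : (maximalIdeal R).spanFinrank = d
  induction d using Nat.strong_induction_on generalizing R M with
  | _ d ih =>
    classical
    by_cases hbot : maximalIdeal R = ⊥
    · exact isRegularLocalRing_of_maximalIdeal_eq_bot hbot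
    by_cases hdepth : maximalIdeal R ∈ associatedPrimes R R
    · exfalso
      obtain ⟨hprime, a, ha⟩ := isAssociatedPrime_iff.mp (AssociatedPrimes.mem_iff.mp hdepth)
      have hm : ∀ y ∈ maximalIdeal R, a * y = 0 := fun y hy => by
        rw [ha, Submodule.mem_colon_singleton, Submodule.mem_bot, smul_eq_mul] at hy
        rw [mul_comm]; exact hy
      have ha0 : a ≠ 0 := fun h0 => (maximalIdeal.isMaximal R).ne_top
        ((Ideal.eq_top_iff_one _).mpr (by rw [ha, Submodule.mem_colon_singleton, h0, smul_zero]; exact zero_mem _))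
      have := projective_of_pdLT_of_socle ha0 hm n M h
      have := Module.free_of_flat_of_isLocalRing (R := R) (P := M)
      apply hbot
      rw [eq_bot_iff, ← Module.annihilator_eq_bot.mpr (inferInstance : FaithfulSMul R M)]
      exact fun y hy => Module.mem_annihilator.mpr (hM y hy)
    obtain ⟨x, hx, hx2, hxass⟩ := exists_mem_notMem_notMem (maximalIdeal_not_le_sq hbot)
      (associatedPrimes.finite R R) (fun P hP => hP.isPrime) (fun P hP hle => hdepth
        (le_antisymm hle (le_maximalIdeal hP.isPrime.ne_top) ▸ hP))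
    have hxreg : x ∈ nonZeroDivisors R := by
      by_contra hn
      have : x ∈ ((nonZeroDivisors R : Set R)ᶜ) := hn
      rw [← biUnion_associatedPrimes_eq_compl_nonZeroDivisors] at this
      simp only [Set.mem_iUnion, SetLike.mem_coe, exists_prop] at this
      obtain ⟨P, hP, hxP⟩ := this
      exact hxass P hP hxP
    have hxR : IsSMulRegular R x := fun a b h => by
      have h' : x * a = x * b := h
      exact sub_eq_zero.mp (hxreg.1 _ (by rw [mul_sub, h', sub_self]))
    -- the residue field is a retract of `M`, hence has finite projective dimension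
    have hnt : Nontrivial (ResidueField R) := Ideal.Quotient.nontrivial_iff.mpr (maximalIdeal.isMaximal R).ne_top
    let k := R ⧸ maximalIdeal R
    letI := Ideal.Quotient.field (maximalIdeal R)
    letI : Module k M := Module.IsTorsionBySet.module (I := maximalIdeal R) fun z y => hM y y.2 z
    obtain ⟨z, hz⟩ := exists_ne (0 : M)
    obtain ⟨φ, hφ⟩ : ∃ φ : Module.Dual k M, φ z ≠ 0 := by
      by_contra! hall
      exact hz ((Module.forall_dual_apply_eq_zero_iff k z).mp hall)
    have hk : PdLT R k (n + 1) := by
      refine PdLT.of_retract (LinearMap.toSpanSingleton k M ((φ z)⁻¹ • z) |>.restrictScalars R)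
        (φ.restrictScalars R) (LinearMap.ext fun c => ?_) h
      simp only [LinearMap.comp_apply, LinearMap.restrictScalars_apply, LinearMap.toSpanSingleton_apply,
        map_smul, smul_eq_mul, LinearMap.id_apply]
      rw [inv_mul_cancel₀ hφ, mul_one]
    -- hence so does the maximal ideal
    have hm : PdLT R (maximalIdeal R) (n + 1) := by
      have hR : PdLT R R (n + 1) := PdLT.mono (by omega) (PdLT.one_iff.mpr Module.Projective.of_free)
      refine PdLT.of_equiv (LinearEquiv.ofEq (LinearMap.ker (Submodule.mkQ (maximalIdeal R))) _ (Submodule.ker_mkQ _)) ?_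
      exact PdLT.ker_of_surjective (Submodule.mkQ_surjective (maximalIdeal R)) hR (PdLT.mono (by omega) hk)
    have hxm : IsSMulRegular (maximalIdeal R) x := fun a b hab => Subtype.ext (hxR (congrArg Subtype.val hab))
    have hle' : ∀ (J : Ideal R), J = Ideal.span {x} → ∀ [IsLocalRing (R ⧸ J)],
        (maximalIdeal (R ⧸ J)).spanFinrank + 1 ≤ d := by
      rintro J rfl _
      exact hd ▸ spanFinrank_maximalIdeal_quotient_lt hx hx2
    set I := Ideal.span {x} with hIdef
    have hI : I ≤ maximalIdeal R := by simpa [I, Ideal.span_le] using hx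
    have hloc := isLocalRing_quotient_of_le I hI
    have h1 := hle' I rfl
    have hq := PdLT.quotient_of_isSMulRegular x hxR hxm n hm
    -- the residue field is a retract of `m / x m`
    obtain ⟨ψ, hψ⟩ : ∃ ψ : Module.Dual (ResidueField R) (CotangentSpace R),
        ψ ((maximalIdeal R).toCotangent ⟨x, hx⟩) = 1 := by
      obtain ⟨ψ, hψ⟩ : ∃ ψ : Module.Dual (ResidueField R) (CotangentSpace R),
          ψ ((maximalIdeal R).toCotangent ⟨x, hx⟩) ≠ 0 := by
        by_contra! hall
        exact hx2 ((Ideal.toCotangent_eq_zero _ _).mp ((Module.forall_dual_apply_eq_zero_iff _ _).mp hall))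
      exact ⟨(ψ ((maximalIdeal R).toCotangent ⟨x, hx⟩))⁻¹ • ψ, by simp [hψ]⟩
    let π : (maximalIdeal R) →ₗ[R] ResidueField R := (ψ.restrictScalars R).comp (maximalIdeal R).toCotangent
    have hπI : (I • ⊤ : Submodule R (maximalIdeal R)) ≤ LinearMap.ker π := by
      refine Submodule.smul_le.mpr fun r hr y _ => ?_
      rw [LinearMap.mem_ker, map_smul, Algebra.smul_def,
        show algebraMap R (ResidueField R) r = 0 from (residue_eq_zero_iff r).mpr (hI hr), zero_mul]
    have hresI : ∀ r ∈ I, ∀ y : ResidueField R, r • y = 0 := fun r hr y => by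
      rw [Algebra.smul_def, show algebraMap R (ResidueField R) r = 0 from (residue_eq_zero_iff r).mpr (hI hr), zero_mul]
    letI : Module (R ⧸ I) (ResidueField R) := Module.IsTorsionBySet.module fun y r => hresI r r.2 y
    have hsm : ∀ (r : R) (y : ResidueField R), Ideal.Quotient.mk I r • y = r • y := fun r y => rfl
    let π' : ((maximalIdeal R) ⧸ (I • ⊤ : Submodule R (maximalIdeal R))) →ₗ[R ⧸ I] ResidueField R :=
      { toFun := Submodule.liftQ _ π hπI
        map_add' := map_add _
        map_smul' := fun c y => by
          obtain ⟨r, rfl⟩ := Ideal.Quotient.mk_surjective c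
          show Submodule.liftQ _ π hπI (r • y) = r • _
          rw [map_smul] }
    let i₀ : R →ₗ[R] ((maximalIdeal R) ⧸ (I • ⊤ : Submodule R (maximalIdeal R))) :=
      LinearMap.toSpanSingleton R _ (Submodule.Quotient.mk ⟨x, hx⟩)
    have hi₀ : maximalIdeal R ≤ LinearMap.ker i₀ := fun r hr => by
      rw [LinearMap.mem_ker, LinearMap.toSpanSingleton_apply, ← Submodule.Quotient.mk_smul,
        Submodule.Quotient.mk_eq_zero, mem_span_singleton_smul_top]
      exact ⟨⟨r, hr⟩, Subtype.ext (mul_comm x r)⟩
    let i' : ResidueField R →ₗ[R ⧸ I] ((maximalIdeal R) ⧸ (I • ⊤ : Submodule R (maximalIdeal R))) :=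
      { toFun := Submodule.liftQ (maximalIdeal R) i₀ hi₀
        map_add' := map_add (Submodule.liftQ (maximalIdeal R) i₀ hi₀)
        map_smul' := fun c y => by
          obtain ⟨r, rfl⟩ := Ideal.Quotient.mk_surjective c
          show Submodule.liftQ (maximalIdeal R) i₀ hi₀ (r • y) = r • _
          exact map_smul (Submodule.liftQ (maximalIdeal R) i₀ hi₀) r y }
    have hk' : PdLT (R ⧸ I) (ResidueField R) (n + 1) := by
      refine PdLT.of_retract i' π' (LinearMap.ext fun y => ?_) hq
      obtain ⟨r, rfl⟩ := residue_surjective y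
      show Submodule.liftQ _ π hπI (i₀ r) = _
      rw [LinearMap.toSpanSingleton_apply, map_smul, Submodule.liftQ_apply]
      show r • ψ ((maximalIdeal R).toCotangent ⟨x, hx⟩) = _
      rw [hψ, Algebra.smul_def, mul_one]; rfl
    have : Module.Finite (R ⧸ I) (ResidueField R) :=
      Module.Finite.of_surjective (LinearMap.toSpanSingleton (R ⧸ I) (ResidueField R) 1) fun y => by
        obtain ⟨r, rfl⟩ := residue_surjective y
        exact ⟨Ideal.Quotient.mk I r, by rw [LinearMap.toSpanSingleton_apply, hsm, Algebra.smul_def, mul_one]; rfl⟩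
    have hkill : ∀ y ∈ maximalIdeal (R ⧸ I), ∀ w : ResidueField R, y • w = 0 := by
      intro y hy w
      obtain ⟨r, rfl⟩ := Ideal.Quotient.mk_surjective y
      have hr : r ∈ maximalIdeal R := by
        by_contra hu
        exact (mem_maximalIdeal _).mp hy ((notMem_maximalIdeal.mp hu).map _)
      rw [hsm, Algebra.smul_def, show algebraMap R (ResidueField R) r = 0 from (residue_eq_zero_iff r).mpr hr, zero_mul]
    have := ih _ (by omega) (R ⧸ I) (ResidueField R) hkill hk' rfl
    exact isRegularLocalRing_of_quotient_span_singleton hx hxreg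

/-- A localization of a regular local ring at a prime is regular. -/
theorem isRegularLocalRing_localization_atPrime (R : Type u) [CommRing R] [IsRegularLocalRing R]
    (p : Ideal R) [p.IsPrime] : IsRegularLocalRing (Localization.AtPrime p) := by
  have h := (pdLT_of_isRegularLocalRing R _ rfl (R ⧸ p)).baseChange (Localization.AtPrime p)
  have : Nontrivial (TensorProduct R (Localization.AtPrime p) (R ⧸ p)) := by
    have : Nontrivial (Localization.AtPrime p ⧸ (p • ⊤ : Submodule R (Localization.AtPrime p))) := ?_
    exact (TensorProduct.tensorQuotEquivQuotSMul (Localization.AtPrime p) p).toEquiv.nontrivial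
    refine Submodule.Quotient.nontrivial_iff.mpr ?_
    rw [Ideal.smul_top_eq_map, ne_eq, Submodule.restrictScalars_eq_top_iff,
      Localization.AtPrime.map_eq_maximalIdeal]
    exact (maximalIdeal.isMaximal _).ne_top
  refine isRegularLocalRing_of_pdLT _ (TensorProduct R (Localization.AtPrime p) (R ⧸ p)) (fun y hy z => ?_) _ h
  rw [← Localization.AtPrime.map_eq_maximalIdeal] at hy
  induction z using TensorProduct.induction_on with
  | zero => rw [smul_zero]
  | add a b ha hb => rw [smul_add, ha, hb, add_zero]
  | tmul b w =>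
    rw [TensorProduct.smul_tmul']
    induction hy using Submodule.span_induction with
    | mem y hy =>
      obtain ⟨a, ha, rfl⟩ := hy
      rw [algebraMap_smul, TensorProduct.smul_tmul]
      obtain ⟨w, rfl⟩ := Ideal.Quotient.mk_surjective w
      rw [show a • Ideal.Quotient.mk p w = 0 from Ideal.Quotient.eq_zero_iff_mem.mpr (p.mul_mem_right w ha),
        TensorProduct.tmul_zero]
    | zero => rw [zero_smul, TensorProduct.zero_tmul]
    | add y y' _ _ hy hy' => rw [add_smul, TensorProduct.add_tmul, hy, hy', add_zero]
    | smul c y _ hy => rw [smul_assoc, ← TensorProduct.smul_tmul', hy, smul_zero]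

/-- Regularity descends along flat local homomorphisms. -/
theorem isRegularLocalRing_of_flat (A B : Type u) [CommRing A] [IsLocalRing A] [IsNoetherianRing A]
    [CommRing B] [IsRegularLocalRing B] [Algebra A B] [IsLocalHom (algebraMap A B)] [Module.Flat A B] :
    IsRegularLocalRing A := by
  have := Module.FaithfullyFlat.of_flat_of_isLocalHom (A := A) (B := B)
  refine isRegularLocalRing_of_pdLT A (A ⧸ maximalIdeal A) (fun y hy z => ?_) _
    (PdLT.of_baseChange B _ (pdLT_of_isRegularLocalRing B _ rfl _))
  obtain ⟨z, rfl⟩ := Ideal.Quotient.mk_surjective z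
  exact Ideal.Quotient.eq_zero_iff_mem.mpr ((maximalIdeal A).mul_mem_right z hy)

end Groth.Ega4Algebra1
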