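import Groth.Agent.Ega4Algebra1.RegularLocal
import Mathlib.RingTheory.Regular.RegularSequence
import Mathlib.RingTheory.Regular.ProjectiveDimension

/-!
Regular systems of parameters.
-/

universe u

open IsLocalRing RingTheory.Sequence

namespace Groth.Ega4Algebra1

theorem not_mem_sq_of_span_eq {R : Type u} [CommRing R] [IsLocalRing R] [IsNoetherianRing R] {n : ℕ}
    (x : Fin (n + 1) → R) (hx : Ideal.span (Set.range x) = maximalIdeal R)
    (hn : (maximalIdeal R).spanFinrank = n + 1) : x 0 ∉ maximalIdeal R ^ 2 := fun h => by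
  have hle : maximalIdeal R ≤ Ideal.span (Set.range (Fin.tail x)) := by
    refine Submodule.le_of_le_smul_of_le_jacobson_bot (IsNoetherian.noetherian _) (maximalIdeal_le_jacobson _) ?_
    conv_lhs => rw [← hx]
    rw [Ideal.span_le]
    rintro _ ⟨i, rfl⟩
    refine Fin.cases ?_ (fun j => ?_) i
    · exact Submodule.mem_sup_right (by rw [smul_eq_mul, ← pow_two]; exact h)
    · exact Submodule.mem_sup_left (Ideal.subset_span ⟨j, rfl⟩)
  have heq : maximalIdeal R = Ideal.span (Set.range (Fin.tail x)) :=
    le_antisymm hle (hx ▸ Ideal.span_mono (by rintro _ ⟨j, rfl⟩; exact ⟨j.succ, rfl⟩))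
  have := Submodule.spanFinrank_span_le_ncard_of_finite (R := R) (Set.finite_range (Fin.tail x))
  rw [show Submodule.span R (Set.range (Fin.tail x)) = maximalIdeal R from heq.symm, hn] at this
  have h2 : (Set.range (Fin.tail x)).ncard ≤ n := by
    rw [← Set.image_univ]
    exact (Set.ncard_image_le Set.finite_univ).trans (by simp)
  omega

theorem spanFinrank_eq_of_ringKrullDim {R : Type u} [CommRing R] [IsRegularLocalRing R] {d : ℕ}
    (hd : ringKrullDim R = d) : (maximalIdeal R).spanFinrank = d := by
  have := IsRegularLocalRing.spanFinrank_maximalIdeal (R := R)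
  rw [hd] at this; exact_mod_cast this

theorem isWeaklyRegular_of_span_eq (d : ℕ) (R : Type u) [CommRing R] [IsRegularLocalRing R]
    (hd : (maximalIdeal R).spanFinrank = d) (x : Fin d → R)
    (hx : Ideal.span (Set.range x) = maximalIdeal R) : IsWeaklyRegular R (List.ofFn x) := by
  induction d generalizing R with
  | zero => simp
  | succ n ih =>
    have hx0 : x 0 ∈ maximalIdeal R := hx ▸ Ideal.subset_span ⟨0, rfl⟩
    have hx2 := not_mem_sq_of_span_eq x hx hd
    obtain ⟨hreg, -⟩ := isRegularLocalRing_quotient_span_singleton hx0 hx2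
    have h1 := spanFinrank_maximalIdeal_quotient_lt hx0 hx2
    have h2 := spanFinrank_maximalIdeal_le_quotient_add_one (R := R) hx0
    rw [List.ofFn_succ, isWeaklyRegular_cons_iff']
    refine ⟨isSMulRegular_of_ne_zero_of_isRegularLocalRing R (fun h => hx2 (h ▸ zero_mem _)), ?_⟩
    have hspan : Ideal.span (Set.range fun i : Fin n => Ideal.Quotient.mk (Ideal.span {x 0}) (x i.succ)) =
        maximalIdeal (R ⧸ Ideal.span {x 0}) := by
      rw [← map_maximalIdeal_of_surjective (Ideal.Quotient.mk (Ideal.span {x 0})) Ideal.Quotient.mk_surjective,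
        ← hx, Ideal.map_span]
      refine le_antisymm (Ideal.span_mono ?_) (Ideal.span_le.mpr ?_)
      · rintro _ ⟨i, rfl⟩; exact ⟨x i.succ, ⟨i.succ, rfl⟩, rfl⟩
      · rintro _ ⟨_, ⟨i, rfl⟩, rfl⟩
        refine Fin.cases ?_ (fun j => ?_) i
        · rw [SetLike.mem_coe, Ideal.Quotient.eq_zero_iff_mem.mpr (Ideal.mem_span_singleton_self _)]; exact zero_mem _
        · exact Ideal.subset_span ⟨j, rfl⟩
    have := ih (R ⧸ Ideal.span {x 0}) (by omega) _ hspan
    have e : (QuotSMulTop (x 0) R) ≃ₗ[R ⧸ Ideal.span {x 0}] (R ⧸ Ideal.span {x 0}) :=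
      { (Submodule.quotEquivOfEq _ _ (by simp [← Submodule.ideal_span_singleton_smul, smul_eq_mul])).toAddEquiv with
        map_smul' := fun c y => by
          obtain ⟨c, rfl⟩ := Ideal.Quotient.mk_surjective c
          obtain ⟨y, rfl⟩ := Submodule.Quotient.mk_surjective _ y
          rfl }
    rw [e.isWeaklyRegular_congr, List.map_ofFn]
    exact this

theorem isRegular_of_span_eq (d : ℕ) (R : Type u) [CommRing R] [IsRegularLocalRing R]
    (hd : (maximalIdeal R).spanFinrank = d) (x : Fin d → R)
    (hx : Ideal.span (Set.range x) = maximalIdeal R) : IsRegular R (List.ofFn x) := by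
  refine ⟨isWeaklyRegular_of_span_eq d R hd x hx, ?_⟩
  rw [smul_eq_mul, Ideal.mul_top, Ne, eq_comm]
  intro h
  refine (maximalIdeal.isMaximal R).ne_top (top_le_iff.mp (h ▸ ?_))
  simp only [Ideal.ofList, List.mem_ofFn, Ideal.span_le]
  rintro y ⟨i, rfl⟩
  exact hx ▸ Ideal.subset_span ⟨i, rfl⟩

theorem ofList_ofFn {R : Type u} [CommRing R] {d : ℕ} (x : Fin d → R) :
    Ideal.ofList (List.ofFn x) = Ideal.span (Set.range x) := by
  simp [Ideal.ofList, List.mem_ofFn, Set.range]

theorem exists_span_eq_maximalIdeal {R : Type u} [CommRing R] [IsLocalRing R] [IsNoetherianRing R] {d : ℕ}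
    (hd : (maximalIdeal R).spanFinrank = d) :
    ∃ x : Fin d → R, Ideal.span (Set.range x) = maximalIdeal R := by
  classical
  have hfg : (maximalIdeal R).FG := IsNoetherian.noetherian _
  have hfin := Submodule.FG.finite_generators hfg
  have : Fintype (maximalIdeal R).generators := hfin.fintype
  have hcard : Fintype.card (maximalIdeal R).generators = d := by
    rw [← Set.toFinset_card, ← Set.ncard_eq_toFinset_card', Submodule.FG.generators_ncard hfg, hd]
  let e : Fin d ≃ (maximalIdeal R).generators := (Fintype.equivFinOfCardEq hcard).symm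
  exact ⟨fun i => e i, by
    rw [show (fun i => ((e i : (maximalIdeal R).generators) : R)) = Subtype.val ∘ e from rfl,
      Set.range_comp, e.surjective.range_eq, Set.image_univ, Subtype.range_coe]
    exact Submodule.span_generators _⟩

/-- If the residue field has projective dimension `< d`, the embedding dimension is `< d`. -/
theorem spanFinrank_lt_of_pdLT (R : Type u) [CommRing R] [IsRegularLocalRing R] (n : ℕ)
    (h : PdLT R (R ⧸ maximalIdeal R) n) : (maximalIdeal R).spanFinrank < n := by
  obtain ⟨x, hx⟩ := exists_span_eq_maximalIdeal (R := R) rfl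
  have hreg := isRegular_of_span_eq _ R rfl x hx
  have := ModuleCat.projectiveDimension_quotient_eq_length.{u} (List.ofFn x) hreg
  rw [List.length_ofFn, CategoryTheory.projectiveDimension_eq_of_iso
    (X := ModuleCat.of R (Shrink.{u} (R ⧸ Ideal.ofList (List.ofFn x)))) (Y := ModuleCat.of R (R ⧸ maximalIdeal R))
    ((Shrink.linearEquiv R (R ⧸ Ideal.ofList (List.ofFn x))).trans
      (Submodule.quotEquivOfEq _ _ ((ofList_ofFn x).trans hx))).toModuleIso] at this
  have h2 := (CategoryTheory.projectiveDimension_lt_iff (n := n)).mpr h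
  rw [this] at h2
  exact_mod_cast h2

theorem exists_params_of_regular_quotient (d : ℕ) (R : Type u) [CommRing R] [IsRegularLocalRing R]
    (hd : (maximalIdeal R).spanFinrank = d) (I : Ideal R) [IsRegularLocalRing (R ⧸ I)] :
    ∃ (x : Fin d → R) (c : ℕ) (hc : c ≤ d), Ideal.span (Set.range x) = maximalIdeal R ∧
      I = Ideal.span (Set.range (fun i : Fin c => x (Fin.castLE hc i))) := by
  have hbot : I = ⊥ → ∃ (x : Fin d → R) (c : ℕ) (hc : c ≤ d), Ideal.span (Set.range x) = maximalIdeal R ∧
      I = Ideal.span (Set.range (fun i : Fin c => x (Fin.castLE hc i))) := fun h => by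
    obtain ⟨x, hx⟩ := exists_span_eq_maximalIdeal hd
    exact ⟨x, 0, Nat.zero_le _, hx, by simp [h]⟩
  induction d generalizing R with
  | zero =>
    refine hbot (le_bot_iff.mp ((le_maximalIdeal ?_).trans
      ((Submodule.spanFinrank_eq_zero_iff_eq_bot (IsNoetherian.noetherian _)).mp hd).le))
    intro h
    exact not_subsingleton (R ⧸ I) (Ideal.Quotient.subsingleton_iff.mpr h)
  | succ n ih =>
    by_cases h0 : I = ⊥
    · exact hbot h0
    have hIm : I ≤ maximalIdeal R := le_maximalIdeal fun h =>
      not_subsingleton (R ⧸ I) (Ideal.Quotient.subsingleton_iff.mpr h)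
    obtain ⟨a, haI, ha2⟩ : ∃ a ∈ I, a ∉ maximalIdeal R ^ 2 := by
      by_contra! hsub
      -- then `dim R/I = dim R`, impossible in a domain
      have hq := IsRegularLocalRing.spanFinrank_maximalIdeal (R := R ⧸ I)
      have hle : n + 1 ≤ (maximalIdeal (R ⧸ I)).spanFinrank := by
        obtain ⟨y, hy⟩ := exists_span_eq_maximalIdeal (R := R ⧸ I) rfl
        choose l hl using fun i => Ideal.Quotient.mk_surjective (y i)
        have hm : maximalIdeal R ≤ Ideal.span (Set.range l) := by
          refine Submodule.le_of_le_smul_of_le_jacobson_bot (IsNoetherian.noetherian _) (maximalIdeal_le_jacobson _) ?_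
          intro z hz
          have h1 : Ideal.Quotient.mk I z ∈ (Ideal.span (Set.range l)).map (Ideal.Quotient.mk I) := by
            rw [Ideal.map_span, ← Set.range_comp, show Ideal.Quotient.mk I ∘ l = y from funext hl, hy,
              ← map_maximalIdeal_of_surjective (Ideal.Quotient.mk I) Ideal.Quotient.mk_surjective]
            exact Ideal.mem_map_of_mem _ hz
          rw [← Ideal.mem_comap, Ideal.comap_map_of_surjective' _ Ideal.Quotient.mk_surjective, Ideal.mk_ker] at h1
          have hle : Ideal.span (Set.range l) ⊔ I ≤ Ideal.span (Set.range l) ⊔ maximalIdeal R • maximalIdeal R :=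
            sup_le le_sup_left (fun w hw => Submodule.mem_sup_right (by rw [smul_eq_mul, ← pow_two]; exact hsub w hw))
          exact hle h1
        have hl' : Ideal.span (Set.range l) ≤ maximalIdeal R := by
          rw [Ideal.span_le]; rintro _ ⟨i, rfl⟩
          by_contra hu
          have : y i ∈ maximalIdeal (R ⧸ I) := hy ▸ Ideal.subset_span ⟨i, rfl⟩
          exact (mem_maximalIdeal _).mp this (hl i ▸ (notMem_maximalIdeal.mp hu).map _)
        rw [← hd, le_antisymm hm hl']
        refine (Submodule.spanFinrank_span_le_ncard_of_finite (Set.finite_range l)).trans ?_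
        rw [← Set.image_univ]
        exact (Set.ncard_image_le Set.finite_univ).trans (by simp)
      have := isDomain_of_isRegularLocalRing R
      obtain ⟨w, hwI, hw0⟩ := Submodule.exists_mem_ne_zero_of_ne_bot h0
      have h1 : ringKrullDim (R ⧸ I) + 1 ≤ ringKrullDim R :=
        le_trans (add_le_add_left (ringKrullDim_le_of_surjective (Ideal.Quotient.factor
          (show Ideal.span {w} ≤ I by rw [Ideal.span_le, Set.singleton_subset_iff]; exact hwI))
          (Ideal.Quotient.factor_surjective _)) 1)
          (ringKrullDim_quotient_succ_le_of_nonZeroDivisor (mem_nonZeroDivisors_of_ne_zero hw0))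
      rw [← hq, ← IsRegularLocalRing.spanFinrank_maximalIdeal, hd] at h1
      norm_cast at h1
      omega
    have ham : a ∈ maximalIdeal R := hIm haI
    obtain ⟨hreg, -⟩ := isRegularLocalRing_quotient_span_singleton ham ha2
    have h1 := spanFinrank_maximalIdeal_quotient_lt ham ha2
    have h2 := spanFinrank_maximalIdeal_le_quotient_add_one (R := R) ham
    set π := Ideal.Quotient.mk (Ideal.span {a})
    have hle : Ideal.span {a} ≤ I := by rw [Ideal.span_le, Set.singleton_subset_iff]; exact haI
    have : IsRegularLocalRing ((R ⧸ Ideal.span {a}) ⧸ I.map π) :=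
      IsRegularLocalRing.of_ringEquiv (DoubleQuot.quotQuotEquivQuotOfLE hle).symm
    have hn : (maximalIdeal (R ⧸ Ideal.span {a})).spanFinrank = n := by omega
    obtain ⟨y, c, hc, hy, hI⟩ := ih (R ⧸ Ideal.span {a}) hn (I.map π) (fun h => by
      obtain ⟨y, hy⟩ := exists_span_eq_maximalIdeal hn
      exact ⟨y, 0, Nat.zero_le _, hy, by simp [h]⟩)
    choose l hl using fun i => Ideal.Quotient.mk_surjective (y i)
    have key : ∀ (J : Ideal R), Ideal.span {a} ≤ J → ∀ (k : ℕ) (g : Fin k → R),
        J.map π = Ideal.span (Set.range fun i => π (g i)) → J = Ideal.span (Set.range (Fin.cons a g : Fin (k + 1) → R)) := by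
      intro J hJ k g hg
      rw [Fin.range_cons, Ideal.span_insert]
      have := congrArg (Ideal.comap π) hg
      rw [show (Set.range fun i => π (g i)) = π '' Set.range g from (Set.range_comp π g),
        ← Ideal.map_span, Ideal.comap_map_of_surjective' _ Ideal.Quotient.mk_surjective, Ideal.mk_ker,
        Ideal.comap_map_of_surjective' _ Ideal.Quotient.mk_surjective, Ideal.mk_ker, sup_eq_left.mpr hJ] at this
      rw [this, sup_comm]
    refine ⟨Fin.cons a l, c + 1, Nat.succ_le_succ hc, (key _ (by rw [Ideal.span_le, Set.singleton_subset_iff]; exact ham) n l ?_).symm, ?_⟩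
    · rw [map_maximalIdeal_of_surjective π Ideal.Quotient.mk_surjective, ← hy]
      simp [π, hl]
    · have h3 : (fun i : Fin (c + 1) => (Fin.cons a l : Fin (n + 1) → R) (Fin.castLE (Nat.succ_le_succ hc) i)) =
          Fin.cons a (fun i => l (Fin.castLE hc i)) := by
        funext i
        refine Fin.cases ?_ (fun j => ?_) i <;> simp
      rw [h3]
      refine key I hle c _ ?_
      rw [hI]
      simp [π, hl]

end Groth.Ega4Algebra1
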