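import Groth.Agent.Ega4Algebra1.GenericRegular
import Groth.Agent.Calg4.RegularFlat
import Groth.Agent.Ega41Sep.Separable
import Groth.Agent.S9246

/-!
Regularity ascends along smooth maps; regular loci of separable extensions of domains.
-/

universe u

namespace Groth.Ega4Algebra1

open EGA4

variable {R : Type u} [CommRing R] [IsNoetherianRing R]

/-- The polynomial ring is regular over regular points. -/
theorem isRegularLocalRing_mvPolynomial (n : ℕ) (q : Ideal (MvPolynomial (Fin n) R)) [q.IsPrime]
    [IsRegularLocalRing (Localization.AtPrime (q.comap (algebraMap R (MvPolynomial (Fin n) R))))] :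
    IsRegularLocalRing (Localization.AtPrime q) := by
  set p := q.comap (algebraMap R (MvPolynomial (Fin n) R))
  have : IsRegularRing (p.Fiber (MvPolynomial (Fin n) R)) :=
    IsRegularRing.of_ringEquiv (MvPolynomial.algebraTensorAlgEquiv R p.ResidueField).toRingEquiv.symm
  exact Groth.Calg4.isRegularLocalRing_localization_of_flat_of_fiber R _ q

/-- A standard smooth algebra is regular over the regular points of the base. -/
theorem mem_regLocus_of_isStandardSmooth (S : Type u) [CommRing S] [Algebra R S]
    [Algebra.IsStandardSmooth R S] (q : PrimeSpectrum S)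
    (h : PrimeSpectrum.comap (algebraMap R S) q ∈ regLocus R) : q ∈ regLocus S := by
  obtain ⟨n, g, hg, hgs⟩ := RingHom.IsStandardSmooth.exists_etale_mvPolynomial
    (f := algebraMap R S) (RingHom.isStandardSmooth_algebraMap.mpr ‹_›)
  let _ := g.toAlgebra
  have : Algebra.Etale (MvPolynomial (Fin n) R) S := RingHom.etale_algebraMap.mp hgs
  let P := q.asIdeal.comap (algebraMap (MvPolynomial (Fin n) R) S)
  have hP : IsRegularLocalRing (Localization.AtPrime (P.comap (algebraMap R (MvPolynomial (Fin n) R)))) :=
    isRegularLocalRing_of_eq (by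
      rw [PrimeSpectrum.comap_asIdeal, ← hg, ← Ideal.comap_comap]; rfl) h
  have := isRegularLocalRing_mvPolynomial n P
  exact (Groth.Agent.S9246.result (MvPolynomial (Fin n) R) S q.asIdeal).mp this

/-- A separable finite type extension of domains inherits a nonempty regular open subset. -/
theorem exists_open_regLocus_of_separable (A A' : Type u) [CommRing A] [CommRing A'] [IsDomain A] [IsDomain A']
    [IsNoetherianRing A] [Algebra A A'] [FaithfulSMul A A'] [Algebra.FiniteType A A']
    [Algebra (FractionRing A) (FractionRing A')] [IsScalarTower A (FractionRing A) (FractionRing A')]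
    [Algebra.IsGeometricallyReduced (FractionRing A) (FractionRing A')]
    (h : ∃ U : Set (PrimeSpectrum A), IsOpen U ∧ U.Nonempty ∧ U ⊆ regLocus A) :
    ∃ U' : Set (PrimeSpectrum A'), IsOpen U' ∧ U'.Nonempty ∧ U' ⊆ regLocus A' := by
  obtain ⟨s, hs, hreg⟩ := exists_open_regLocus_iff.mp h
  have : Algebra.FinitePresentation A A' := Algebra.FinitePresentation.of_finiteType.mp ‹_›
  have : Algebra.FormallySmooth (FractionRing A) (FractionRing A') :=
    (Groth.Ega41Sep.formallySmooth_iff_isGeometricallyReduced _ _).mpr ‹_›
  have : Algebra.FormallyEtale A (FractionRing A) :=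
    Algebra.FormallyEtale.of_isLocalization (Rₘ := FractionRing A) (nonZeroDivisors A)
  have : Algebra.FormallySmooth A (FractionRing A') := Algebra.FormallySmooth.comp A (FractionRing A) _
  have hsm : Algebra.IsSmoothAt A (⊥ : Ideal A') := by
    have : IsLocalization (nonZeroDivisors A') (Localization.AtPrime (⊥ : Ideal A')) := by
      have e : (⊥ : Ideal A').primeCompl = nonZeroDivisors A' := by
        ext x; exact ⟨fun hx => mem_nonZeroDivisors_of_ne_zero hx, fun hx => nonZeroDivisors.ne_zero hx⟩
      rw [← e]; infer_instance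
    exact Algebra.FormallySmooth.of_equiv ((IsLocalization.algEquiv (nonZeroDivisors A') (FractionRing A')
      (Localization.AtPrime (⊥ : Ideal A'))).restrictScalars A)
  obtain ⟨g, hg, hgs⟩ := Algebra.IsSmoothAt.exists_notMem_isStandardSmooth (R := A) (⊥ : Ideal A')
  refine exists_open_regLocus_iff.mpr ⟨g * algebraMap A A' s, mul_ne_zero hg ?_, fun q hq => ?_⟩
  · rwa [Ne, map_eq_zero_iff _ (FaithfulSMul.algebraMap_injective A A')]
  · obtain ⟨Q, rfl⟩ : q ∈ Set.range (PrimeSpectrum.comap (algebraMap A' (Localization.Away g))) := by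
      rw [PrimeSpectrum.localization_away_comap_range (Localization.Away g) g]
      exact fun hgq => hq (q.asIdeal.mul_mem_right _ hgq)
    refine (mem_regLocus_localization_iff _ Q).mp (mem_regLocus_of_isStandardSmooth (R := A) _ Q ?_)
    refine hreg _ fun hsq => hq (Ideal.mul_mem_left _ g ?_)
    rw [PrimeSpectrum.comap_asIdeal, IsScalarTower.algebraMap_eq A A' (Localization.Away g), ← Ideal.comap_comap] at hsq
    exact hsq

end Groth.Ega4Algebra1
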