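import Mathlib.RingTheory.IntegralClosure.IntegrallyClosed
import Mathlib.RingTheory.IntegralClosure.IsIntegral.AlmostIntegral
import Mathlib.RingTheory.Filtration
import Mathlib.RingTheory.Ideal.Quotient.Noetherian
import Mathlib.RingTheory.Ideal.Quotient.Operations

/-!
A Noetherian local ring with a nonzerodivisor `t` such that `A/(t)` is a normal domain is a normal domain.
-/

universe u

namespace Groth.Ega4Algebra1

variable {A : Type u} [CommRing A] [IsNoetherianRing A] [IsLocalRing A] {t : A}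

theorem exists_eq_pow_mul (ht : t ∈ IsLocalRing.maximalIdeal A) {a : A} (ha : a ≠ 0) :
    ∃ (n : ℕ) (a' : A), a = t ^ n * a' ∧ ¬ t ∣ a' := by
  classical
  have htop : Ideal.span {t} ≠ ⊤ := by
    rw [Ne, Ideal.span_singleton_eq_top]; exact ht
  have : ∃ n, ¬ t ^ n ∣ a := by
    by_contra h
    push Not at h
    exact ha (by
      rw [← Submodule.mem_bot A, ← Ideal.iInf_pow_eq_bot_of_isLocalRing (Ideal.span {t}) htop,
        Submodule.mem_iInf]
      intro n; rw [Ideal.span_singleton_pow, Ideal.mem_span_singleton]; exact h n)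
  obtain ⟨n, hn, hmin⟩ : ∃ n, ¬ t ^ n ∣ a ∧ ∀ m < n, t ^ m ∣ a :=
    ⟨Nat.find this, Nat.find_spec this, fun m hm => by simpa using Nat.find_min this hm⟩
  match n with
  | 0 => simp at hn
  | n + 1 =>
    obtain ⟨a', rfl⟩ := hmin n (Nat.lt_succ_self n)
    exact ⟨n, a', rfl, fun ⟨c, hc⟩ => hn ⟨c, by rw [hc, pow_succ]; ring⟩⟩

theorem isDomain_of_isPrime_span_singleton (ht : t ∈ IsLocalRing.maximalIdeal A) (hreg : t ∈ nonZeroDivisors A)
    (hp : (Ideal.span {t}).IsPrime) : IsDomain A := by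
  have : NoZeroDivisors A := ⟨fun {a b} hab => by
    by_contra! h
    obtain ⟨n, a', rfl, ha'⟩ := exists_eq_pow_mul ht h.1
    obtain ⟨m, b', rfl, hb'⟩ := exists_eq_pow_mul ht h.2
    have h0 : a' * b' = 0 :=
      (pow_mem hreg (n + m)).1 _ (by rw [← hab, pow_add]; ring)
    rcases hp.mem_or_mem (x := a') (y := b') (by rw [h0]; exact zero_mem _) with h' | h'
    · exact ha' (Ideal.mem_span_singleton.mp h')
    · exact hb' (Ideal.mem_span_singleton.mp h')⟩
  exact NoZeroDivisors.to_isDomain A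

theorem isIntegrallyClosed_of_isPrime_span_singleton [IsDomain A] (ht : t ∈ IsLocalRing.maximalIdeal A)
    (ht0 : t ≠ 0) (hp : (Ideal.span {t}).IsPrime) [IsIntegrallyClosed (A ⧸ Ideal.span {t})] :
    IsIntegrallyClosed A := by
  have hpr : Prime t := (Ideal.span_singleton_prime ht0).mp hp
  refine (isIntegrallyClosed_iff (FractionRing A)).mpr fun {x} hx => ?_
  obtain ⟨a, b, hbm, rfl⟩ := IsFractionRing.div_surjective A x
  have hb0 : b ≠ 0 := nonZeroDivisors.ne_zero hbm
  obtain ⟨c, hcm, hc⟩ := hx.isAlmostIntegral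
  have hc0 : c ≠ 0 := nonZeroDivisors.ne_zero hcm
  have hbK : algebraMap A (FractionRing A) b ≠ 0 := IsFractionRing.to_map_ne_zero_of_mem_nonZeroDivisors hbm
  have hdiv : ∀ n, b ^ n ∣ c * a ^ n := by
    intro n
    obtain ⟨d, hd⟩ := hc n
    refine ⟨d, IsFractionRing.injective A (FractionRing A) ?_⟩
    rw [map_mul, map_mul, map_pow, map_pow, hd, Algebra.smul_def, div_pow]
    field_simp
  obtain ⟨s, β, hb, hβ⟩ := exists_eq_pow_mul ht hb0
  obtain ⟨e, γ, hcγ, hγ⟩ := exists_eq_pow_mul ht hc0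
  suffices H : ∀ n, ∃ r, t ^ n ∣ a - b * r by
    have htop : Ideal.span {t} ≠ ⊤ := by rw [Ne, Ideal.span_singleton_eq_top]; exact ht
    have hmem : (Submodule.Quotient.mk a : A ⧸ Ideal.span {b}) ∈
        (⨅ n : ℕ, (Ideal.span {t}) ^ n • (⊤ : Submodule A (A ⧸ Ideal.span {b}))) := by
      rw [Submodule.mem_iInf]
      intro n
      obtain ⟨r, z, hz⟩ := H n
      have : (Submodule.Quotient.mk a : A ⧸ Ideal.span {b}) =
          t ^ n • (Submodule.Quotient.mk z : A ⧸ Ideal.span {b}) := by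
        rw [← Submodule.Quotient.mk_smul, Submodule.Quotient.eq]
        rw [smul_eq_mul, ← hz, Ideal.mem_span_singleton]
        exact ⟨r, by ring⟩
      rw [this]
      exact Submodule.smul_mem_smul (by rw [Ideal.span_singleton_pow]; exact Ideal.mem_span_singleton_self _)
        trivial
    rw [Ideal.iInf_pow_smul_eq_bot_of_isLocalRing _ htop, Submodule.mem_bot,
      Submodule.Quotient.mk_eq_zero, Ideal.mem_span_singleton] at hmem
    obtain ⟨y, rfl⟩ := hmem
    exact ⟨y, by rw [map_mul, mul_div_cancel_left₀ _ hbK]⟩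
  intro n
  induction n with
  | zero => exact ⟨0, by simp⟩
  | succ n ih =>
    obtain ⟨r, α, hα⟩ := ih
    by_cases hta : t ∣ α
    · obtain ⟨α', rfl⟩ := hta
      exact ⟨r, α', by rw [hα, pow_succ]; ring⟩
    -- `(a - b r) / b` is almost integral with the same denominator
    have hdiv' : ∀ m, b ^ m ∣ c * (a - b * r) ^ m := by
      intro m
      rw [sub_eq_add_neg, add_pow, Finset.mul_sum]
      refine Finset.dvd_sum fun i hi => ?_
      have him : i ≤ m := Nat.lt_succ_iff.mp (Finset.mem_range.mp hi)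
      obtain ⟨d, hd⟩ := hdiv i
      refine ⟨d * ((-r) ^ (m - i) * (m.choose i : A)), ?_⟩
      have hbm' : b ^ m = b ^ i * b ^ (m - i) := by rw [← pow_add, Nat.add_sub_cancel' him]
      rw [neg_mul_eq_mul_neg, mul_pow, hbm']
      linear_combination (b ^ (m - i) * (-r) ^ (m - i) * (m.choose i : A)) * hd
    have hord : ∀ m, s * m ≤ e + n * m := by
      intro m
      obtain ⟨d, hd⟩ := hdiv' m
      rw [hα, hb, hcγ] at hd
      by_contra! hlt
      have h1 : t ∣ γ * α ^ m := by
        refine ⟨t ^ (s * m - (e + n * m) - 1) * β ^ m * d, mul_left_cancel₀ (pow_ne_zero (e + n * m) ht0) ?_⟩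
        have : s * m = e + n * m + 1 + (s * m - (e + n * m) - 1) := by omega
        rw [mul_pow, mul_pow, ← pow_mul, ← pow_mul, this] at hd
        linear_combination hd
      rcases hpr.dvd_or_dvd h1 with h | h
      · exact hγ h
      · exact hta (hpr.dvd_of_dvd_pow h)
    have hsn : s ≤ n := by
      by_contra! h
      have := hord (e + 1)
      have : (n + 1) * (e + 1) ≤ s * (e + 1) := Nat.mul_le_mul_right _ h
      grind
    obtain ⟨k, hk⟩ := Nat.exists_eq_add_of_le hsn
    have hmod : ∀ m, ∃ δ, γ * α ^ m = β ^ m * δ := by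
      intro m
      obtain ⟨d, hd⟩ := hdiv' m
      rw [hα, hb, hcγ, hk] at hd
      have hd' : t ^ (e + k * m) * (γ * α ^ m) = β ^ m * d := by
        refine mul_left_cancel₀ (pow_ne_zero (s * m) ht0) ?_
        rw [mul_pow, mul_pow, ← pow_mul, ← pow_mul] at hd
        linear_combination hd
      obtain ⟨δ, rfl⟩ : t ^ (e + k * m) ∣ d :=
        hpr.pow_dvd_of_dvd_mul_left _ (fun h => hβ (hpr.dvd_of_dvd_pow h)) ⟨_, hd'.symm⟩
      exact ⟨δ, mul_left_cancel₀ (pow_ne_zero (e + k * m) ht0) (by linear_combination hd')⟩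
    let π := Ideal.Quotient.mk (Ideal.span {t})
    have hne : ∀ z, ¬ t ∣ z → π z ≠ 0 := fun z hz h =>
      hz (Ideal.mem_span_singleton.mp (Ideal.Quotient.eq_zero_iff_mem.mp h))
    have hβK : algebraMap (A ⧸ Ideal.span {t}) (FractionRing (A ⧸ Ideal.span {t})) (π β) ≠ 0 := fun h =>
      hne β hβ (IsFractionRing.injective _ (FractionRing (A ⧸ Ideal.span {t})) (h.trans (map_zero _).symm))
    have : IsAlmostIntegral (A ⧸ Ideal.span {t})
        (algebraMap _ (FractionRing (A ⧸ Ideal.span {t})) (π α) / algebraMap _ _ (π β)) := by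
      refine ⟨π γ, mem_nonZeroDivisors_of_ne_zero (hne γ hγ), fun m => ?_⟩
      obtain ⟨δ, hδ⟩ := hmod m
      refine ⟨π δ, ?_⟩
      rw [Algebra.smul_def, div_pow, ← map_pow, ← map_pow, ← mul_div_assoc, ← map_mul]
      rw [show π γ * π (α ^ m) = π (β ^ m) * π δ by rw [← map_mul, ← map_mul, hδ], map_pow π β m]
      rw [map_mul, map_pow, mul_div_cancel_left₀ _ (pow_ne_zero _ hβK)]
    obtain ⟨ρ, hρ⟩ := IsIntegrallyClosed.isIntegral_iff.mp this.isIntegral
    obtain ⟨ρ, rfl⟩ := Ideal.Quotient.mk_surjective ρ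
    rw [eq_div_iff hβK, ← map_mul, (IsFractionRing.injective _ (FractionRing (A ⧸ Ideal.span {t}))).eq_iff,
      ← map_mul, Ideal.Quotient.mk_eq_mk_iff_sub_mem, Ideal.mem_span_singleton] at hρ
    obtain ⟨w, hw⟩ := hρ
    refine ⟨r + t ^ k * ρ, -w, ?_⟩
    have : a - b * (r + t ^ k * ρ) = (a - b * r) - b * t ^ k * ρ := by ring
    rw [this, hα, hb, hk]
    linear_combination (-(t ^ (s + k))) * hw

end Groth.Ega4Algebra1
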