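import Groth.Agent.Ega4Algebra1.RegularLocal
import Groth.Agent.Ega4Algebra1.PrincipalPrime

/-!
Regular local rings are normal.
-/

universe u

namespace Groth.Ega4Algebra1

open IsLocalRing

/-- A regular local ring is integrally closed. -/
theorem isIntegrallyClosed_of_isRegularLocalRing (R : Type u) [CommRing R] [IsRegularLocalRing R] :
    IsIntegrallyClosed R := by
  have := isDomain_of_isRegularLocalRing R
  generalize hn : (maximalIdeal R).spanFinrank = n
  induction n generalizing R with
  | zero =>
    have : maximalIdeal R = ⊥ := (Submodule.spanFinrank_eq_zero_iff_eq_bot (IsNoetherian.noetherian _)).mp hn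
    let := (isField_iff_maximalIdeal_eq.mpr this).toField
    infer_instance
  | succ n ih =>
    have hbot : maximalIdeal R ≠ ⊥ := fun h => by rw [h, Submodule.spanFinrank_bot] at hn; omega
    obtain ⟨x, hx, hx2⟩ := SetLike.not_le_iff_exists.mp (maximalIdeal_not_le_sq hbot)
    obtain ⟨hreg, -⟩ := isRegularLocalRing_quotient_span_singleton hx hx2
    have h1 := spanFinrank_maximalIdeal_quotient_lt hx hx2
    have h2 := spanFinrank_maximalIdeal_le_quotient_add_one (R := R) hx
    have hdom := isDomain_of_isRegularLocalRing (R ⧸ Ideal.span {x})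
    have : IsIntegrallyClosed (R ⧸ Ideal.span {x}) := ih (R ⧸ Ideal.span {x}) hdom (by omega)
    exact isIntegrallyClosed_of_isPrime_span_singleton hx (fun h => hx2 (h ▸ zero_mem _))
      ((Ideal.Quotient.isDomain_iff_prime _).mp hdom)

end Groth.Ega4Algebra1
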