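import Mathlib

/-!
A finitely generated field extension becomes separable after a finite purely inseparable extension of
the base.
-/

universe u

namespace Groth.Ega4Algebra1

open IntermediateField

theorem exists_finset_mem_adjoin {k Ω : Type u} [Field k] [Field Ω] [Algebra k Ω]
    (K₀ : IntermediateField k Ω) (S : Set Ω) (x : Ω) (hx : x ∈ adjoin K₀ S) :
    ∃ T : Finset Ω, (T : Set Ω) ⊆ K₀ ∧ x ∈ adjoin k ((T : Set Ω) ∪ S) := by
  classical
  induction hx using adjoin_induction with
  | mem y hy => exact ⟨∅, by simp, subset_adjoin _ _ (Or.inr hy)⟩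
  | algebraMap y => exact ⟨{(y : Ω)}, by simp, subset_adjoin _ _ (Or.inl (by simp))⟩
  | add y z _ _ hy hz =>
    obtain ⟨T, hT, hyT⟩ := hy
    obtain ⟨T', hT', hzT⟩ := hz
    refine ⟨T ∪ T', by rw [Finset.coe_union]; exact Set.union_subset hT hT', add_mem ?_ ?_⟩
    · exact adjoin.mono _ _ _ (Set.union_subset_union_left _ (by simp)) hyT
    · exact adjoin.mono _ _ _ (Set.union_subset_union_left _ (by simp)) hzT
  | inv y _ hy =>
    obtain ⟨T, hT, hyT⟩ := hy
    exact ⟨T, hT, inv_mem hyT⟩
  | mul y z _ _ hy hz =>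
    obtain ⟨T, hT, hyT⟩ := hy
    obtain ⟨T', hT', hzT⟩ := hz
    refine ⟨T ∪ T', by rw [Finset.coe_union]; exact Set.union_subset hT hT', mul_mem ?_ ?_⟩
    · exact adjoin.mono _ _ _ (Set.union_subset_union_left _ (by simp)) hyT
    · exact adjoin.mono _ _ _ (Set.union_subset_union_left _ (by simp)) hzT

theorem isSeparable_adjoin_image {K Ω : Type u} [Field K] [Field Ω] [Algebra K Ω]
    (E : IntermediateField K Ω) (s : Set E) (x : E) (hx : IsSeparable (adjoin K s) x) :
    IsSeparable (adjoin K (Subtype.val '' s)) (x : Ω) := by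
  have h2 : IsSeparable (adjoin K s) ((IsScalarTower.toAlgHom (adjoin K s) E Ω) x) :=
    hx.map (f := IsScalarTower.toAlgHom (adjoin K s) E Ω) Subtype.val_injective
  rw [← lift_adjoin]
  exact h2.of_equiv_equiv (liftAlgEquiv (adjoin K s)).toRingEquiv (RingEquiv.refl Ω) (RingHom.ext fun _ => rfl)

theorem isSeparable_of_coeff_mem_range {F L Ω : Type u} [Field F] [Field L] [Field Ω] [Algebra F Ω]
    [Algebra L Ω] (i : F →+* L) (hi : (algebraMap L Ω).comp i = algebraMap F Ω) (x : Ω)
    (hx : IsSeparable L x) (hc : ∀ j, (minpoly L x).coeff j ∈ i.range) : IsSeparable F x := by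
  obtain ⟨q, hq⟩ := (Polynomial.mem_map_range i).mpr hc
  rw [Polynomial.coe_mapRingHom] at hq
  have hqroot : Polynomial.aeval x q = 0 := by
    have := minpoly.aeval L x
    rw [← hq, Polynomial.aeval_def, Polynomial.eval₂_map, hi] at this
    exact this
  have hqsep : q.Separable := (Polynomial.separable_map i).mp (by rw [hq]; exact hx)
  exact hqsep.of_dvd (minpoly.dvd _ x hqroot)

set_option maxHeartbeats 2000000 in
set_option synthInstance.maxHeartbeats 100000 in
/-- A finitely generated `K / k` inside an algebraically closed `Ω`: some finite purely inseparable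
`k₁ / k` makes the compositum `k₁ K` formally smooth (separable) over `k₁`. -/
theorem exists_finite_purelyInseparable_formallySmooth {k Ω : Type u} [Field k] [Field Ω] [IsAlgClosed Ω]
    [Algebra k Ω] (G : Finset Ω) :
    ∃ k₁ : IntermediateField k Ω, FiniteDimensional k k₁ ∧
      Algebra.FormallySmooth k₁ (adjoin k₁ (G : Set Ω)) := by
  classical
  let kp := perfectClosure k Ω
  let Ep := adjoin kp (G : Set Ω)
  have : Algebra.EssFiniteType kp Ep := essFiniteType_iff.mpr ⟨G, rfl⟩
  obtain ⟨s, hs, hsep⟩ := exists_isTranscendenceBasis_and_isSeparable_of_perfectField kp Ep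
  let σ : Finset Ω := s.image (↑)
  -- descend the transcendence basis and the separable equations
  have h1 : ∀ y ∈ σ, ∃ T : Finset Ω, (T : Set Ω) ⊆ kp ∧ y ∈ adjoin k ((T : Set Ω) ∪ (G : Set Ω)) := by
    intro y hy
    obtain ⟨z, -, rfl⟩ := Finset.mem_image.mp hy
    exact exists_finset_mem_adjoin kp _ _ z.2
  have hxsep : ∀ x ∈ G, IsSeparable (adjoin kp (σ : Set Ω)) x := by
    intro x hx
    have := isSeparable_adjoin_image (K := kp) Ep (s : Set Ep) ⟨x, subset_adjoin _ _ hx⟩
      (Algebra.IsSeparable.isSeparable _ _)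
    rw [Finset.coe_image]
    exact this
  let coeffs : Finset Ω := G.biUnion fun x =>
    (minpoly (adjoin kp (σ : Set Ω)) x).support.image fun i => (((minpoly (adjoin kp (σ : Set Ω)) x).coeff i : adjoin kp (σ : Set Ω)) : Ω)
  have h3 : ∀ y ∈ coeffs, ∃ T : Finset Ω, (T : Set Ω) ⊆ kp ∧ y ∈ adjoin k ((T : Set Ω) ∪ (σ : Set Ω)) := by
    intro y hy
    obtain ⟨x, -, hy⟩ := Finset.mem_biUnion.mp hy
    obtain ⟨i, -, rfl⟩ := Finset.mem_image.mp hy
    exact exists_finset_mem_adjoin kp _ _ (SetLike.coe_mem _)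
  choose T₁ hT₁ hyT₁ using h1
  choose T₂ hT₂ hyT₂ using h3
  let T : Finset Ω := (σ.attach.biUnion fun y => T₁ y.1 y.2) ∪ (coeffs.attach.biUnion fun y => T₂ y.1 y.2)
  have hT : (T : Set Ω) ⊆ kp := by
    intro z hz
    rcases Finset.mem_union.mp hz with hz | hz <;> obtain ⟨y, -, hy⟩ := Finset.mem_biUnion.mp hz
    exacts [hT₁ _ _ hy, hT₂ _ _ hy]
  have hfin : FiniteDimensional k (adjoin k (T : Set Ω)) := finiteDimensional_adjoin fun z hz =>
    isIntegral_iff.mp (Algebra.IsIntegral.isIntegral (R := k) (⟨z, hT hz⟩ : kp))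
  refine ⟨adjoin k (T : Set Ω), hfin, ?_⟩
  set k₁ := adjoin k (T : Set Ω)
  have hle : k₁ ≤ kp := adjoin_le_iff.mpr hT
  let _ : Algebra k₁ kp := (inclusion hle).toRingHom.toAlgebra
  have : IsScalarTower k₁ kp Ω := IsScalarTower.of_algebraMap_eq fun _ => rfl
  let v : s → Ω := fun i => ((i : Ep) : Ω)
  have hrange : Set.range v = (σ : Set Ω) := by ext; simp [v, σ]
  have hv : AlgebraicIndependent k₁ v :=
    AlgebraicIndependent.restrictScalars (R := k₁) (K := kp) (inclusion hle).injective (hs.1.map' (f := Ep.val) Subtype.val_injective)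
  let F₁ := adjoin k₁ (σ : Set Ω)
  have hσ : (σ : Set Ω) ⊆ adjoin k₁ (G : Set Ω) := fun y hy => by
    have := adjoin.mono k _ _ (Set.union_subset_union_left (G : Set Ω)
      (show ((T₁ y hy : Finset Ω) : Set Ω) ⊆ T from fun z hz =>
        Finset.mem_union_left _ (Finset.mem_biUnion.mpr ⟨⟨y, hy⟩, Finset.mem_attach _ _, hz⟩))) (hyT₁ y hy)
    rw [← adjoin_adjoin_left] at this
    exact this
  have hEeq : (adjoin F₁ (G : Set Ω)).restrictScalars k₁ = adjoin k₁ (G : Set Ω) := by
    rw [adjoin_adjoin_left]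
    exact le_antisymm (adjoin_le_iff.mpr (Set.union_subset hσ (subset_adjoin _ _)))
      (adjoin.mono _ _ _ Set.subset_union_right)
  have hGsep : Algebra.IsSeparable F₁ (adjoin F₁ (G : Set Ω)) := by
    refine (IntermediateField.isSeparable_adjoin_iff_isSeparable _ _).mpr fun x hx => ?_
    let i : F₁ →+* adjoin kp (σ : Set Ω) := Subring.inclusion (S := F₁.toSubalgebra.toSubring) (T := (adjoin kp (σ : Set Ω)).toSubalgebra.toSubring) (fun z hz => by
      have : z ∈ adjoin k ((T : Set Ω) ∪ (σ : Set Ω)) := by rw [← adjoin_adjoin_left]; exact hz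
      exact (adjoin_le_iff (T := (adjoin kp (σ : Set Ω)).restrictScalars k)).mpr
        (Set.union_subset (hT.trans fun w hw => IntermediateField.algebraMap_mem (adjoin kp (σ : Set Ω)) (⟨w, hw⟩ : kp)) (subset_adjoin _ _)) this)
    have hmem : ∀ j, (minpoly (adjoin kp (σ : Set Ω)) x).coeff j ∈ i.range := fun j => by
      by_cases hj : j ∈ (minpoly (adjoin kp (σ : Set Ω)) x).support
      · have hy : (((minpoly (adjoin kp (σ : Set Ω)) x).coeff j : adjoin kp (σ : Set Ω)) : Ω) ∈ coeffs :=
          Finset.mem_biUnion.mpr ⟨x, hx, Finset.mem_image.mpr ⟨j, hj, rfl⟩⟩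
        have := adjoin.mono k _ _ (Set.union_subset_union_left (σ : Set Ω)
          (show ((T₂ _ hy : Finset Ω) : Set Ω) ⊆ T from fun z hz =>
            Finset.mem_union_right _ (Finset.mem_biUnion.mpr ⟨⟨_, hy⟩, Finset.mem_attach _ _, hz⟩))) (hyT₂ _ hy)
        rw [← adjoin_adjoin_left] at this
        exact ⟨⟨_, this⟩, Subtype.ext rfl⟩
      · rw [Polynomial.notMem_support_iff.mp hj]; exact zero_mem _
    exact isSeparable_of_coeff_mem_range i (RingHom.ext fun _ => rfl) x (hxsep x hx) hmem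
  have : Algebra.FormallySmooth k₁ F₁ := by
    have := Algebra.FormallySmooth.adjoin_of_algebraicIndependent hv
    rw [hrange] at this
    exact this
  have : Algebra.FormallyEtale F₁ (adjoin F₁ (G : Set Ω)) := Algebra.FormallyEtale.of_isSeparable _ _
  have : Algebra.FormallySmooth k₁ (adjoin F₁ (G : Set Ω)) := Algebra.FormallySmooth.comp k₁ F₁ _
  have : Algebra.FormallySmooth k₁ ↥((adjoin F₁ (G : Set Ω)).restrictScalars k₁) := ‹Algebra.FormallySmooth k₁ (adjoin F₁ (G : Set Ω))›
  exact Algebra.FormallySmooth.of_equiv (equivOfEq hEeq)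

end Groth.Ega4Algebra1
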