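import Mathlib.RingTheory.Flat.FaithfullyFlat.Algebra
import Mathlib.RingTheory.IntegralClosure.IntegrallyClosed
import Mathlib.RingTheory.RingHom.Flat
import Mathlib.RingTheory.Localization.AtPrime.Basic

/-!
Descent of reduced, domain, integrally closed along faithfully flat maps; faithful flatness of the
local homomorphisms of a flat ring map.
-/

universe u v

namespace Groth.Ega4Algebra1

variable (A : Type u) (B : Type v) [CommRing A] [CommRing B] [Algebra A B]

theorem algebraMap_injective_of_faithfullyFlat' [Module.FaithfullyFlat A B] :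
    Function.Injective (algebraMap A B) := by
  rw [RingHom.injective_iff_ker_eq_bot, RingHom.ker_eq_comap_bot, ← Ideal.map_bot (f := algebraMap A B)]
  exact Ideal.comap_map_eq_self_of_faithfullyFlat ⊥

theorem isDomain_of_faithfullyFlat [Module.FaithfullyFlat A B] [IsDomain B] : IsDomain A :=
  (algebraMap_injective_of_faithfullyFlat' A B).isDomain

theorem isReduced_of_faithfullyFlat [Module.FaithfullyFlat A B] [IsReduced B] : IsReduced A :=
  isReduced_of_injective _ (algebraMap_injective_of_faithfullyFlat' A B)

theorem dvd_of_map_dvd_of_faithfullyFlat [Module.FaithfullyFlat A B] {a b : A}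
    (h : algebraMap A B b ∣ algebraMap A B a) : b ∣ a := by
  rw [← Ideal.mem_span_singleton, ← Ideal.comap_map_eq_self_of_faithfullyFlat (B := B) (Ideal.span {b}),
    Ideal.mem_comap, Ideal.map_span, Set.image_singleton]
  exact Ideal.mem_span_singleton.mpr h

theorem isIntegrallyClosed_of_faithfullyFlat [Module.FaithfullyFlat A B] [IsDomain B]
    [IsIntegrallyClosed B] : IsIntegrallyClosed A := by
  haveI := isDomain_of_faithfullyFlat A B
  refine (isIntegrallyClosed_iff (FractionRing A)).mpr fun {x} hx => ?_
  obtain ⟨a, b, hb, rfl⟩ := IsFractionRing.div_surjective A x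
  have hinj : Function.Injective ((algebraMap B (FractionRing B)).comp (algebraMap A B)) :=
    (IsFractionRing.injective B (FractionRing B)).comp (algebraMap_injective_of_faithfullyFlat' A B)
  let φ : FractionRing A →+* FractionRing B := IsFractionRing.lift hinj
  have hφ : ∀ r, φ (algebraMap A _ r) = algebraMap B (FractionRing B) (algebraMap A B r) := fun r =>
    IsFractionRing.lift_algebraMap hinj r
  obtain ⟨p, hmon, hp⟩ := hx
  have hint : IsIntegral B (φ (algebraMap A _ a / algebraMap A _ b)) := by
    refine ⟨p.map (algebraMap A B), hmon.map _, ?_⟩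
    rw [Polynomial.eval₂_map]
    have : (algebraMap B (FractionRing B)).comp (algebraMap A B) = φ.comp (algebraMap A (FractionRing A)) :=
      RingHom.ext fun r => (hφ r).symm
    rw [this, ← Polynomial.hom_eval₂, hp, map_zero]
  obtain ⟨c, hc⟩ := IsIntegrallyClosed.isIntegral_iff.mp hint
  have hb0 : algebraMap A B b ≠ 0 := fun h =>
    nonZeroDivisors.ne_zero hb (algebraMap_injective_of_faithfullyFlat' A B (h.trans (map_zero _).symm))
  rw [map_div₀, hφ, hφ, eq_div_iff (by simpa using hb0), ← map_mul] at hc
  have h' := IsFractionRing.injective B (FractionRing B) hc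
  obtain ⟨y, rfl⟩ := dvd_of_map_dvd_of_faithfullyFlat A B (a := a) (b := b)
    ⟨c, by rw [← h', mul_comm]⟩
  exact ⟨y, by rw [map_mul, mul_div_cancel_left₀ _ (IsFractionRing.to_map_ne_zero_of_mem_nonZeroDivisors hb)]⟩

/-- The local homomorphism of a flat ring map at a prime, as an algebra, is faithfully flat. -/
theorem faithfullyFlat_localization_atPrime [Module.Flat A B] (q : Ideal B) [q.IsPrime] :
    letI := (Localization.localRingHom (q.comap (algebraMap A B)) q (algebraMap A B) rfl).toAlgebra
    Module.FaithfullyFlat (Localization.AtPrime (q.comap (algebraMap A B))) (Localization.AtPrime q) := by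
  letI := (Localization.localRingHom (q.comap (algebraMap A B)) q (algebraMap A B) rfl).toAlgebra
  haveI : Module.Flat (Localization.AtPrime (q.comap (algebraMap A B))) (Localization.AtPrime q) :=
    RingHom.Flat.localRingHom (RingHom.flat_algebraMap_iff.mpr ‹_›) q (q.comap (algebraMap A B)) rfl
  haveI : IsLocalHom (algebraMap (Localization.AtPrime (q.comap (algebraMap A B))) (Localization.AtPrime q)) :=
    Localization.isLocalHom_localRingHom (q.comap (algebraMap A B)) q (algebraMap A B) rfl
  exact Module.FaithfullyFlat.of_flat_of_isLocalHom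

end Groth.Ega4Algebra1
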