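import Groth.Agent.Ega4Algebra1.RegularLocal
import Groth.Agent.Ega4Algebra1.LocalRk
import Groth.Agent.Ega4Algebra1.FlatDescent
import Mathlib.RingTheory.Ideal.GoingDown

/-!
Consequences of Serre's criterion: localizations of regular rings, descent of regular and `(R_k)`.
-/

universe u

namespace Groth.Ega4Algebra1

variable (A B : Type u) [CommRing A] [CommRing B] [Algebra A B]

theorem isNoetherianRing_of_faithfullyFlat [Module.FaithfullyFlat A B] [IsNoetherianRing B] :
    IsNoetherianRing A := by
  rw [isNoetherianRing_iff, isNoetherian_iff']
  have : WellFoundedGT (Ideal B) := isNoetherian_iff'.mp (isNoetherianRing_iff.mp ‹_›)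
  have hmono : StrictMono (fun I : Ideal A => I.map (algebraMap A B)) := fun I J h =>
    lt_of_le_of_ne (Ideal.map_mono h.le) fun e => h.ne (Ideal.map_injective_of_faithfullyFlat e)
  exact hmono.wellFoundedGT

/-- Regularity of the local rings descends along flat maps. -/
theorem isRegularLocalRing_comap_of_flat [IsNoetherianRing A] [Module.Flat A B] (q : Ideal B) [q.IsPrime]
    [IsRegularLocalRing (Localization.AtPrime q)] :
    IsRegularLocalRing (Localization.AtPrime (q.comap (algebraMap A B))) := by
  let alg := (Localization.localRingHom (q.comap (algebraMap A B)) q (algebraMap A B) rfl).toAlgebra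
  have := faithfullyFlat_localization_atPrime A B q
  have : IsLocalHom (algebraMap (Localization.AtPrime (q.comap (algebraMap A B))) (Localization.AtPrime q)) :=
    Localization.isLocalHom_localRingHom (q.comap (algebraMap A B)) q (algebraMap A B) rfl
  exact isRegularLocalRing_of_flat _ (Localization.AtPrime q)

variable {A B} in
/-- The regular locus is stable under generization. -/
theorem isRegularLocalRing_of_le [IsNoetherianRing A] {p q : Ideal A} [p.IsPrime] [q.IsPrime] (h : p ≤ q)
    (hq : IsRegularLocalRing (Localization.AtPrime q)) : IsRegularLocalRing (Localization.AtPrime p) := by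
  have hdis : Disjoint (q.primeCompl : Set A) p := Set.disjoint_left.mpr fun x hx hxp => hx (h hxp)
  have := IsLocalization.isPrime_of_isPrime_disjoint q.primeCompl (Localization.AtPrime q) p ‹_› hdis
  have := isRegularLocalRing_localization_atPrime (Localization.AtPrime q) (p.map (algebraMap A (Localization.AtPrime q)))
  exact isRegularLocalRing_of_eq (IsLocalization.under_map_of_isPrime_disjoint q.primeCompl
    (Localization.AtPrime q) ‹p.IsPrime› hdis) (IsRegularLocalRing.of_ringEquiv
      (R := Localization.AtPrime (p.map (algebraMap A (Localization.AtPrime q))))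
      (R' := Localization.AtPrime ((p.map (algebraMap A (Localization.AtPrime q))).comap (algebraMap A (Localization.AtPrime q))))
      (localizationLocalizationEquiv q.primeCompl _))

end Groth.Ega4Algebra1
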