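import Groth.Prelude.Def_EGA4b
import Groth.Agent.Ega4Algebra1.RegularDescent
import Groth.Agent.GenericFree.Presentation

/-!
Domains whose regular locus contains a nonempty open subset.
-/

universe u

namespace Groth.Ega4Algebra1

open EGA4

variable {A : Type u} [CommRing A]

/-- The regular locus is invariant under ring isomorphisms. -/
theorem mem_regLocus_ringEquiv {B : Type u} [CommRing B] (e : A ≃+* B) (q : PrimeSpectrum B) :
    q ∈ regLocus B ↔ PrimeSpectrum.comap e.toRingHom q ∈ regLocus A := by
  let e' : Localization.AtPrime (q.asIdeal.comap e.toRingHom) ≃+* Localization.AtPrime q.asIdeal :=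
    IsLocalization.ringEquivOfRingEquiv _ _ e (M := (q.asIdeal.comap e.toRingHom).primeCompl) (T := q.asIdeal.primeCompl) (by
      ext x
      exact ⟨by rintro ⟨y, hy, rfl⟩; exact hy, fun hx => ⟨e.symm x, by
        show ¬ e (e.symm x) ∈ q.asIdeal
        rwa [e.apply_symm_apply], e.apply_symm_apply x⟩⟩)
  exact ⟨fun (_ : IsRegularLocalRing (Localization.AtPrime q.asIdeal)) => IsRegularLocalRing.of_ringEquiv e'.symm,
    fun (h : IsRegularLocalRing (Localization.AtPrime (q.asIdeal.comap e.toRingHom))) => IsRegularLocalRing.of_ringEquiv e'⟩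

theorem exists_open_regLocus_ringEquiv {B : Type u} [CommRing B] (e : A ≃+* B)
    (h : ∃ U : Set (PrimeSpectrum A), IsOpen U ∧ U.Nonempty ∧ U ⊆ regLocus A) :
    ∃ U : Set (PrimeSpectrum B), IsOpen U ∧ U.Nonempty ∧ U ⊆ regLocus B := by
  obtain ⟨U, hU, ⟨u, hu⟩, hsub⟩ := h
  refine ⟨PrimeSpectrum.comap e.toRingHom ⁻¹' U, hU.preimage (PrimeSpectrum.continuous_comap _),
    ⟨PrimeSpectrum.comap e.symm.toRingHom u, ?_⟩, fun q hq => (mem_regLocus_ringEquiv e q).mpr (hsub hq)⟩
  show PrimeSpectrum.comap e.toRingHom (PrimeSpectrum.comap e.symm.toRingHom u) ∈ U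
  rwa [← PrimeSpectrum.comap_comp_apply, show e.symm.toRingHom.comp e.toRingHom = RingHom.id A from
    RingHom.ext e.symm_apply_apply, PrimeSpectrum.comap_id]

/-- For a domain, a nonempty open subset of the regular locus is the same as one nonzero element off
which every prime is regular. -/
theorem exists_open_regLocus_iff [IsDomain A] :
    (∃ U : Set (PrimeSpectrum A), IsOpen U ∧ U.Nonempty ∧ U ⊆ regLocus A) ↔
      ∃ s : A, s ≠ 0 ∧ ∀ q : PrimeSpectrum A, s ∉ q.asIdeal → q ∈ regLocus A := by
  constructor
  · rintro ⟨U, hU, ⟨u, hu⟩, hsub⟩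
    obtain ⟨_, ⟨s, rfl⟩, hus, hsU⟩ :=
      PrimeSpectrum.isTopologicalBasis_basic_opens.exists_subset_of_mem_open hu hU
    exact ⟨s, fun h => hus (h ▸ zero_mem _), fun q hq => hsub (hsU hq)⟩
  · rintro ⟨s, hs, h⟩
    exact ⟨PrimeSpectrum.basicOpen s, (PrimeSpectrum.basicOpen s).isOpen,
      ⟨⟨⊥, Ideal.isPrime_bot⟩, fun h0 => hs h0⟩, fun q hq => h q hq⟩

/-- Regularity at a prime of `S⁻¹A` is regularity at its contraction. -/
theorem mem_regLocus_localization_iff (S : Submonoid A) (q : PrimeSpectrum (Localization S)) :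
    q ∈ regLocus (Localization S) ↔ PrimeSpectrum.comap (algebraMap A (Localization S)) q ∈ regLocus A :=
  ⟨fun (_ : IsRegularLocalRing (Localization.AtPrime q.asIdeal)) =>
    IsRegularLocalRing.of_ringEquiv (localizationLocalizationEquiv S q.asIdeal),
   fun h => @IsRegularLocalRing.of_ringEquiv _ _ h _ _ (localizationLocalizationEquiv S q.asIdeal).symm⟩

set_option maxHeartbeats 1600000 in
set_option synthInstance.maxHeartbeats 200000 in
/-- Regularity along open subsets descends along injective finite type maps of domains. -/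
theorem exists_open_regLocus_of_injective (R S : Type u) [CommRing R] [IsDomain R] [IsNoetherianRing R]
    [CommRing S] [IsDomain S] [Algebra R S] [Algebra.FiniteType R S]
    (hinj : Function.Injective (algebraMap R S))
    (hS : ∃ U : Set (PrimeSpectrum S), IsOpen U ∧ U.Nonempty ∧ U ⊆ regLocus S) :
    ∃ U : Set (PrimeSpectrum R), IsOpen U ∧ U.Nonempty ∧ U ⊆ regLocus R := by
  obtain ⟨s, hs, hreg⟩ := exists_open_regLocus_iff.mp hS
  let S' := Localization.Away s
  have hS'inj : Function.Injective (algebraMap S S') :=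
    IsLocalization.injective S' (powers_le_nonZeroDivisors_of_noZeroDivisors hs)
  have : Algebra.FiniteType R S' := Algebra.FiniteType.trans (‹Algebra.FiniteType R S›) (inferInstance : Algebra.FiniteType S S')
  obtain ⟨f, hf, hfree, -⟩ := (Groth.GenericFree.gf_of_finiteType (R := R) S' S').exists_free
  have := hfree f hf dvd_rfl
  let F := Localization.Away f
  let E := TensorProduct R F S'
  have : Module.Free F E := Module.Free.of_equiv (LocalizedModule.equivTensorProduct _ S')
  have : Module.Flat F E := Module.Flat.of_free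
  have : Module.Flat R E := Module.Flat.trans R F E
  have hfS : algebraMap R S' f ∈ nonZeroDivisors S' := mem_nonZeroDivisors_of_ne_zero fun h0 => hf (hinj (hS'inj (by
    rw [← IsScalarTower.algebraMap_apply, h0, map_zero, map_zero])))
  refine exists_open_regLocus_iff.mpr ⟨f, hf, fun p hp => ?_⟩
  have : Nontrivial S' := hS'inj.nontrivial
  let T := Algebra.algebraMapSubmonoid S' (Submonoid.powers f)
  let B := Localization T
  have hlin : Nonempty (E ≃ₗ[R] B) := by
    have h1 : IsLocalizedModule (Submonoid.powers f) (IsScalarTower.toAlgHom R S' B).toLinearMap := inferInstance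
    exact ⟨(LocalizedModule.equivTensorProduct _ S').symm.restrictScalars R |>.trans
      (IsLocalizedModule.iso (Submonoid.powers f) (IsScalarTower.toAlgHom R S' B).toLinearMap)⟩
  obtain ⟨elin⟩ := hlin
  have : Module.Flat R B := Module.Flat.of_linearEquiv elin.symm
  have hBnt : Nontrivial B := (IsLocalization.injective B (M := T) (by
    rintro _ ⟨_, ⟨k, rfl⟩, rfl⟩
    rw [map_pow]
    exact pow_mem hfS k)).nontrivial
  have : Nontrivial E := elin.toEquiv.nontrivial
  obtain ⟨pF, hpF⟩ : ∃ pF : PrimeSpectrum F, PrimeSpectrum.comap (algebraMap R F) pF = p := by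
    have := PrimeSpectrum.localization_comap_range F (Submonoid.powers f)
    exact this.ge (show Disjoint (Submonoid.powers f : Set R) p.asIdeal from Set.disjoint_left.mpr (by
      rintro _ ⟨k, rfl⟩ hk; exact hp (p.isPrime.mem_of_pow_mem k hk)))
  obtain ⟨Q, hQ⟩ := PrimeSpectrum.comap_surjective_of_faithfullyFlat (A := F) (B := E) pF
  let i : S' →ₐ[R] E := Algebra.TensorProduct.includeRight
  let q : PrimeSpectrum S' := PrimeSpectrum.comap i.toRingHom Q
  have hqp : PrimeSpectrum.comap (algebraMap R S') q = p := by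
    rw [← PrimeSpectrum.comap_comp_apply, show i.toRingHom.comp (algebraMap R S') = algebraMap R E from i.comp_algebraMap,
      IsScalarTower.algebraMap_eq R F E, PrimeSpectrum.comap_comp_apply, hQ, hpF]
  obtain ⟨qB, hqB⟩ : ∃ qB : PrimeSpectrum B, PrimeSpectrum.comap (algebraMap S' B) qB = q := by
    have := PrimeSpectrum.localization_comap_range B T
    refine this.ge (show Disjoint (T : Set S') q.asIdeal from Set.disjoint_left.mpr ?_)
    rintro _ ⟨_, ⟨k, rfl⟩, rfl⟩ hk
    exact hp (p.isPrime.mem_of_pow_mem k (by rw [← hqp]; exact hk))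
  have : IsRegularLocalRing (Localization.AtPrime qB.asIdeal) := by
    refine (mem_regLocus_localization_iff T qB).mpr ?_
    rw [hqB]
    refine (mem_regLocus_localization_iff _ q).mpr (hreg _ fun hmem => q.isPrime.ne_top ?_)
    exact Ideal.eq_top_of_isUnit_mem _ hmem (IsLocalization.map_units S' (⟨s, 1, pow_one s⟩ : Submonoid.powers s))
  have h2 := isRegularLocalRing_comap_of_flat R B qB.asIdeal
  exact isRegularLocalRing_of_eq (congrArg PrimeSpectrum.asIdeal
    (by rw [← hqp, ← hqB, ← PrimeSpectrum.comap_comp_apply, ← IsScalarTower.algebraMap_eq])) h2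

end Groth.Ega4Algebra1
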