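import Groth.Prelude.Def_EGA4b
import Groth.Agent.Ega4Algebra1.GenericRegular
import Groth.Agent.Calg1.Completion
import Groth.Agent.S4736
import Groth.Agent.S9126
import Mathlib

/-!
J-2 and G-rings pass to localizations; excellence too.
-/

universe u

namespace Groth.Ega4Algebra1

open EGA4 IsLocalRing

variable {A B : Type u} [CommRing A] [CommRing B]

/-- J-2 passes to essentially of finite type algebras. -/
theorem isJ2_of_essFiniteType [Algebra A B] [Algebra.EssFiniteType A B] (hA : IsJ2 A) : IsJ2 B := by
  intro C _ _ _
  let _ : Algebra A C := Algebra.compHom C (algebraMap A B)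
  have : IsScalarTower A B C := IsScalarTower.of_algebraMap_eq fun _ => rfl
  have : Algebra.EssFiniteType A C := Algebra.EssFiniteType.comp A B C
  let T := Algebra.EssFiniteType.subalgebra A C
  let M := Algebra.EssFiniteType.submonoid A C
  have hopen := hA T inferInstance
  have hM := mem_regLocus_localization_iff (A := T) M
  let e : Localization M ≃+* C := (IsLocalization.algEquiv M (Localization M) C).toRingEquiv
  have : regLocus C = PrimeSpectrum.comap e.toRingHom ⁻¹' (PrimeSpectrum.comap (algebraMap T (Localization M)) ⁻¹' regLocus T) := by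
    ext q
    exact (mem_regLocus_ringEquiv e q).trans (hM _)
  rw [this]
  exact (hopen.preimage (PrimeSpectrum.continuous_comap _)).preimage (PrimeSpectrum.continuous_comap _)

section completion

variable [IsLocalRing A] [IsLocalRing B]

theorem pow_maximalIdeal_le_comap (e : A ≃+* B) (n : ℕ) :
    maximalIdeal A ^ n ≤ (maximalIdeal B ^ n).comap e.toRingHom := by
  rw [← Ideal.map_le_iff_le_comap, Ideal.map_pow,
    IsLocalRing.map_maximalIdeal_of_surjective e.toRingHom e.surjective]

/-- The map of completions at the maximal ideals induced by an isomorphism of local rings. -/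
noncomputable def cplEquivAux (e : A ≃+* B) (n : ℕ) :
    AdicCompletion (maximalIdeal A) A →+* B ⧸ maximalIdeal B ^ n :=
  (Ideal.quotientMap _ e.toRingHom (pow_maximalIdeal_le_comap e n)).comp
    (AdicCompletion.evalₐ (maximalIdeal A) n).toRingHom

theorem cplEquivAux_compat (e : A ≃+* B) {m n : ℕ} (hle : m ≤ n) :
    (Ideal.Quotient.factorPow (maximalIdeal B) hle).comp (cplEquivAux e n) = cplEquivAux e m := by
  refine RingHom.ext fun x => ?_
  apply AdicCompletion.induction_on (maximalIdeal A) A x
  intro a
  simp only [cplEquivAux, RingHom.coe_comp, Function.comp_apply, AlgHom.toRingHom_eq_coe,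
    RingHom.coe_coe, AdicCompletion.evalₐ_mk, Ideal.quotientMap_mk, Ideal.Quotient.factor_mk,
    Ideal.Quotient.factorPow]
  rw [Ideal.Quotient.eq, ← map_sub]
  refine pow_maximalIdeal_le_comap e m ?_
  have := SModEq.sub_mem.mp (a.2 hle)
  rw [smul_eq_mul, Ideal.mul_top] at this
  simpa [neg_sub] using neg_mem this

noncomputable def cplMap (e : A ≃+* B) :
    AdicCompletion (maximalIdeal A) A →+* AdicCompletion (maximalIdeal B) B :=
  AdicCompletion.liftRingHom (maximalIdeal B) (cplEquivAux e) (cplEquivAux_compat e)

theorem evalₐ_cplMap (e : A ≃+* B) (n : ℕ) (x : AdicCompletion (maximalIdeal A) A) :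
    AdicCompletion.evalₐ (maximalIdeal B) n (cplMap e x) = cplEquivAux e n x :=
  AdicCompletion.evalₐ_liftRingHom _ _ (cplEquivAux_compat e) n x

theorem cplMap_algebraMap (e : A ≃+* B) (a : A) :
    cplMap e (algebraMap A _ a) = algebraMap B _ (e a) := by
  refine AdicCompletion.ext_evalₐ fun n => ?_
  rw [evalₐ_cplMap]
  simp [cplEquivAux, Ideal.quotientMap_mk]

theorem cplMap_symm_cplMap (e : A ≃+* B) (x : AdicCompletion (maximalIdeal A) A) :
    cplMap e.symm (cplMap e x) = x := by
  refine AdicCompletion.ext_evalₐ fun n => ?_
  rw [evalₐ_cplMap]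
  simp only [cplEquivAux, RingHom.coe_comp, Function.comp_apply, AlgHom.toRingHom_eq_coe, RingHom.coe_coe,
    evalₐ_cplMap]
  obtain ⟨y, hy⟩ := Ideal.Quotient.mk_surjective (AdicCompletion.evalₐ (maximalIdeal A) n x)
  rw [← hy, Ideal.quotientMap_mk, Ideal.quotientMap_mk]
  simp

/-- Regularity of the completion map transfers along isomorphisms of local rings. -/
theorem isRegularHom_completion_of_ringEquiv [IsNoetherianRing A] (e : A ≃+* B)
    (h : CAlg.IsRegularHom A (AdicCompletion (maximalIdeal A) A)) :
    CAlg.IsRegularHom B (AdicCompletion (maximalIdeal B) B) := by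
  have : IsNoetherianRing (AdicCompletion (maximalIdeal A) A) :=
    Groth.Calg1.isNoetherianRing_adicCompletion _ (IsNoetherian.noetherian _)
  let ê : AdicCompletion (maximalIdeal A) A ≃+* AdicCompletion (maximalIdeal B) B :=
    RingEquiv.ofRingHom (cplMap e) (cplMap e.symm)
      (RingHom.ext fun x => cplMap_symm_cplMap e.symm x) (RingHom.ext fun x => cplMap_symm_cplMap e x)
  let _ : Algebra A B := e.toRingHom.toAlgebra
  let _ : Algebra (AdicCompletion (maximalIdeal A) A) (AdicCompletion (maximalIdeal B) B) := ê.toRingHom.toAlgebra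
  have : IsScalarTower A B (AdicCompletion (maximalIdeal B) B) := IsScalarTower.of_algebraMap_eq fun _ => rfl
  have : IsScalarTower A (AdicCompletion (maximalIdeal A) A) (AdicCompletion (maximalIdeal B) B) :=
    IsScalarTower.of_algebraMap_eq fun a => (cplMap_algebraMap e a).symm
  have : IsLocalization (⊥ : Submonoid A) A := IsLocalization.self bot_le
  have hB : IsLocalization (⊥ : Submonoid A) B :=
    IsLocalization.isLocalization_of_algEquiv (⊥ : Submonoid A)
      (AlgEquiv.ofBijective (Algebra.ofId A B) e.bijective : A ≃ₐ[A] B)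
  have hBh : IsLocalization (Algebra.algebraMapSubmonoid (AdicCompletion (maximalIdeal A) A) (⊥ : Submonoid A))
      (AdicCompletion (maximalIdeal B) B) := by
    have : Algebra.algebraMapSubmonoid (AdicCompletion (maximalIdeal A) A) (⊥ : Submonoid A) = ⊥ :=
      Submonoid.map_bot _
    rw [this]
    have : IsLocalization (⊥ : Submonoid (AdicCompletion (maximalIdeal A) A)) (AdicCompletion (maximalIdeal A) A) :=
      IsLocalization.self bot_le
    exact IsLocalization.isLocalization_of_algEquiv (⊥ : Submonoid _)
      (AlgEquiv.ofBijective (Algebra.ofId _ _) ê.bijective)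
  exact Groth.Agent.S4736.result A _ h ⊥ B _

end completion

/-- Localizations of G-rings are G-rings. -/
theorem isGRing_localization (hA : CAlg.IsGRing A) (S : Submonoid A) : CAlg.IsGRing (Localization S) := by
  have := hA.1
  refine ⟨inferInstance, fun P _ => ?_⟩
  exact isRegularHom_completion_of_ringEquiv (localizationLocalizationEquiv S P).symm (hA.2 _)

/-- Localizations of excellent rings are excellent. -/
theorem isExcellent_localization (hA : EGA4.IsExcellent A) (S : Submonoid A) :
    EGA4.IsExcellent (Localization S) := by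
  obtain ⟨hN, hC, hG, hJ⟩ := hA
  have : Algebra.EssFiniteType A (Localization S) := .of_isLocalization _ S
  exact ⟨inferInstance, Groth.Agent.S9126.result A _ hC, isGRing_localization hG S, isJ2_of_essFiniteType hJ⟩

end Groth.Ega4Algebra1
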