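import Groth.Prelude.Def_Found
import Mathlib.RingTheory.Ideal.KrullsHeightTheorem
import Mathlib.RingTheory.KrullDimension.Basic
import Mathlib.RingTheory.KrullDimension.Module

/-!
Coheights in the spectrum, catenary local rings, the dimension drop at a cover.
-/

universe u

namespace Groth.Ega4Algebra1

open Order

theorem ringKrullDim_quotient_eq_coheight (A : Type u) [CommRing A] (p : PrimeSpectrum A) :
    ringKrullDim (A ⧸ p.asIdeal) = (Order.coheight p : WithBot ℕ∞) := by
  rw [ringKrullDim_quotient, Order.coheight_eq_krullDim_Ici]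
  apply Order.krullDim_eq_of_orderIso
  exact OrderIso.setCongr _ _ (by ext q; simp [PrimeSpectrum.mem_zeroLocus])

theorem finiteDimensionalOrder_spec (A : Type u) [CommRing A] [IsNoetherianRing A] [IsLocalRing A] :
    FiniteDimensionalOrder (PrimeSpectrum A) :=
  (inferInstance : FiniteRingKrullDim A)

theorem coheight_ne_top (A : Type u) [CommRing A] [IsNoetherianRing A] [IsLocalRing A]
    (p : PrimeSpectrum A) : Order.coheight p ≠ ⊤ :=
  have := finiteDimensionalOrder_spec A
  (Order.coheight_lt_top p).ne

/-- A series realizing the coheight is saturated and ends at the closed point. -/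
theorem exists_saturated_series (A : Type u) [CommRing A] [IsNoetherianRing A] [IsLocalRing A]
    (q : PrimeSpectrum A) :
    ∃ s : LTSeries (PrimeSpectrum A), s.head = q ∧ (s.length : ℕ∞) = Order.coheight q ∧
      s.last = IsLocalRing.closedPoint A ∧ ∀ i : Fin s.length, s (Fin.castSucc i) ⋖ s (Fin.succ i) := by
  obtain ⟨n, hn⟩ := ENat.ne_top_iff_exists.mp (coheight_ne_top A q)
  obtain ⟨s, hhead, hlen⟩ := Order.exists_series_of_coheight_eq_coe q hn.symm
  refine ⟨s, hhead, by rw [hlen, hn], ?_, fun i => ⟨s.strictMono Fin.castSucc_lt_succ, fun z h1 h2 => ?_⟩⟩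
  · by_contra hne
    have hlt : s.last < IsLocalRing.closedPoint A :=
      lt_of_le_of_ne (IsLocalRing.le_maximalIdeal s.last.isPrime.ne_top) hne
    have := Order.length_le_coheight (p := s.snoc _ hlt) (le_of_eq (by rw [RelSeries.head_snoc, hhead] : q = _))
    rw [RelSeries.snoc_length, ← hn] at this
    norm_cast at this; omega
  · have := Order.length_le_coheight (p := s.insertNth i z h1 h2) (le_of_eq (show q = (s.insertNth i z h1 h2).toFun 0 from by
      have hlt : (0 : Fin (s.length + 1 + 1)) < i.succ.castSucc := by simp [Fin.lt_def]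
      change q = (Fin.castSucc i.succ).insertNth (α := fun _ => PrimeSpectrum A) z s.toFun (0 : Fin (s.length + 1 + 1))
      rw [Fin.insertNth_apply_below hlt]
      simpa [RelSeries.head] using hhead.symm))
    rw [RelSeries.insertNth_length, ← hn] at this
    norm_cast at this; omega

/-- In a catenary Noetherian local ring, `dim A/q = dim A/P + 1` when `P` covers `q`. -/
theorem coheight_eq_add_one_of_covBy (A : Type u) [CommRing A] [IsNoetherianRing A] [IsLocalRing A]
    (hcat : CAlg.IsCatenary A) {q P : PrimeSpectrum A} (h : q ⋖ P) :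
    Order.coheight q = Order.coheight P + 1 := by
  obtain ⟨s, hsh, hsl, hslast, hssat⟩ := exists_saturated_series A P
  obtain ⟨t, hth, htl, htlast, htsat⟩ := exists_saturated_series A q
  let c : LTSeries (PrimeSpectrum A) :=
    { length := s.length + 1
      toFun := Fin.cons q s.toFun
      step := fun i => by
        refine Fin.cases ?_ (fun j => ?_) i
        · show q < s.toFun 0
          rw [show s.toFun 0 = P from hsh]; exact h.lt
        · exact s.step j }
  have := hcat.2 c t (show q = t.head from hth.symm)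
    (show (Fin.cons q s.toFun : Fin (s.length + 2) → _) (Fin.last _) = t.last from by
      rw [show Fin.last (s.length + 1) = Fin.succ (Fin.last s.length) from rfl, Fin.cons_succ]
      exact hslast.trans htlast.symm)
    (fun i => by
      refine Fin.cases ?_ (fun j => ?_) i
      · show q ⋖ s.toFun 0
        rw [show s.toFun 0 = P from hsh]; exact h
      · exact hssat j)
    htsat
  rw [← htl, ← hsl, ← this]
  simp [c]

/-- `q` is covered by any prime minimal over `q + (x)` for `x ∉ q`. -/
theorem covBy_of_mem_minimalPrimes (A : Type u) [CommRing A] [IsNoetherianRing A] {x : A}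
    {q P : PrimeSpectrum A} (hx : x ∉ q.asIdeal)
    (hP : P.asIdeal ∈ (q.asIdeal ⊔ Ideal.span {x}).minimalPrimes) : q ⋖ P := by
  have hle : q.asIdeal ≤ P.asIdeal := le_sup_left.trans hP.1.2
  have hxP : x ∈ P.asIdeal := hP.1.2 (Ideal.mem_sup_right (Ideal.mem_span_singleton_self x))
  refine ⟨lt_of_le_of_ne hle (fun he => hx (he ▸ hxP)), fun Q h1 h2 => ?_⟩
  have hmk := (Ideal.map_height_le_one_of_mem_minimalPrimes hP)
  let f := Ideal.Quotient.mk q.asIdeal
  have hq : ∀ R : PrimeSpectrum A, q ≤ R → (R.asIdeal.map f).IsPrime ∧ (R.asIdeal.map f).comap f = R.asIdeal :=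
    fun R hR => ⟨Ideal.map_isPrime_of_surjective Ideal.Quotient.mk_surjective (by rwa [Ideal.mk_ker]),
      by rw [Ideal.comap_map_of_surjective' _ Ideal.Quotient.mk_surjective, Ideal.mk_ker]; exact sup_eq_left.mpr hR⟩
  have hlt1 : (⊥ : Ideal (A ⧸ q.asIdeal)) < Q.asIdeal.map f := by
    refine bot_lt_iff_ne_bot.mpr fun hb => h1.not_ge ?_
    show Q.asIdeal ≤ q.asIdeal
    rw [Ideal.map_eq_bot_iff_le_ker, Ideal.mk_ker] at hb; exact hb
  have hlt2 : Q.asIdeal.map f < P.asIdeal.map f :=
    lt_of_le_of_ne (Ideal.map_mono h2.le) fun he => h2.ne (PrimeSpectrum.ext (by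
      rw [← (hq Q h1.le).2, ← (hq P hle).2, he]))
  have := (hq Q h1.le).1
  have := (hq P hle).1
  have h0 : (Q.asIdeal.map f).height ≠ 0 := fun h => hlt1.ne' (Ideal.height_eq_zero_iff_eq_bot.mp h)
  have h3 : (P.asIdeal.map f).height ≠ 0 := fun h =>
    (hlt1.trans hlt2).ne' (Ideal.height_eq_zero_iff_eq_bot.mp h)
  have h4 := Ideal.height_strict_mono_of_isPrime hlt2
  exact h0 (ENat.lt_one_iff_eq_zero.mp (h4.trans_le hmk))

end Groth.Ega4Algebra1
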