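import Groth.Prelude.Def_EGA4b
import Groth.Agent.SpectralTopology.Constructible
import Groth.Agent.Ega4Algebra1.LocalRk
import Groth.Agent.Ega4Algebra1.CatenaryDim
import Groth.Agent.S11553
import Mathlib.RingTheory.Spectrum.Prime.Noetherian
import Mathlib.RingTheory.Localization.Ideal

/-!
Nagata's openness criterion on `Spec` and the behaviour of regularity along `V(p)` near `p`.
-/

universe u

namespace Groth.Ega4Algebra1

variable {A : Type u} [CommRing A] [IsNoetherianRing A]

/-- Nagata's criterion: a generization-stable set which, with each point, contains a neighbourhood of it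
in its closure is open. -/
theorem isOpen_of_nagata {E : Set (PrimeSpectrum A)}
    (hgen : ∀ p q : PrimeSpectrum A, p ≤ q → q ∈ E → p ∈ E)
    (h : ∀ p ∈ E, ∃ f : A, f ∉ p.asIdeal ∧ ∀ q : PrimeSpectrum A, p ≤ q → f ∉ q.asIdeal → q ∈ E) :
    IsOpen E := by
  refine Groth.SpectralTopology.isOpen_of_forall_irreducible fun Y hYc hY hne => ?_
  obtain ⟨η, hη⟩ : ∃ η, IsGenericPoint η Y := QuasiSober.sober hY hYc
  obtain ⟨q, hqE, hqY⟩ := hne
  have hηE : η ∈ E := hgen η q ((PrimeSpectrum.le_iff_specializes η q).mpr (hη.specializes hqY)) hqE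
  obtain ⟨f, hf, hfq⟩ := h η hηE
  exact ⟨PrimeSpectrum.basicOpen f, (PrimeSpectrum.basicOpen f).isOpen, ⟨η, hf, hη.mem⟩,
    fun z hz => hfq z ((PrimeSpectrum.le_iff_specializes η z).mpr (hη.specializes hz.2)) hz.1⟩

omit [IsNoetherianRing A] in
theorem exists_notMem_smul_le (p : Ideal A) [p.IsPrime] (J : Ideal A) (hfg : p.FG)
    (h : p.map (algebraMap A (Localization.AtPrime p)) ≤ J.map (algebraMap A (Localization.AtPrime p))) :
    ∃ f, f ∉ p ∧ ∀ x ∈ p, f * x ∈ J := by
  classical
  obtain ⟨T, hT⟩ := hfg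
  have key : ∀ x ∈ p, ∃ f, f ∉ p ∧ f * x ∈ J := by
    intro x hx
    obtain ⟨⟨⟨j, hj⟩, ⟨s, hs⟩⟩, he⟩ :=
      (IsLocalization.mem_map_algebraMap_iff p.primeCompl (Localization.AtPrime p)).mp (h (Ideal.mem_map_of_mem _ hx))
    rw [← map_mul] at he
    obtain ⟨⟨o, ho⟩, he⟩ := (IsLocalization.eq_iff_exists p.primeCompl _).mp he
    refine ⟨o * s, p.primeCompl.mul_mem ho hs, ?_⟩
    rw [mul_assoc, mul_comm s x, show o * (x * s) = o * j from he]
    exact J.mul_mem_left o hj
  choose f hf hfJ using key
  have hmem : ∀ y : T, (y : A) ∈ p := fun y => hT ▸ Submodule.subset_span y.2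
  refine ⟨∏ y ∈ T.attach, f y (hmem y), prod_mem (S := p.primeCompl) fun y _ => hf y (hmem y), fun x hx => ?_⟩
  rw [← hT] at hx
  induction hx using Submodule.span_induction with
  | mem y hy =>
    rw [← Finset.mul_prod_erase _ _ (Finset.mem_attach T ⟨y, hy⟩), mul_comm, ← mul_assoc, mul_comm _ (∏ _ ∈ _, _)]
    rw [mul_comm, mul_comm y]
    exact Ideal.mul_mem_right _ J (hfJ y (hmem ⟨y, hy⟩))
  | zero => rw [mul_zero]; exact zero_mem J
  | add y z _ _ hy hz => rw [mul_add]; exact add_mem hy hz
  | smul r y _ hy => rw [smul_eq_mul, mul_left_comm]; exact J.mul_mem_left r hy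

omit [IsNoetherianRing A] in
/-- `(A/p)_(q/p) ≅ A_q / p A_q`. -/
theorem quotient_localization_equiv (p q : Ideal A) [q.IsPrime] (q' : PrimeSpectrum (A ⧸ p))
    (hq : PrimeSpectrum.comap (Ideal.Quotient.mk p) q' = ⟨q, ‹_›⟩) :
    Nonempty ((Localization.AtPrime q ⧸ p.map (algebraMap A (Localization.AtPrime q))) ≃+*
      Localization.AtPrime q'.asIdeal) := by
  have hq' : q'.asIdeal.comap (Ideal.Quotient.mk p) = q := congrArg PrimeSpectrum.asIdeal hq
  have hS : Algebra.algebraMapSubmonoid (A ⧸ p) q.primeCompl = q'.asIdeal.primeCompl := by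
    ext z
    constructor
    · rintro ⟨w, hw, rfl⟩ hz
      exact hw (hq' ▸ hz)
    · intro hz
      obtain ⟨w, rfl⟩ := Ideal.Quotient.mk_surjective z
      exact ⟨w, fun hw => hz (show w ∈ q'.asIdeal.comap (Ideal.Quotient.mk p) by rw [hq']; exact hw), rfl⟩
  have : IsLocalization q'.asIdeal.primeCompl (Localization.AtPrime q ⧸ p.map (algebraMap A (Localization.AtPrime q))) := by
    rw [← hS]; infer_instance
  exact ⟨(IsLocalization.algEquiv q'.asIdeal.primeCompl _ _).toRingEquiv⟩

/-- If `A_p` is regular, then near `p` in `V(p)` regularity of `A/p` implies regularity of `A`. -/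
theorem exists_regular_of_regular_quotient (p : Ideal A) [p.IsPrime]
    [IsRegularLocalRing (Localization.AtPrime p)] :
    ∃ f, f ∉ p ∧ ∀ (q : Ideal A) [q.IsPrime], p ≤ q → f ∉ q →
      ∀ q' : PrimeSpectrum (A ⧸ p), PrimeSpectrum.comap (Ideal.Quotient.mk p) q' = ⟨q, ‹_›⟩ →
        IsRegularLocalRing (Localization.AtPrime q'.asIdeal) → IsRegularLocalRing (Localization.AtPrime q) := by
  classical
  set R := Localization.AtPrime p
  set m := IsLocalRing.maximalIdeal R
  have hm : p.map (algebraMap A R) = m := Localization.AtPrime.map_eq_maximalIdeal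
  have hfg : m.FG := IsNoetherian.noetherian _
  choose l hl using fun x : R => IsLocalization.surj p.primeCompl x
  let J : Ideal A := Ideal.span ((fun x => (l x).1) '' m.generators)
  have hmJ : p.map (algebraMap A R) ≤ J.map (algebraMap A R) := by
    rw [hm, ← Submodule.span_generators m]
    refine Submodule.span_le.mpr fun x hx => ?_
    have h1 : algebraMap A R (l x).1 ∈ J.map (algebraMap A R) := Ideal.mem_map_of_mem _ (Ideal.subset_span ⟨x, hx, rfl⟩)
    rw [← hl x] at h1
    exact (Ideal.mul_unit_mem_iff_mem _ (IsLocalization.map_units R (l x).2)).mp h1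
  obtain ⟨f, hf, hfJ⟩ := exists_notMem_smul_le p J (IsNoetherian.noetherian p) hmJ
  refine ⟨f, hf, fun q _ hpq hfq q' hq' hreg => ?_⟩
  set B := Localization.AtPrime q
  have : (p.map (algebraMap A B)).IsPrime := IsLocalization.isPrime_of_isPrime_disjoint q.primeCompl B p ‹_›
    (Set.disjoint_left.mpr fun x hx hxp => hx (hpq hxp))
  have hc : (p.map (algebraMap A B)).comap (algebraMap A B) = p :=
    IsLocalization.under_map_of_isPrime_disjoint q.primeCompl B ‹_›
      (Set.disjoint_left.mpr fun x hx hxp => hx (hpq hxp))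
  have : IsRegularLocalRing (Localization.AtPrime (p.map (algebraMap A B))) := by
    have h1 : IsRegularLocalRing (Localization.AtPrime ((p.map (algebraMap A B)).comap (algebraMap A B))) :=
      isRegularLocalRing_of_eq hc.symm ‹_›
    exact IsRegularLocalRing.of_ringEquiv (localizationLocalizationEquiv q.primeCompl (p.map (algebraMap A B))).symm
  obtain ⟨e⟩ := quotient_localization_equiv p q q' hq'
  have : IsRegularLocalRing (B ⧸ p.map (algebraMap A B)) := IsRegularLocalRing.of_ringEquiv e.symm
  apply Groth.Agent.S11553.result B (p.map (algebraMap A B))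
  have hfu : IsUnit (algebraMap A B f) := IsLocalization.map_units B (⟨f, hfq⟩ : q.primeCompl)
  have hJp : J ≤ p := by
    refine Submodule.span_le.mpr ?_
    rintro _ ⟨x, hx, rfl⟩
    have hxm : x ∈ m := Submodule.span_generators m ▸ Submodule.subset_span hx
    have : algebraMap A R (l x).1 ∈ m := by rw [← hl x]; exact m.mul_mem_right _ hxm
    exact (IsLocalization.AtPrime.to_map_mem_maximal_iff R p _).mp this
  have hJ : p.map (algebraMap A B) = J.map (algebraMap A B) := by
    refine le_antisymm (Ideal.map_le_iff_le_comap.mpr fun x hx => ?_) (Ideal.map_mono hJp)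
    have h1 : algebraMap A B (f * x) ∈ J.map (algebraMap A B) := Ideal.mem_map_of_mem _ (hfJ x hx)
    rw [map_mul] at h1
    exact Ideal.mem_comap.mpr ((Ideal.unit_mul_mem_iff_mem _ hfu).mp h1)
  have hfin := Submodule.FG.finite_generators hfg
  have hcard : (p.map (algebraMap A B)).spanFinrank ≤ m.spanFinrank := by
    rw [hJ, Ideal.map_span, ← Set.image_comp]
    exact (Submodule.spanFinrank_span_le_ncard_of_finite (hfin.image _)).trans
      ((Set.ncard_image_le hfin).trans (Submodule.FG.generators_ncard hfg).le)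
  have hht : ((m.spanFinrank : ℕ∞) : WithBot ℕ∞) = p.height := by
    have h1 : ((m.spanFinrank : ℕ) : WithBot ℕ∞) = ringKrullDim R := IsRegularLocalRing.spanFinrank_maximalIdeal
    rw [IsLocalization.AtPrime.ringKrullDim_eq_height p R] at h1
    exact_mod_cast h1
  have hht' : (p.map (algebraMap A B)).height = p.height := by
    rw [← IsLocalization.height_comap q.primeCompl, Ideal.under_def, hc]
  refine le_antisymm ?_ ?_
  · rw [hht']
    calc ((p.map (algebraMap A B)).spanFinrank : ℕ∞) ≤ (m.spanFinrank : ℕ∞) := by exact_mod_cast hcard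
      _ = p.height := WithBot.coe_inj.mp hht
  · exact Ideal.height_le_spanFinrank _ (Ideal.IsPrime.ne_top ‹_›)

end Groth.Ega4Algebra1
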