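import Groth.Prelude.Def_EGA4b
import Groth.Agent.Ega4Algebra1.RegOpen
import Mathlib

/-!
Openness of the normal locus.
-/

universe u

namespace Groth.Ega4Algebra1

open EGA4

variable {A : Type u} [CommRing A]

/-- Normality of a ring is invariant under isomorphism. -/
theorem normal_of_ringEquiv {R S : Type u} [CommRing R] [CommRing S] (e : R ≃+* S)
    (h : IsDomain R ∧ IsIntegrallyClosed R) : IsDomain S ∧ IsIntegrallyClosed S :=
  ⟨@MulEquiv.isDomain S R _ _ h.1 e.symm.toMulEquiv, @IsIntegrallyClosed.of_equiv R S _ _ e h.2⟩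

/-- The normal locus is stable under generization. -/
theorem mem_norLocus_of_le {p q : PrimeSpectrum A} (hpq : p ≤ q) (hq : q ∈ norLocus A) : p ∈ norLocus A := by
  obtain ⟨hd, hic⟩ := hq
  have hdis : Disjoint (q.asIdeal.primeCompl : Set A) p.asIdeal := Set.disjoint_left.mpr fun x hx hxp => hx (hpq hxp)
  set P := p.asIdeal.map (algebraMap A (Localization.AtPrime q.asIdeal))
  have : P.IsPrime := IsLocalization.isPrime_of_isPrime_disjoint q.asIdeal.primeCompl _ p.asIdeal p.isPrime hdis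
  have hc : P.comap (algebraMap A (Localization.AtPrime q.asIdeal)) = p.asIdeal :=
    IsLocalization.under_map_of_isPrime_disjoint q.asIdeal.primeCompl _ p.isPrime hdis
  have hle : P.primeCompl ≤ nonZeroDivisors (Localization.AtPrime q.asIdeal) :=
    le_nonZeroDivisors_of_noZeroDivisors fun h => h (zero_mem _)
  have h1 : IsDomain (Localization.AtPrime P) ∧ IsIntegrallyClosed (Localization.AtPrime P) :=
    ⟨IsLocalization.isDomain_localization hle, isIntegrallyClosed_of_isLocalization (Localization.AtPrime P) P.primeCompl hle⟩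
  have h2 := normal_of_ringEquiv (localizationLocalizationEquiv q.asIdeal.primeCompl P) h1
  have key : ∀ (r : Ideal A) [r.IsPrime], r = p.asIdeal →
      (IsDomain (Localization.AtPrime r) ∧ IsIntegrallyClosed (Localization.AtPrime r)) → p ∈ norLocus A := by
    rintro r _ rfl h
    exact h
  exact key _ hc h2

/-- Integral elements of a domain are locally in the ring at normal primes. -/
theorem exists_smul_mem_range_of_normal [IsDomain A] (P : Ideal A) [P.IsPrime]
    (hn : IsIntegrallyClosed (Localization.AtPrime P)) (x : FractionRing A) (hx : IsIntegral A x) :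
    ∃ t, t ∉ P ∧ ∃ a, algebraMap A (FractionRing A) a = t • x := by
  obtain ⟨v, hv⟩ := (isIntegrallyClosed_iff (FractionRing A)).mp hn
    (x := x) (hx.tower_top (A := Localization.AtPrime P))
  obtain ⟨⟨a, ⟨t, ht⟩⟩, hat⟩ := IsLocalization.surj P.primeCompl v
  refine ⟨t, ht, a, ?_⟩
  have h2 := congrArg (algebraMap (Localization.AtPrime P) (FractionRing A)) hat
  rw [map_mul, hv, ← IsScalarTower.algebraMap_apply, ← IsScalarTower.algebraMap_apply] at h2
  rw [Algebra.smul_def, mul_comm]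
  exact h2.symm

/-- If `A` is a domain, normal off `g`, it is normal at the primes `q` all of whose smaller associated primes
of `g` are normal. -/
theorem mem_norLocus_of_associatedPrimes [IsDomain A] [IsNoetherianRing A] {g : A} (hg0 : g ≠ 0)
    (hg : ∀ x : FractionRing A, IsIntegral A x → ∃ n : ℕ, g ^ n • x ∈ (algebraMap A (FractionRing A)).range)
    (q : PrimeSpectrum A)
    (hP : ∀ P : PrimeSpectrum A, P.asIdeal ∈ associatedPrimes A (A ⧸ Ideal.span {g}) → P ≤ q → P ∈ norLocus A) :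
    q ∈ norLocus A := by
  classical
  set K := FractionRing A
  have hqle : q.asIdeal.primeCompl ≤ nonZeroDivisors A := q.asIdeal.primeCompl_le_nonZeroDivisors
  refine ⟨IsLocalization.isDomain_localization hqle, ?_⟩
  refine (isIntegrallyClosed_iff K).mpr fun {x} hx => ?_
  obtain ⟨⟨c, hc⟩, hcx⟩ := IsIntegral.exists_multiple_integral_of_isLocalization q.asIdeal.primeCompl x hx
  rw [Submonoid.smul_def] at hcx
  suffices h : ∃ s, s ∉ q.asIdeal ∧ ∃ a, algebraMap A K a = s • c • x by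
    obtain ⟨s, hs, a, ha⟩ := h
    refine ⟨IsLocalization.mk' _ a (⟨s * c, q.asIdeal.primeCompl.mul_mem hs hc⟩ : q.asIdeal.primeCompl), ?_⟩
    have hne : algebraMap A K (s * c) ≠ 0 := fun h0 => (q.asIdeal.primeCompl.mul_mem hs hc)
      (by rw [IsFractionRing.injective A K (h0.trans (map_zero _).symm)]; exact zero_mem _)
    refine mul_left_cancel₀ hne ?_
    rw [← Algebra.smul_def (s * c) x, mul_smul, ← ha, IsScalarTower.algebraMap_apply A (Localization.AtPrime q.asIdeal) K,
      ← map_mul, mul_comm, IsLocalization.mk'_spec, ← IsScalarTower.algebraMap_apply]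
  set y := c • x
  obtain ⟨n, hn⟩ := hg y hcx
  have hex : ∃ m : ℕ, ∃ s, s ∉ q.asIdeal ∧ ∃ a, algebraMap A K a = s • g ^ m • y :=
    ⟨n, 1, q.isPrime.one_notMem, hn.choose, by rw [one_smul]; exact hn.choose_spec⟩
  obtain ⟨s, hs, b, hb⟩ := Nat.find_spec hex
  rcases Nat.eq_zero_or_eq_succ_pred (Nat.find hex) with h0 | h0
  · exact ⟨s, hs, b, by rw [hb, h0, pow_zero, one_smul]⟩
  exfalso
  set m := (Nat.find hex).pred
  rw [h0] at hb
  have hgK : algebraMap A K g ≠ 0 := fun h1 => hg0 (IsFractionRing.injective A K (h1.trans (map_zero _).symm))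
  let J : Ideal A := Submodule.comap (LinearMap.toSpanSingleton A A b) (Ideal.span {g})
  have hJ : J ≤ q.asIdeal := by
    intro t ht
    by_contra htq
    obtain ⟨a, ha⟩ := Ideal.mem_span_singleton.mp (show t * b ∈ Ideal.span {g} from ht)
    refine Nat.find_min hex (show m < Nat.find hex by omega) ⟨t * s, q.asIdeal.primeCompl.mul_mem htq hs, a, ?_⟩
    refine mul_left_cancel₀ hgK ?_
    rw [← map_mul, ← ha, map_mul, hb]
    simp only [Algebra.smul_def, map_mul, map_pow, pow_succ]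
    ring
  obtain ⟨P, hPmin, hPq⟩ := Ideal.exists_minimalPrimes_le hJ
  have hass : IsAssociatedPrime P (A ⧸ J) :=
    (Module.associatedPrimes.minimalPrimes_annihilator_subset_associatedPrimes A (A ⧸ J))
      (by rwa [Ideal.annihilator_quotient])
  obtain ⟨hPp, z, hz⟩ := isAssociatedPrime_iff.mp hass
  obtain ⟨d, rfl⟩ := Ideal.Quotient.mk_surjective z
  have hPmem : ∀ t, t ∈ P ↔ t * (d * b) ∈ Ideal.span {g} := fun t => by
    rw [hz, Submodule.mem_colon_singleton, Submodule.mem_bot]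
    show Submodule.Quotient.mk (p := J) (t * d) = 0 ↔ _
    rw [Submodule.Quotient.mk_eq_zero]
    show t * d * b ∈ Ideal.span {g} ↔ _
    rw [mul_assoc]
  have hPass : P ∈ associatedPrimes A (A ⧸ Ideal.span {g}) := isAssociatedPrime_iff.mpr
    ⟨hPp, Ideal.Quotient.mk _ (d * b), by
      ext t
      rw [hPmem, Submodule.mem_colon_singleton, Submodule.mem_bot]
      show _ ↔ Submodule.Quotient.mk (p := Ideal.span {g}) (t * (d * b)) = 0
      rw [Submodule.Quotient.mk_eq_zero]⟩
  obtain ⟨t, ht, a, ha⟩ := exists_smul_mem_range_of_normal P (hP ⟨P, hPp⟩ hPass hPq).2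
    ((d * s * g ^ m) • y) (hcx.smul _)
  refine ht ((hPmem t).mpr (Ideal.mem_span_singleton.mpr ⟨a, IsFractionRing.injective A K ?_⟩))
  rw [map_mul, map_mul, map_mul, hb, ha]
  simp only [Algebra.smul_def, map_mul, map_pow, pow_succ]
  ring

theorem forall_exists_pow_smul_of_normal_off [IsDomain A] {g : A}
    (h : ∀ q : PrimeSpectrum A, g ∉ q.asIdeal → q ∈ norLocus A) (x : FractionRing A) (hx : IsIntegral A x) :
    ∃ n : ℕ, g ^ n • x ∈ (algebraMap A (FractionRing A)).range := by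
  let I : Ideal A := Submodule.comap (LinearMap.toSpanSingleton A (FractionRing A) x) (Algebra.linearMap A (FractionRing A)).range
  have hI : g ∈ I.radical := by
    rw [Ideal.radical_eq_sInf]
    refine Submodule.mem_sInf.mpr fun q ⟨hle, hq⟩ => ?_
    by_contra hgq
    obtain ⟨t, ht, a, ha⟩ := @exists_smul_mem_range_of_normal A _ _ q hq (h ⟨q, hq⟩ hgq).2 x hx
    exact ht (hle ⟨a, ha⟩)
  obtain ⟨n, a, ha⟩ := hI
  exact ⟨n, a, ha⟩

/-- A finite set of primes not below `p` can be avoided by an element outside `p`. -/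
theorem exists_notMem_forall_mem (p : Ideal A) [p.IsPrime] {S : Set (Ideal A)} (hS : S.Finite) :
    ∃ f, f ∉ p ∧ ∀ P ∈ S, ¬ P ≤ p → f ∈ P := by
  induction S, hS using Set.Finite.induction_on with
  | empty => exact ⟨1, ‹p.IsPrime›.one_notMem, fun P hP => absurd hP (Set.notMem_empty P)⟩
  | @insert P S _ _ ih =>
    obtain ⟨f, hf, hfS⟩ := ih
    by_cases hP : P ≤ p
    · refine ⟨f, hf, fun Q hQ hQp => ?_⟩
      rcases hQ with rfl | hQ
      exacts [absurd hP hQp, hfS Q hQ hQp]
    · obtain ⟨x, hxP, hxp⟩ := SetLike.not_le_iff_exists.mp hP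
      refine ⟨f * x, p.primeCompl.mul_mem hf hxp, fun Q hQ hQp => ?_⟩
      rcases hQ with rfl | hQ
      exacts [Q.mul_mem_left _ hxP, Q.mul_mem_right _ (hfS Q hQ hQp)]

/-- In a domain with a nonempty normal open subset, the normal locus is a neighbourhood of each of its
points in its closure. -/
theorem exists_normal_nhd_of_domain [IsDomain A] [IsNoetherianRing A] {g : A} (hg0 : g ≠ 0)
    (hg : ∀ x : FractionRing A, IsIntegral A x → ∃ n : ℕ, g ^ n • x ∈ (algebraMap A (FractionRing A)).range)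
    {p : PrimeSpectrum A} (hp : p ∈ norLocus A) :
    ∃ f, f ∉ p.asIdeal ∧ ∀ q : PrimeSpectrum A, f ∉ q.asIdeal → q ∈ norLocus A := by
  obtain ⟨f, hf, hfS⟩ := exists_notMem_forall_mem p.asIdeal (associatedPrimes.finite A (A ⧸ Ideal.span {g}))
  refine ⟨f, hf, fun q hq => mem_norLocus_of_associatedPrimes hg0 hg q fun P hP hPq => mem_norLocus_of_le ?_ hp⟩
  by_contra hne
  exact hq (hPq (hfS _ hP hne))

/-- At a point whose local ring is a domain, some basic neighbourhood sees only one irreducible component. -/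
theorem exists_minimalPrime_killed [IsNoetherianRing A] (p : PrimeSpectrum A)
    [IsDomain (Localization.AtPrime p.asIdeal)] :
    ∃ p₀ : PrimeSpectrum A, p₀.asIdeal ∈ minimalPrimes A ∧ p₀ ≤ p ∧ ∃ f, f ∉ p.asIdeal ∧ ∀ x ∈ p₀.asIdeal, f * x = 0 := by
  classical
  let P₀ : Ideal A := RingHom.ker (algebraMap A (Localization.AtPrime p.asIdeal))
  have hP₀ : P₀.IsPrime := RingHom.ker_isPrime _
  have hle : P₀ ≤ p.asIdeal := fun x hx => by
    by_contra hxp
    exact not_isUnit_zero ((show algebraMap A (Localization.AtPrime p.asIdeal) x = 0 from hx) ▸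
      IsLocalization.map_units (Localization.AtPrime p.asIdeal) (⟨x, hxp⟩ : p.asIdeal.primeCompl))
  have key : ∀ x ∈ P₀, ∃ f, f ∉ p.asIdeal ∧ f * x = 0 := fun x hx => by
    obtain ⟨⟨f, hf⟩, h⟩ := (IsLocalization.map_eq_zero_iff p.asIdeal.primeCompl (Localization.AtPrime p.asIdeal) x).mp hx
    exact ⟨f, hf, h⟩
  refine ⟨⟨P₀, hP₀⟩, ⟨⟨hP₀, bot_le⟩, fun Q ⟨hQ, _⟩ hQP x hx => ?_⟩, hle, ?_⟩
  · obtain ⟨f, hf, h⟩ := key x hx
    exact (hQ.mem_or_mem (h ▸ zero_mem Q : f * x ∈ Q)).resolve_left fun hfQ => hf (hle (hQP hfQ))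
  · obtain ⟨T, hT⟩ := IsNoetherian.noetherian P₀
    choose f hf hfx using fun y : T => key y.1 (hT ▸ Submodule.subset_span y.2)
    refine ⟨∏ y ∈ T.attach, f y, prod_mem (S := p.asIdeal.primeCompl) fun y _ => hf y, fun x hx => ?_⟩
    have hx' : x ∈ Submodule.span A (T : Set A) := by rw [hT]; exact hx
    clear hx
    induction hx' using Submodule.span_induction with
    | mem y hy => rw [← Finset.prod_erase_mul _ _ (Finset.mem_attach T ⟨y, hy⟩), mul_assoc, hfx, mul_zero]
    | zero => rw [mul_zero]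
    | add y z hy hz ihy ihz => rw [mul_add, ihy, ihz, add_zero]
    | smul r y hy ih => rw [smul_eq_mul, mul_left_comm, ih, mul_zero]

/-- The normal locus near a component killed by `f` is that of the component. -/
theorem mem_norLocus_quotient_iff [IsNoetherianRing A] (p₀ : Ideal A) {f : A} (hf : ∀ x ∈ p₀, f * x = 0)
    (q' : PrimeSpectrum (A ⧸ p₀)) (q : PrimeSpectrum A)
    (hq : PrimeSpectrum.comap (Ideal.Quotient.mk p₀) q' = q) (hfq : f ∉ q.asIdeal) :
    q' ∈ norLocus (A ⧸ p₀) ↔ q ∈ norLocus A := by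
  obtain ⟨e⟩ := quotient_localization_equiv p₀ q.asIdeal q' hq
  have h0 : p₀.map (algebraMap A (Localization.AtPrime q.asIdeal)) = ⊥ := by
    refine (Ideal.map_eq_bot_iff_le_ker _).mpr fun x hx => ?_
    exact (IsLocalization.map_eq_zero_iff q.asIdeal.primeCompl (Localization.AtPrime q.asIdeal) x).mpr ⟨⟨f, hfq⟩, hf x hx⟩
  let e' : Localization.AtPrime q.asIdeal ≃+* Localization.AtPrime q'.asIdeal :=
    ((Ideal.quotEquivOfEq h0).trans (RingEquiv.quotientBot _)).symm.trans e
  exact ⟨normal_of_ringEquiv e'.symm, normal_of_ringEquiv e'⟩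

/-- The normal locus is open iff it is a neighbourhood of each of its minimal primes. -/
theorem isOpen_norLocus_iff [IsNoetherianRing A] :
    IsOpen (norLocus A) ↔ ∀ p : PrimeSpectrum A, p.asIdeal ∈ minimalPrimes A → p ∈ norLocus A →
        ∃ U : Set (PrimeSpectrum A), IsOpen U ∧ p ∈ U ∧ U ⊆ norLocus A := by
  refine ⟨fun h p _ hp => ⟨_, h, hp, subset_rfl⟩, fun h => ?_⟩
  refine isOpen_of_nagata (fun p q hpq hq => mem_norLocus_of_le hpq hq) fun p hp => ?_
  have := hp.1
  obtain ⟨p₀, hp₀, hle, f, hf, hkill⟩ := exists_minimalPrime_killed p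
  obtain ⟨U, hU, hp₀U, hUn⟩ := h p₀ hp₀ (mem_norLocus_of_le hle hp)
  obtain ⟨_, ⟨g₀, rfl⟩, hg₀, hgU⟩ :=
    PrimeSpectrum.isTopologicalBasis_basic_opens.exists_subset_of_mem_open hp₀U hU
  set π := Ideal.Quotient.mk p₀.asIdeal
  have hsurj : ∀ Q : PrimeSpectrum (A ⧸ p₀.asIdeal), p₀.asIdeal ≤ (PrimeSpectrum.comap π Q).asIdeal := fun Q x hx => by
    show π x ∈ Q.asIdeal
    rw [Ideal.Quotient.eq_zero_iff_mem.mpr hx]; exact zero_mem _
  have hlift : ∀ q : PrimeSpectrum A, p₀ ≤ q → ∃ q' : PrimeSpectrum (A ⧸ p₀.asIdeal), PrimeSpectrum.comap π q' = q :=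
    fun q hq => ⟨⟨q.asIdeal.map π, Ideal.map_isPrime_of_surjective Ideal.Quotient.mk_surjective (by rw [Ideal.mk_ker]; exact hq)⟩,
      PrimeSpectrum.ext (by
        rw [PrimeSpectrum.comap_asIdeal, Ideal.comap_map_of_surjective' _ Ideal.Quotient.mk_surjective, Ideal.mk_ker]
        exact sup_eq_left.mpr hq)⟩
  have hg : π (g₀ * f) ≠ 0 := fun h0 => (p₀.isPrime.mem_or_mem (Ideal.Quotient.eq_zero_iff_mem.mp h0)).elim hg₀
    fun hf0 => hf (hle hf0)
  have hoff : ∀ Q : PrimeSpectrum (A ⧸ p₀.asIdeal), π (g₀ * f) ∉ Q.asIdeal → Q ∈ norLocus (A ⧸ p₀.asIdeal) := by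
    intro Q hQ
    refine (mem_norLocus_quotient_iff p₀.asIdeal hkill Q _ rfl fun hfQ => hQ ?_).mpr (hUn (hgU fun hgQ => hQ ?_))
    · rw [map_mul]; exact Q.asIdeal.mul_mem_left _ hfQ
    · rw [map_mul]; exact Q.asIdeal.mul_mem_right _ hgQ
  obtain ⟨p', hp'⟩ := hlift p hle
  have hp'n : p' ∈ norLocus (A ⧸ p₀.asIdeal) := (mem_norLocus_quotient_iff _ hkill p' p hp' hf).mpr hp
  obtain ⟨f', hf', hf'n⟩ := exists_normal_nhd_of_domain hg (forall_exists_pow_smul_of_normal_off hoff) hp'n
  obtain ⟨f', rfl⟩ := Ideal.Quotient.mk_surjective f'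
  refine ⟨f * f', p.asIdeal.primeCompl.mul_mem hf (fun hmem => hf' (by rw [← hp'] at hmem; exact hmem)), fun q hpq hfq => ?_⟩
  obtain ⟨q', hq'⟩ := hlift q (hle.trans hpq)
  refine (mem_norLocus_quotient_iff _ hkill q' q hq' fun h' => hfq (q.asIdeal.mul_mem_right _ h')).mp
    (hf'n q' fun h' => hfq (q.asIdeal.mul_mem_left _ ?_))
  rw [← hq']
  exact h'

end Groth.Ega4Algebra1
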