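import Groth.Agent.LocFinite.CMOff
import Groth.Agent.Calg1.CatenaryLocal
import Groth.Agent.Calg2.CompleteStructure
import Groth.Agent.S5784
import Mathlib

/-!
Quotients of regular rings are universally catenary; complete Noetherian local rings are such quotients.
-/

set_option autoImplicit false

universe u

namespace Groth.Ega4Algebra1

open IsLocalRing

/-- A quotient of a regular ring is catenary. -/
theorem isCatenary_of_regular_surjective {R A : Type u} [CommRing R] [IsRegularRing R] [CommRing A]
    [Algebra R A] (hπ : Function.Surjective (algebraMap R A)) : CAlg.IsCatenary A := by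
  have hfin : ∀ {p q : PrimeSpectrum A} (h : p ≤ q), Order.height (⟨q, h⟩ : Set.Ici p) ≠ ⊤ := by
    intro p q h
    obtain ⟨e, he⟩ := Groth.LocFinite.exists_Ici_orderIso hπ p
    rw [← Order.height_orderIso e ⟨q, h⟩]
    have h1 := Groth.LocFinite.height_add_Ici (R := R) (PrimeSpectrum.comap (algebraMap R A) p)
      (PrimeSpectrum.comap (algebraMap R A) q) (Ideal.comap_mono h)
    rw [show e ⟨q, h⟩ = ⟨PrimeSpectrum.comap (algebraMap R A) q, Ideal.comap_mono h⟩ from Subtype.ext (he _)]
    intro htop
    rw [htop, add_top] at h1
    exact Ideal.height_ne_top (PrimeSpectrum.comap (algebraMap R A) q).isPrime.ne_top h1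
  have hlen : ∀ {p : PrimeSpectrum A} (s : LTSeries (PrimeSpectrum A)) (hp : p ≤ s.head),
      (s.length : ℕ∞) ≤ Order.height (⟨s.last, hp.trans s.head_le_last⟩ : Set.Ici p) := by
    intro p s hp
    let t : LTSeries (Set.Ici p) :=
      { length := s.length
        toFun := fun i => ⟨s i, hp.trans (s.monotone (Fin.zero_le i))⟩
        step := fun i => s.step i }
    exact Order.length_le_height (p := t) le_rfl
  refine ⟨fun p q hpq => ?_, fun s t hh hl hs ht => ?_⟩
  · obtain ⟨n, hn⟩ := ENat.ne_top_iff_exists.mp (hfin hpq)
    refine ⟨n, fun s h0 h1 => ?_⟩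
    subst h0 h1
    have := hlen s le_rfl
    rw [← hn] at this
    exact_mod_cast this
  · have key : ∀ (s : LTSeries (PrimeSpectrum A)) (hs : ∀ i : Fin s.length, s (Fin.castSucc i) ⋖ s (Fin.succ i))
        (i : Fin (s.length + 1)),
        Order.height (⟨s i, s.monotone (Fin.zero_le i)⟩ : Set.Ici s.head) = (i : ℕ) := by
      intro s hs i
      induction i using Fin.induction with
      | zero =>
        rw [Fin.val_zero, Nat.cast_zero, Order.height_eq_zero]
        rintro ⟨x, hx⟩ _
        exact hx
      | succ i ih =>
        rw [Groth.LocFinite.height_Ici_add hπ (p := s.head) (p' := s (Fin.castSucc i)) (q := s i.succ)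
          (s.monotone (Fin.zero_le _)) (hs i).le, ih, Fin.val_succ, Fin.val_castSucc, Nat.cast_add, Nat.cast_one]
        congr 1
        refine le_antisymm (Order.height_le fun l hl' => ?_) ?_
        · by_contra hgt
          push Not at hgt
          have h2 : 2 ≤ l.length := by
            have : (1 : ℕ∞) < l.length := hgt
            exact_mod_cast this
          have ha : (l ⟨0, by omega⟩).1 < (l ⟨1, by omega⟩).1 := l.strictMono (by simp [Fin.lt_def])
          have hb : (l ⟨1, by omega⟩).1 < s i.succ := by
            have : l ⟨1, by omega⟩ < l.last := l.strictMono (by simp [Fin.lt_def]; omega)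
            rw [hl'] at this
            exact this
          exact (hs i).2 (lt_of_le_of_lt (l ⟨0, by omega⟩).2 ha) hb
        · rw [Order.one_le_iff_ne_zero, Ne, Order.height_eq_zero]
          intro hmin
          exact (hs i).lt.not_ge (hmin (b := ⟨s (Fin.castSucc i), Set.self_mem_Ici⟩) (hs i).le)
    have h1 := key s hs (Fin.last _)
    have h2 := key t ht (Fin.last _)
    have congr' : ∀ (a a' b b' : PrimeSpectrum A) (h : a ≤ b) (h' : a' ≤ b'), a = a' → b = b' →
        Order.height (⟨b, h⟩ : Set.Ici a) = Order.height (⟨b', h'⟩ : Set.Ici a') := by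
      rintro a a' b b' h h' rfl rfl; rfl
    have h3 : ((Fin.last s.length : ℕ) : ℕ∞) = ((Fin.last t.length : ℕ) : ℕ∞) :=
      h1.symm.trans ((congr' _ _ _ _ _ _ hh hl).trans h2)
    exact_mod_cast h3

/-- A quotient of a regular ring is universally catenary. -/
theorem isUniversallyCatenary_of_regular_surjective {R A : Type u} [CommRing R] [IsRegularRing R]
    [CommRing A] (f : R →+* A) (hf : Function.Surjective f) : CAlg.IsUniversallyCatenary A := by
  have : IsNoetherianRing A := isNoetherianRing_of_surjective R A f hf
  refine (Groth.Calg1.isUniversallyCatenary_iff_mvPolynomial A).mpr ⟨this, fun n => ?_⟩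
  let : Algebra (MvPolynomial (Fin n) R) (MvPolynomial (Fin n) A) := (MvPolynomial.map f).toAlgebra
  exact isCatenary_of_regular_surjective (R := MvPolynomial (Fin n) R) (MvPolynomial.map_surjective f hf)

/-- A complete Noetherian local ring is a quotient of a regular ring. -/
theorem exists_regular_surjective_of_complete (R : Type u) [CommRing R] [IsLocalRing R] [IsNoetherianRing R]
    [IsAdicComplete (maximalIdeal R) R] :
    ∃ (P : Type u) (_ : CommRing P) (_ : IsRegularRing P) (f : P →+* R), Function.Surjective f := by
  classical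
  obtain ⟨Λ, _, ι, hι, hcase⟩ := Groth.Calg2.CompleteStructure.exists_coefficient R
  obtain ⟨G, hG⟩ := (maximalIdeal R).fg_of_isNoetherianRing
  let a : Fin G.card → R := fun i => (G.equivFin.symm i : R)
  have hr : Set.range a = (G : Set R) := Set.ext fun x =>
    ⟨fun ⟨i, hi⟩ => hi ▸ (G.equivFin.symm i).2, fun hx => ⟨G.equivFin ⟨x, hx⟩, by simp [a]⟩⟩
  have hgen : Ideal.span (Set.range a) = maximalIdeal R := by rw [hr]; exact hG
  have ha : ∀ i, a i ∈ maximalIdeal R := fun i => hgen ▸ Ideal.subset_span ⟨i, rfl⟩
  have hΛ : IsRegularRing Λ := by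
    rcases hcase with hF | ⟨⟨hdom, hdvr, -⟩, -⟩
    · let := hF.toField
      infer_instance
    · have := hdvr
      infer_instance
  exact ⟨MvPowerSeries (Fin G.card) Λ, inferInstance, Groth.Agent.S5784.result Λ G.card,
    Groth.Calg2.CompleteStructure.ev ι a ha, Groth.Calg2.CompleteStructure.surjective_ev ι hι a ha hgen⟩

/-- Complete Noetherian local rings are universally catenary. -/
theorem isUniversallyCatenary_of_complete (R : Type u) [CommRing R] [IsLocalRing R] [IsNoetherianRing R]
    [IsAdicComplete (maximalIdeal R) R] : CAlg.IsUniversallyCatenary R := by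
  obtain ⟨P, _, _, f, hf⟩ := exists_regular_surjective_of_complete R
  exact isUniversallyCatenary_of_regular_surjective f hf

end Groth.Ega4Algebra1
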