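import Groth.Agent.Ega4Algebra1.RegularLocal
import Mathlib.Algebra.Module.Injective
import Mathlib.Algebra.Category.ModuleCat.EnoughInjectives
import Mathlib.CategoryTheory.Abelian.Injective.Dimension
import Mathlib.Algebra.Category.ModuleCat.Injective

/-!
Global dimension from the projective dimension of finite modules.
-/

universe u

open CategoryTheory Abelian

namespace Groth.Ega4Algebra1

variable {R : Type u} [CommRing R]

theorem hasInjectiveDimensionLT_of_forall_finite (n : ℕ) (N : ModuleCat.{u} R)
    (h : ∀ M : ModuleCat.{u} R, Module.Finite R M → ∀ e : Ext M N (n + 1), e = 0) :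
    HasInjectiveDimensionLT N (n + 1) := by
  induction n generalizing N with
  | zero =>
    rw [← injective_iff_hasInjectiveDimensionLT_one, ← Module.injective_iff_injective_object]
    refine Module.Baer.injective fun I g => ?_
    have hS := LinearMap.shortExact_shortComplexKer (Submodule.mkQ_surjective I)
    let e := LinearEquiv.ofEq _ _ (Submodule.ker_mkQ I)
    obtain ⟨x₂, hx₂⟩ := Ext.contravariant_sequence_exact₁ hS N
      (Ext.mk₀ (ModuleCat.ofHom (g.comp e.toLinearMap))) (rfl : 1 + 0 = 1)
      (h _ (inferInstanceAs (Module.Finite R (R ⧸ I))) _)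
    obtain ⟨φ, rfl⟩ := (Ext.mk₀_bijective _ _).2 x₂
    rw [Ext.mk₀_comp_mk₀, (Ext.mk₀_bijective _ _).1.eq_iff] at hx₂
    refine ⟨φ.hom, fun x hx => ?_⟩
    have := LinearMap.congr_fun (congrArg ModuleCat.Hom.hom hx₂) (e.symm ⟨x, hx⟩)
    simpa [e] using! this
  | succ n ih =>
    obtain ⟨p⟩ := EnoughInjectives.presentation N
    have hS : (ShortComplex.mk p.f _ (Limits.cokernel.condition p.f)).ShortExact :=
      { exact := ShortComplex.exact_cokernel p.f }
    refine (hS.hasInjectiveDimensionLT_X₃_iff n p.injective).mp (ih _ fun M hM e => ?_)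
    obtain ⟨x₂, rfl⟩ := Ext.covariant_sequence_exact₃ M hS e (rfl : n + 1 + 1 = n + 2) (h M hM _)
    rw [x₂.eq_zero_of_injective, Ext.zero_comp]

/-- If all finite modules have projective dimension `≤ n`, all modules do. -/
theorem pdLT_of_forall_finite (n : ℕ)
    (h : ∀ (M : Type u) [AddCommGroup M] [Module R M] [Module.Finite R M], PdLT R M (n + 1))
    (M : ModuleCat.{u} R) : HasProjectiveDimensionLT M (n + 1) := by
  have key : ∀ N : ModuleCat.{u} R, HasInjectiveDimensionLT N (n + 1) := fun N =>
    hasInjectiveDimensionLT_of_forall_finite n N fun M hM e =>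
      letI : HasProjectiveDimensionLT M (n + 1) := h M
      Ext.eq_zero_of_hasProjectiveDimensionLT e (n + 1) (le_refl _)
  exact HasProjectiveDimensionLT.mk fun i hi Y e =>
    letI := key Y
    Ext.eq_zero_of_hasInjectiveDimensionLT e (n + 1) hi

theorem pdLT_all_of_isRegularLocalRing (R : Type u) [CommRing R] [IsRegularLocalRing R] (n : ℕ)
    (hn : ringKrullDim R = n) (M : ModuleCat.{u} R) : HasProjectiveDimensionLT M (n + 1) :=
  pdLT_of_forall_finite n (fun M _ _ _ => pdLT_of_isRegularLocalRing R n (by
    have := IsRegularLocalRing.spanFinrank_maximalIdeal (R := R)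
    rw [hn] at this; exact_mod_cast this) M) M

end Groth.Ega4Algebra1
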