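import Mathlib.Algebra.Category.ModuleCat.ProjectiveDimension
import Mathlib.Algebra.Homology.ShortComplex.ModuleCat
import Mathlib.RingTheory.LocalRing.Module
import Mathlib.RingTheory.Flat.FaithfullyFlat.Algebra
import Mathlib.LinearAlgebra.TensorProduct.Quotient
import Mathlib.RingTheory.TensorProduct.Free
import Mathlib.RingTheory.Regular.IsSMulRegular
import Mathlib.RingTheory.Ideal.Quotient.Noetherian

/-!
Projective dimension of modules, phrased with presentations: reduction modulo a regular element,
flat base change and faithfully flat descent.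
-/

universe u

open CategoryTheory TensorProduct

namespace Groth.Ega4Algebra1

/-- `M` has projective dimension `< n`. -/
abbrev PdLT (R : Type u) [CommRing R] (M : Type u) [AddCommGroup M] [Module R M] (n : ℕ) : Prop :=
  HasProjectiveDimensionLT (ModuleCat.of R M) n

variable {R : Type u} [CommRing R]
variable {M N P : Type u} [AddCommGroup M] [Module R M] [AddCommGroup N] [Module R N]
  [AddCommGroup P] [Module R P]

theorem PdLT.one_iff : PdLT R M 1 ↔ Module.Projective R M := by
  rw [PdLT, ← projective_iff_hasProjectiveDimensionLT_one, ← IsProjective.iff_projective]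

theorem PdLT.zero_iff : PdLT R M 0 ↔ Subsingleton M := by
  rw [PdLT, hasProjectiveDimensionLT_zero_iff_isZero, ModuleCat.isZero_iff_subsingleton]

theorem PdLT.of_equiv (e : M ≃ₗ[R] N) {n : ℕ} (h : PdLT R M n) : PdLT R N n :=
  letI := h
  hasProjectiveDimensionLT_of_iso e.toModuleIso n

theorem PdLT.mono {n m : ℕ} (hnm : n ≤ m) (h : PdLT R M n) : PdLT R M m :=
  letI := h
  hasProjectiveDimensionLT_of_ge (ModuleCat.of R M) n m hnm

theorem PdLT.of_retract (i : M →ₗ[R] N) (r : N →ₗ[R] M) (h : r.comp i = LinearMap.id) {n : ℕ}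
    (hN : PdLT R N n) : PdLT R M n :=
  letI := hN
  Retract.hasProjectiveDimensionLT (X := ModuleCat.of R M) (Y := ModuleCat.of R N)
    { i := ModuleCat.ofHom i, r := ModuleCat.ofHom r, retract := by
        rw [← ModuleCat.ofHom_comp, h]; rfl } n

/-- Dimension shifting along a surjection from a projective module. -/
theorem PdLT.ker_iff [Module.Projective R P] (f : P →ₗ[R] M) (hf : Function.Surjective f) (n : ℕ) :
    PdLT R M (n + 2) ↔ PdLT R (LinearMap.ker f) (n + 1) :=
  (LinearMap.shortExact_shortComplexKer hf).hasProjectiveDimensionLT_X₃_iff n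
    ((IsProjective.iff_projective P).mp ‹_›)

theorem PdLT.ker_of_surjective {g : M →ₗ[R] N} (hg : Function.Surjective g) {n : ℕ}
    (hM : PdLT R M n) (hN : PdLT R N (n + 1)) : PdLT R (LinearMap.ker g) n :=
  (LinearMap.shortExact_shortComplexKer hg).hasProjectiveDimensionLT_X₁ n hM hN

theorem exists_surjective_fin (R : Type u) [CommRing R] (M : Type u) [AddCommGroup M] [Module R M]
    [Module.Finite R M] : ∃ (k : ℕ) (f : (Fin k → R) →ₗ[R] M), Function.Surjective f := by
  obtain ⟨k, f, hf⟩ := Module.Finite.exists_fin' R M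
  exact ⟨k, f, hf⟩

section Reduction

variable (I : Ideal R)

variable (M) in
/-- `(R/I) ⊗ M ≅ M/IM` over `R/I`. -/
noncomputable def quotTensorEquiv : ((R ⧸ I) ⊗[R] M) ≃ₗ[R ⧸ I] (M ⧸ (I • ⊤ : Submodule R M)) :=
  { (TensorProduct.quotTensorEquivQuotSMul M I).toAddEquiv with
    map_smul' := fun c x => by
      obtain ⟨r, rfl⟩ := Ideal.Quotient.mk_surjective c
      show TensorProduct.quotTensorEquivQuotSMul M I (algebraMap R (R ⧸ I) r • x) =
        algebraMap R (R ⧸ I) r • TensorProduct.quotTensorEquivQuotSMul M I x
      rw [algebraMap_smul, algebraMap_smul, LinearEquiv.map_smul] }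

variable (M) in
theorem projective_quotient [Module.Projective R M] :
    Module.Projective (R ⧸ I) (M ⧸ (I • ⊤ : Submodule R M)) :=
  Module.Projective.of_equiv (quotTensorEquiv M I)

/-- The induced map `M/IM → N/IN`. -/
def quotMap (f : M →ₗ[R] N) :
    (M ⧸ (I • ⊤ : Submodule R M)) →ₗ[R ⧸ I] (N ⧸ (I • ⊤ : Submodule R N)) where
  toFun := Submodule.mapQ _ _ f (Submodule.smul_le.mpr fun r hr m _ => by
    rw [Submodule.mem_comap, map_smul]; exact Submodule.smul_mem_smul hr trivial)
  map_add' := map_add _
  map_smul' c x := by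
    obtain ⟨r, rfl⟩ := Ideal.Quotient.mk_surjective c
    show Submodule.mapQ _ _ f _ (r • x) = r • _
    rw [map_smul]

@[simp] theorem quotMap_mk (f : M →ₗ[R] N) (m : M) :
    quotMap I f (Submodule.Quotient.mk m) = Submodule.Quotient.mk (f m) := rfl

theorem quotMap_surjective {f : M →ₗ[R] N} (hf : Function.Surjective f) :
    Function.Surjective (quotMap I f) := fun y => by
  obtain ⟨n, rfl⟩ := Submodule.Quotient.mk_surjective _ y
  obtain ⟨m, rfl⟩ := hf n
  exact ⟨Submodule.Quotient.mk m, rfl⟩

variable (x : R)

theorem mem_span_singleton_smul_top {m : M} :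
    m ∈ (Ideal.span {x} • ⊤ : Submodule R M) ↔ ∃ y, x • y = m := by
  rw [Submodule.ideal_span_singleton_smul, Submodule.mem_smul_pointwise_iff_exists]
  simp

/-- If `x` is regular on `N`, reduction mod `x` keeps the kernel of `P → N`. -/
theorem exists_equiv_ker_quotMap (f : P →ₗ[R] N) (hf : Function.Surjective f) (hx : IsSMulRegular N x) :
    Nonempty ((LinearMap.ker f ⧸ (Ideal.span {x} • ⊤ : Submodule R (LinearMap.ker f))) ≃ₗ[R ⧸ Ideal.span {x}]
      LinearMap.ker (quotMap (Ideal.span {x}) f)) := by
  let g : (LinearMap.ker f ⧸ (Ideal.span {x} • ⊤ : Submodule R (LinearMap.ker f))) →ₗ[R ⧸ Ideal.span {x}]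
      LinearMap.ker (quotMap (Ideal.span {x}) f) :=
    LinearMap.codRestrict _ (quotMap (Ideal.span {x}) (LinearMap.ker f).subtype) fun y => by
      obtain ⟨⟨y, hy⟩, rfl⟩ := Submodule.Quotient.mk_surjective _ y
      rw [LinearMap.mem_ker, quotMap_mk, quotMap_mk]
      simp [LinearMap.mem_ker.mp hy]
  refine ⟨LinearEquiv.ofBijective g ⟨?_, ?_⟩⟩
  · rw [injective_iff_map_eq_zero]
    intro y hy
    obtain ⟨⟨y, hy'⟩, rfl⟩ := Submodule.Quotient.mk_surjective _ y
    have h : quotMap (Ideal.span {x}) (LinearMap.ker f).subtype (Submodule.Quotient.mk ⟨y, hy'⟩) = 0 :=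
      congrArg Subtype.val hy
    rw [quotMap_mk, Submodule.Quotient.mk_eq_zero, mem_span_singleton_smul_top] at h
    obtain ⟨z, hz⟩ := h
    have hzk : z ∈ LinearMap.ker f := hx (by
      show x • f z = x • 0
      rw [← map_smul, hz, smul_zero]; exact LinearMap.mem_ker.mp hy')
    rw [Submodule.Quotient.mk_eq_zero, mem_span_singleton_smul_top]
    exact ⟨⟨z, hzk⟩, Subtype.ext hz⟩
  · rintro ⟨y, hy⟩
    obtain ⟨y, rfl⟩ := Submodule.Quotient.mk_surjective _ y
    rw [LinearMap.mem_ker, quotMap_mk, Submodule.Quotient.mk_eq_zero] at hy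
    rw [mem_span_singleton_smul_top] at hy
    obtain ⟨w, hw⟩ := hy
    obtain ⟨z, rfl⟩ := hf w
    refine ⟨Submodule.Quotient.mk ⟨y - x • z, LinearMap.mem_ker.mpr (by rw [map_sub, map_smul, hw, sub_self])⟩,
      Subtype.ext ?_⟩
    show Submodule.Quotient.mk (y - x • z) = Submodule.Quotient.mk y
    rw [Submodule.Quotient.eq, mem_span_singleton_smul_top]
    exact ⟨-z, by rw [smul_neg]; abel⟩

/-- Reduction modulo a regular element does not increase the projective dimension. -/
theorem PdLT.quotient_of_isSMulRegular [IsNoetherianRing R] [Module.Finite R M] (hxR : IsSMulRegular R x)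
    (hxM : IsSMulRegular M x) (n : ℕ) (h : PdLT R M (n + 1)) :
    PdLT (R ⧸ Ideal.span {x}) (M ⧸ (Ideal.span {x} • ⊤ : Submodule R M)) (n + 1) := by
  induction n generalizing M with
  | zero =>
    rw [PdLT.one_iff] at h ⊢
    exact projective_quotient M _
  | succ n ih =>
    obtain ⟨k, f, hf⟩ := exists_surjective_fin R M
    have hK := (PdLT.ker_iff f hf n).mp h
    have hxK : IsSMulRegular (LinearMap.ker f) x := fun a b hab =>
      Subtype.ext (funext fun i => hxR (congrFun (congrArg Subtype.val hab) i))
    obtain ⟨e⟩ := exists_equiv_ker_quotMap x f hf hxM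
    have := projective_quotient (Fin k → R) (Ideal.span {x})
    exact (PdLT.ker_iff _ (quotMap_surjective _ hf) n).mpr (PdLT.of_equiv e (ih hxK hK))

/-- Over a local ring, the projective dimension is detected after reduction mod a regular element. -/
theorem PdLT.of_quotient_of_isSMulRegular [IsLocalRing R] [IsNoetherianRing R] [Module.Finite R M]
    (hx : x ∈ IsLocalRing.maximalIdeal R) (hxR : IsSMulRegular R x)
    (hxM : IsSMulRegular M x) (n : ℕ)
    (h : PdLT (R ⧸ Ideal.span {x}) (M ⧸ (Ideal.span {x} • ⊤ : Submodule R M)) (n + 1)) :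
    PdLT R M (n + 1) := by
  have hjac : Ideal.span {x} ≤ Ideal.jacobson ⊥ := by
    rw [IsLocalRing.jacobson_eq_maximalIdeal ⊥ bot_ne_top]
    simpa [Ideal.span_le] using hx
  induction n generalizing M with
  | zero =>
    rw [PdLT.one_iff] at h ⊢
    set I := Ideal.span {x}
    have : Nontrivial (R ⧸ I) := Ideal.Quotient.nontrivial_iff.mpr
      (fun ht => Ideal.IsPrime.ne_top inferInstance (top_le_iff.mp (ht ▸ (show I ≤ IsLocalRing.maximalIdeal R by
        simpa [I, Ideal.span_le] using hx))))
    have : IsLocalRing (R ⧸ I) := IsLocalRing.of_surjective' _ Ideal.Quotient.mk_surjective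
    have : Module.Finite (R ⧸ I) (M ⧸ (I • ⊤ : Submodule R M)) := Module.Finite.of_restrictScalars_finite R _ _
    have : Module.Free (R ⧸ I) (M ⧸ (I • ⊤ : Submodule R M)) := Module.free_of_flat_of_isLocalRing
    let b := Module.Free.chooseBasis (R ⧸ I) (M ⧸ (I • ⊤ : Submodule R M))
    choose m hm using fun i => Submodule.Quotient.mk_surjective _ (b i)
    let f := Fintype.linearCombination R m
    have hf : Function.Surjective f := by
      rw [← LinearMap.range_eq_top, eq_top_iff]
      refine Submodule.le_of_le_smul_of_le_jacobson_bot (I := I) Module.Finite.fg_top hjac fun y _ => ?_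
      choose c hc using fun i => Ideal.Quotient.mk_surjective (b.repr (Submodule.Quotient.mk y) i)
      have : y - f c ∈ (I • ⊤ : Submodule R M) := by
        rw [← Submodule.Quotient.mk_eq_zero, Submodule.Quotient.mk_sub, sub_eq_zero]
        conv_lhs => rw [← b.sum_repr (Submodule.Quotient.mk y)]
        simp only [f, Fintype.linearCombination_apply, ← Submodule.mkQ_apply, map_sum, map_smul]
        simp only [Submodule.mkQ_apply, hm]
        refine Finset.sum_congr rfl fun i _ => ?_
        rw [← hc i]
        rfl
      rw [← sub_add_cancel y (f c)]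
      exact Submodule.add_mem _ (Submodule.mem_sup_right this) (Submodule.mem_sup_left ⟨c, rfl⟩)
    have hker : LinearMap.ker f = ⊥ := by
      refine Submodule.eq_bot_of_le_smul_of_le_jacobson_bot I _ (IsNoetherian.noetherian _) (fun c hc => ?_) hjac
      have h0 : ∀ i, c i ∈ I := by
        have h1 : ∑ i, (Ideal.Quotient.mk I (c i)) • b i = 0 := by
          have := congrArg (Submodule.mkQ (I • ⊤ : Submodule R M)) (LinearMap.mem_ker.mp hc)
          simp only [f, Fintype.linearCombination_apply, map_sum, map_smul, map_zero,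
            Submodule.mkQ_apply, hm] at this
          exact this
        intro i
        exact Ideal.Quotient.eq_zero_iff_mem.mp (Fintype.linearIndependent_iff.mp b.linearIndependent _ h1 i)
      choose d hd using fun i => Ideal.mem_span_singleton.mp (h0 i)
      have hdk : d ∈ LinearMap.ker f := hxM (by
        show x • f d = x • 0
        rw [← map_smul, smul_zero, show x • d = c from funext fun i => (hd i).symm]
        exact LinearMap.mem_ker.mp hc)
      rw [show c = x • d from funext fun i => hd i]
      exact Submodule.smul_mem_smul (Ideal.mem_span_singleton_self x) hdk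
    exact Module.Projective.of_equiv (LinearEquiv.ofBijective f ⟨LinearMap.ker_eq_bot.mp hker, hf⟩)
  | succ n ih =>
    obtain ⟨k, f, hf⟩ := exists_surjective_fin R M
    have hxK : IsSMulRegular (LinearMap.ker f) x := fun a b hab =>
      Subtype.ext (funext fun i => hxR (congrFun (congrArg Subtype.val hab) i))
    obtain ⟨e⟩ := exists_equiv_ker_quotMap x f hf hxM
    have := projective_quotient (Fin k → R) (Ideal.span {x})
    exact (PdLT.ker_iff f hf n).mpr (ih hxK (PdLT.of_equiv e.symm ((PdLT.ker_iff _ (quotMap_surjective _ hf) n).mp h)))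

end Reduction

section BaseChange

variable (B : Type u) [CommRing B] [Algebra R B]

theorem exists_equiv_ker_baseChange [Module.Flat R B] (f : P →ₗ[R] M) :
    Nonempty ((B ⊗[R] LinearMap.ker f) ≃ₗ[B] LinearMap.ker (f.baseChange B)) := by
  have hinj : Function.Injective ((LinearMap.ker f).subtype.baseChange B) :=
    Module.Flat.lTensor_preserves_injective_linearMap _ (Submodule.subtype_injective _)
  have hex : Function.Exact ((LinearMap.ker f).subtype.baseChange B) (f.baseChange B) :=
    Module.Flat.lTensor_exact B (LinearMap.exact_subtype_ker_map f)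
  exact ⟨(LinearEquiv.ofInjective _ hinj).trans
    (LinearEquiv.ofEq _ _ (LinearMap.exact_iff.mp hex).symm)⟩

/-- Flat base change does not increase the projective dimension. -/
theorem PdLT.baseChange [Module.Flat R B] (n : ℕ) (h : PdLT R M n) : PdLT B (B ⊗[R] M) n := by
  match n with
  | 0 =>
    rw [PdLT.zero_iff] at h ⊢
    exact subsingleton_of_forall_eq 0 fun z => by
      induction z using TensorProduct.induction_on with
      | zero => rfl
      | tmul b m => rw [Subsingleton.elim m 0, TensorProduct.tmul_zero]
      | add a b ha hb => rw [ha, hb, add_zero]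
  | n + 1 =>
    induction n generalizing M with
    | zero =>
      rw [PdLT.one_iff] at h ⊢
      infer_instance
    | succ n ih =>
      have hf : Function.Surjective (Finsupp.linearCombination R (id : M → M)) :=
        Finsupp.linearCombination_id_surjective R M
      obtain ⟨e⟩ := exists_equiv_ker_baseChange B (Finsupp.linearCombination R (id : M → M))
      exact (PdLT.ker_iff ((Finsupp.linearCombination R (id : M → M)).baseChange B) (LinearMap.lTensor_surjective B hf) n).mpr
        (PdLT.of_equiv e (ih ((PdLT.ker_iff _ hf n).mp h)))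

/-- Projective dimension of a finite module over a Noetherian ring descends along faithfully flat maps. -/
theorem PdLT.of_baseChange [IsNoetherianRing R] [Module.FaithfullyFlat R B] [Module.Finite R M] (n : ℕ)
    (h : PdLT B (B ⊗[R] M) (n + 1)) : PdLT R M (n + 1) := by
  induction n generalizing M with
  | zero =>
    rw [PdLT.one_iff] at h ⊢
    have : Module.Flat R M := Module.Flat.of_flat_tensorProduct R M B
    have : Module.FinitePresentation R M := Module.finitePresentation_of_finite R M
    exact Module.Flat.projective_of_finitePresentation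
  | succ n ih =>
    obtain ⟨k, f, hf⟩ := exists_surjective_fin R M
    obtain ⟨e⟩ := exists_equiv_ker_baseChange B f
    exact (PdLT.ker_iff f hf n).mpr
      (ih (PdLT.of_equiv (R := B) e.symm ((PdLT.ker_iff (f.baseChange B) (LinearMap.lTensor_surjective B hf) n).mp h)))

end BaseChange

end Groth.Ega4Algebra1
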