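import Groth.Agent.DescentBase.DimEtale

/-! Dimension under specializing surjections. -/

set_option autoImplicit false

namespace Groth.Ega4Algebra1

variable {α β : Type*} [TopologicalSpace α] [TopologicalSpace β]

attribute [local instance] specializationOrder

theorem topologicalKrullDim_le_of_specializing [QuasiSober α] [T0Space α] [QuasiSober β]
    [T0Space β] (f : α → β) (hg : SpecializingMap f) (hs : Function.Surjective f) :
    topologicalKrullDim β ≤ topologicalKrullDim α := by
  rw [Groth.DescentBase.topologicalKrullDim_eq_points, Groth.DescentBase.topologicalKrullDim_eq_points]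
  refine iSup_le fun l => ?_
  suffices ∀ l : LTSeries β, ∃ l' : LTSeries α, f l'.head = l.head ∧ l'.length = l.length by
    obtain ⟨l', -, hlen⟩ := this l
    rw [← hlen]
    exact Order.LTSeries.length_le_krullDim l'
  intro l
  induction l using RelSeries.inductionOn with
  | singleton x =>
    obtain ⟨a, ha⟩ := hs x
    exact ⟨RelSeries.singleton _ a, ha, rfl⟩
  | cons p x hx ih =>
    obtain ⟨l', hl', hlen⟩ := ih
    obtain ⟨a, ha, hfa⟩ := hg (show f l'.head ⤳ x by rw [hl']; exact le_of_lt hx)
    have hlt : a < l'.head := lt_of_le_of_ne ha fun he => ne_of_lt (show x < p.head from hx) (by rw [← hfa, he, hl'])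
    exact ⟨l'.cons a hlt, (congrArg f (RelSeries.head_cons ..)).trans (hfa.trans (RelSeries.head_cons ..).symm),
      by rw [RelSeries.cons_length, RelSeries.cons_length, hlen]⟩

end Groth.Ega4Algebra1
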