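import Groth.Prelude.Def_EGA4b
import Groth.Agent.Ega4Algebra1.CatenaryDim
import Groth.Agent.Ega4Algebra1.RegularCatenary
import Groth.Agent.Ega4Algebra2.CplQuot
import Groth.Agent.Calg1.CompletionLocal
import Groth.Agent.Calg4.CompletionFlat
import Mathlib

/-!
Equidimensional and formally equidimensional local rings: regular quotients and flat descent.
-/

set_option autoImplicit false

universe u

namespace Groth.Ega4Algebra1

open IsLocalRing

/-- Minimal primes over an extended prime lie over it. -/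
theorem under_eq_of_mem_minimalPrimes_map {R S : Type u} [CommRing R] [CommRing S] [Algebra R S]
    [Algebra.HasGoingDown R S] {p : Ideal R} [p.IsPrime] {Q : Ideal S}
    (hQ : Q ∈ (p.map (algebraMap R S)).minimalPrimes) : Q.under R = p := by
  have := hQ.1.1
  have hle : p ≤ Q.under R := Ideal.map_le_iff_le_comap.mp hQ.1.2
  obtain ⟨P, hPQ, hP, hover⟩ := Ideal.exists_ideal_le_liesOver_of_le (R := R) (S := S) (p := p) (q := Q.under R) Q hle
  have hQP : Q ≤ P := hQ.2 ⟨hP, Ideal.map_le_iff_le_comap.mpr hover.over.le⟩ hPQ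
  rw [le_antisymm hQP hPQ]
  exact hover.over.symm

/-- Minimal primes over an extended prime have its height. -/
theorem height_eq_of_mem_minimalPrimes_map {R S : Type u} [CommRing R] [IsNoetherianRing R] [CommRing S]
    [IsNoetherianRing S] [Algebra R S] [Algebra.HasGoingDown R S] {p : Ideal R} [p.IsPrime] {Q : Ideal S}
    [Q.IsPrime] (hQ : Q ∈ (p.map (algebraMap R S)).minimalPrimes) : Q.height = p.height := by
  have : Q.LiesOver p := ⟨(under_eq_of_mem_minimalPrimes_map hQ).symm⟩
  rw [Ideal.height_eq_height_add_of_liesOver_of_hasGoingDown p Q]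
  set I := p.map (algebraMap R S)
  have hker : RingHom.ker (Ideal.Quotient.mk I) ≤ Q := by rw [Ideal.mk_ker]; exact hQ.1.2
  have : (Q.map (Ideal.Quotient.mk I)).IsPrime := Ideal.map_isPrime_of_surjective Ideal.Quotient.mk_surjective hker
  have hmin : Q.map (Ideal.Quotient.mk I) ∈ minimalPrimes (S ⧸ I) := by
    refine ⟨⟨inferInstance, bot_le⟩, fun q hq hle => ?_⟩
    have := hq.1
    have h1 : q.comap (Ideal.Quotient.mk I) ≤ Q := by
      refine (Ideal.comap_mono hle).trans (le_of_eq ?_)
      rw [Ideal.comap_map_of_surjective _ Ideal.Quotient.mk_surjective]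
      exact sup_eq_left.mpr hker
    have hI : I ≤ q.comap (Ideal.Quotient.mk I) := fun z hz =>
      Ideal.mem_comap.mpr (by rw [Ideal.Quotient.eq_zero_iff_mem.mpr hz]; exact q.zero_mem)
    have h2 : Q ≤ q.comap (Ideal.Quotient.mk I) := hQ.2 ⟨inferInstance, hI⟩ h1
    exact (Ideal.map_mono h2).trans Ideal.map_comap_le
  rw [Ideal.height_eq_zero_iff.mpr hmin, add_zero]

/-- In a regular local ring height and dimension of the quotient add up to the dimension. -/
theorem height_add_ringKrullDim_quotient (R : Type u) [CommRing R] [IsRegularRing R] [IsLocalRing R]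
    (Q : Ideal R) [Q.IsPrime] : (Q.height : WithBot ℕ∞) + ringKrullDim (R ⧸ Q) = ringKrullDim R := by
  have hle : (⟨Q, ‹_›⟩ : PrimeSpectrum R) ≤ closedPoint R := IsLocalRing.le_maximalIdeal (Ideal.IsPrime.ne_top ‹_›)
  have h := Groth.LocFinite.height_add_Ici (R := R) ⟨Q, ‹_›⟩ (closedPoint R) hle
  rw [← IsLocalRing.maximalIdeal_height_eq_ringKrullDim (R := R), show (maximalIdeal R).height = _ from h,
    WithBot.coe_add]
  congr 1
  let T : OrderTop (Set.Ici (⟨Q, ‹_›⟩ : PrimeSpectrum R)) :=
    { top := ⟨closedPoint R, hle⟩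
      le_top := fun x => IsLocalRing.le_maximalIdeal x.1.isPrime.ne_top }
  rw [show ringKrullDim (R ⧸ Q) = _ from ringKrullDim_quotient_eq_coheight R ⟨Q, ‹_›⟩]
  refine (Order.coheight_eq_krullDim_Ici (⟨Q, ‹_›⟩ : PrimeSpectrum R)).trans ?_
  exact (Order.height_top_eq_krullDim (α := ↥(Set.Ici _))).symm

theorem ringKrullDim_quotient_ne_bot {R : Type u} [CommRing R] (Q : Ideal R) [Q.IsPrime] :
    ringKrullDim (R ⧸ Q) ≠ ⊥ := by
  have : Nontrivial (R ⧸ Q) := Ideal.Quotient.nontrivial_iff.mpr (Ideal.IsPrime.ne_top ‹_›)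
  exact ne_bot_of_le_ne_bot (by simp) ringKrullDim_nonneg_of_nontrivial

/-- Cancellation for dimensions. -/
theorem withBot_add_left_cancel {a : ℕ∞} (ha : a ≠ ⊤) {x y : WithBot ℕ∞}
    (h : (a : WithBot ℕ∞) + x = a + y) : x = y := by
  obtain ⟨n, rfl⟩ := ENat.ne_top_iff_exists.mp ha
  revert h
  cases x with
  | bot => cases y with
    | bot => simp
    | coe y => intro h; rw [WithBot.add_bot, ← WithBot.coe_add] at h; exact absurd h WithBot.bot_ne_coe
  | coe x => cases y with
    | bot => intro h; rw [WithBot.add_bot, ← WithBot.coe_add] at h; exact absurd h WithBot.coe_ne_bot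
    | coe y =>
      intro h
      rw [← WithBot.coe_add, ← WithBot.coe_add, WithBot.coe_inj] at h
      exact congrArg _ (ENat.add_right_injective_of_ne_top (ENat.natCast_ne_top n) h)

/-- A ring all of whose components have the same dimension is equidimensional. -/
theorem isEquidim_of_forall_eq (C : Type u) [CommRing C]
    (h : ∀ p ∈ minimalPrimes C, ∀ q ∈ minimalPrimes C, ringKrullDim (C ⧸ p) = ringKrullDim (C ⧸ q)) :
    EGA4.IsEquidim C := by
  intro p hp
  refine le_antisymm (ringKrullDim_le_of_surjective _ Ideal.Quotient.mk_surjective) ?_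
  rw [ringKrullDim, Order.krullDim]
  refine iSup_le fun s => ?_
  have hs := s.head.isPrime
  obtain ⟨q, hq, hqs⟩ := Ideal.exists_minimalPrimes_le (bot_le : (⊥ : Ideal C) ≤ s.head.asIdeal)
  rw [h p hp q hq, ringKrullDim_quotient_eq_coheight C ⟨q, hq.1.1⟩]
  exact WithBot.coe_le_coe.mpr (Order.length_le_coheight (p := s) hqs)

theorem isEquidim_of_ringEquiv {A B : Type u} [CommRing A] [CommRing B] (e : A ≃+* B)
    (h : EGA4.IsEquidim A) : EGA4.IsEquidim B := by
  intro q hq
  have := hq.1.1
  have hp : q.comap (e : A →+* B) ∈ minimalPrimes A := by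
    refine ⟨⟨inferInstance, bot_le⟩, fun p hp hle => ?_⟩
    have := hp.1
    have h1 : p.comap (e.symm : B →+* A) ≤ q := fun x hx => by
      have h0 : e (e.symm x) ∈ q := hle hx
      rwa [RingEquiv.apply_symm_apply] at h0
    have h2 := hq.2 ⟨inferInstance, bot_le⟩ h1
    intro x hx
    have h0 : e.symm (e x) ∈ p := h2 hx
    rwa [RingEquiv.symm_apply_apply] at h0
  have hq' : q = (q.comap (e : A →+* B)).map (e : A →+* B) :=
    (Ideal.map_comap_of_surjective _ e.surjective q).symm
  rw [← ringKrullDim_eq_of_ringEquiv e, ← h _ hp]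
  exact (ringKrullDim_eq_of_ringEquiv (Ideal.quotientEquiv (q.comap (e : A →+* B)) q e hq')).symm

theorem isFormallyEquidim_of_ringEquiv {A B : Type u} [CommRing A] [CommRing B] [IsLocalRing A]
    [IsLocalRing B] (e : A ≃+* B) (h : EGA4.IsFormallyEquidim A) : EGA4.IsFormallyEquidim B := by
  obtain ⟨σ, -⟩ := Groth.PropsBasic.GRingLocal.exists_cplEquiv (maximalIdeal A) (maximalIdeal B) e
    (map_maximalIdeal_of_surjective _ e.surjective)
  exact isEquidim_of_ringEquiv σ h

/-- A local quotient of a regular local ring whose components have the same codimension is formally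
equidimensional. -/
theorem isFormallyEquidim_of_regular_quotient {R : Type u} [CommRing R] [IsRegularRing R] [IsLocalRing R]
    (I : Ideal R) [Nontrivial (R ⧸ I)]
    (h : ∀ P ∈ I.minimalPrimes, ∀ Q ∈ I.minimalPrimes, P.height = Q.height) :
    EGA4.IsFormallyEquidim (R ⧸ I) := by
  have := IsRegularLocalRing.of_isRegularRing_of_isLocalRing (R := R)
  set C := EGA4.Cpl R
  have hC : IsRegularLocalRing C := (Groth.Calg1.isRegularLocalRing_adicCompletion_iff R).mp inferInstance
  have : IsRegularRing C := { isRegularLocalRing_localization := fun p _ => isRegularLocalRing_localization_atPrime C p }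
  have : Module.Flat R C := AdicCompletion.flat_of_isNoetherian _
  refine isEquidim_of_forall_eq _ fun q₁ hq₁ q₂ hq₂ => ?_
  have key : ∀ q ∈ minimalPrimes (EGA4.Cpl (R ⧸ I)), ∃ P ∈ I.minimalPrimes,
      (P.height : WithBot ℕ∞) + ringKrullDim (EGA4.Cpl (R ⧸ I) ⧸ q) = ringKrullDim C := by
    intro q hq
    have := hq.1.1
    set σ := Groth.Ega4b.cplQuot R I
    have hσ := Groth.Ega4b.cplQuot_surjective R I
    set Q := q.comap σ
    have hIQ : I.map (algebraMap R C) ≤ Q := by
      rw [← Groth.Ega4b.ker_cplQuot R I]; exact Ideal.comap_mono bot_le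
    have hQmin : Q ∈ (I.map (algebraMap R C)).minimalPrimes := by
      refine ⟨⟨inferInstance, hIQ⟩, fun Q' hQ' hle => ?_⟩
      have hker : RingHom.ker σ ≤ Q' := (Groth.Ega4b.ker_cplQuot R I).le.trans hQ'.2
      have := hQ'.1
      have hp := Ideal.map_isPrime_of_surjective hσ hker
      have h1 : Q'.map σ ≤ q := Ideal.map_le_iff_le_comap.mpr hle
      have h2 : q ≤ Q'.map σ := hq.2 ⟨hp, bot_le⟩ h1
      refine (Ideal.comap_mono h2).trans (le_of_eq ?_)
      rw [Ideal.comap_map_of_surjective _ hσ]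
      exact sup_eq_left.mpr hker
    set P := Q.under R
    have hPmin : P ∈ I.minimalPrimes := by
      refine ⟨⟨inferInstance, Ideal.map_le_iff_le_comap.mp hIQ⟩, fun P' hP' hle => ?_⟩
      have := hP'.1
      obtain ⟨Q', hQ'Q, hQ'p, hover⟩ := Ideal.exists_ideal_le_liesOver_of_le (R := R) (S := C) (p := P') (q := P) Q hle
      have h2 : Q ≤ Q' := hQmin.2 ⟨hQ'p, Ideal.map_le_iff_le_comap.mpr (hP'.2.trans hover.over.le)⟩ hQ'Q
      exact (Ideal.comap_mono h2).trans hover.over.ge
    have hQP : Q ∈ (P.map (algebraMap R C)).minimalPrimes :=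
      ⟨⟨inferInstance, Ideal.map_le_iff_le_comap.mpr le_rfl⟩,
        fun Q' hQ' hle => hQmin.2 ⟨hQ'.1, (Ideal.map_mono hPmin.1.2).trans hQ'.2⟩ hle⟩
    refine ⟨P, hPmin, ?_⟩
    rw [← height_eq_of_mem_minimalPrimes_map hQP]
    refine Eq.trans ?_ (height_add_ringKrullDim_quotient C Q)
    congr 1
    exact (ringKrullDim_eq_of_ringEquiv ((Ideal.quotEquivOfEq
      (show Q = RingHom.ker ((Ideal.Quotient.mk q).comp σ) by
        rw [← RingHom.comap_ker, Ideal.mk_ker])).trans
      (RingHom.quotientKerEquivOfSurjective (Ideal.Quotient.mk_surjective.comp hσ)))).symm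
  obtain ⟨P₁, hP₁, h₁⟩ := key q₁ hq₁
  obtain ⟨P₂, hP₂, h₂⟩ := key q₂ hq₂
  rw [← h₂, h P₁ hP₁ P₂ hP₂] at h₁
  exact withBot_add_left_cancel (Ideal.height_ne_top hP₂.1.1.ne_top) h₁

/-- The maximal height of a local homomorphism: `dim D ≤ dim B + dim D/m D`, equal when flat. -/
theorem ringKrullDim_le_add_fibre (B D : Type u) [CommRing B] [CommRing D] [IsLocalRing B] [IsLocalRing D]
    [IsNoetherianRing B] [IsNoetherianRing D] [Algebra B D] [IsLocalHom (algebraMap B D)] :
    ringKrullDim D ≤ ringKrullDim B + ringKrullDim (D ⧸ (maximalIdeal B).map (algebraMap B D)) ∧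
      (Module.Flat B D →
        ringKrullDim D = ringKrullDim B + ringKrullDim (D ⧸ (maximalIdeal B).map (algebraMap B D))) := by
  have : (maximalIdeal D).LiesOver (maximalIdeal B) :=
    ⟨(IsLocalRing.maximalIdeal_comap (algebraMap B D)).symm⟩
  set I := (maximalIdeal B).map (algebraMap B D)
  have hI : I ≤ maximalIdeal D := ((IsLocalRing.local_hom_TFAE (algebraMap B D)).out 0 2).mp ‹_›
  have : Nontrivial (D ⧸ I) := Ideal.Quotient.nontrivial_iff.mpr fun e =>
    (maximalIdeal.isMaximal D).ne_top (top_le_iff.mp (e ▸ hI))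
  have : IsLocalRing (D ⧸ I) := IsLocalRing.of_surjective' _ Ideal.Quotient.mk_surjective
  have hmap : (maximalIdeal D).map (Ideal.Quotient.mk I) = maximalIdeal (D ⧸ I) :=
    map_maximalIdeal_of_surjective _ Ideal.Quotient.mk_surjective
  rw [← maximalIdeal_height_eq_ringKrullDim, ← maximalIdeal_height_eq_ringKrullDim,
    ← maximalIdeal_height_eq_ringKrullDim (R := D ⧸ I), ← WithBot.coe_add, ← hmap]
  refine ⟨WithBot.coe_le_coe.mpr (Ideal.height_le_height_add_of_liesOver _ _), fun hflat => ?_⟩
  have := hflat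
  rw [Ideal.height_eq_height_add_of_liesOver_of_hasGoingDown (maximalIdeal B) (maximalIdeal D)]

/-- Equidimensionality descends along flat local homomorphisms. -/
theorem isEquidim_of_flat_local (B D : Type u) [CommRing B] [CommRing D] [IsLocalRing B] [IsLocalRing D]
    [IsNoetherianRing B] [IsNoetherianRing D] [Algebra B D] [IsLocalHom (algebraMap B D)] [Module.Flat B D]
    (h : EGA4.IsEquidim D) : EGA4.IsEquidim B := by
  intro p hp
  have := hp.1.1
  refine le_antisymm (ringKrullDim_le_of_surjective _ Ideal.Quotient.mk_surjective) ?_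
  set I := p.map (algebraMap B D)
  have hI : I ≤ maximalIdeal D := (Ideal.map_mono (le_maximalIdeal hp.1.1.ne_top)).trans
    (((IsLocalRing.local_hom_TFAE (algebraMap B D)).out 0 2).mp ‹_›)
  obtain ⟨Q, hQ, -⟩ := Ideal.exists_minimalPrimes_le hI
  have := hQ.1.1
  have hQmin : Q ∈ minimalPrimes D := Ideal.height_eq_zero_iff.mp
    ((height_eq_of_mem_minimalPrimes_map hQ).trans (Ideal.height_eq_zero_iff.mpr hp))
  have : Nontrivial (D ⧸ I) := Ideal.Quotient.nontrivial_iff.mpr fun e =>
    (maximalIdeal.isMaximal D).ne_top (top_le_iff.mp (e ▸ hI))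
  have : IsLocalRing (D ⧸ I) := IsLocalRing.of_surjective' _ Ideal.Quotient.mk_surjective
  have : IsLocalRing (B ⧸ p) := IsLocalRing.of_surjective' _ Ideal.Quotient.mk_surjective
  let : Algebra (B ⧸ p) (D ⧸ I) := (Ideal.quotientMap I (algebraMap B D) Ideal.le_comap_map).toAlgebra
  have halg : (algebraMap (B ⧸ p) (D ⧸ I)).comp (Ideal.Quotient.mk p) =
      (Ideal.Quotient.mk I).comp (algebraMap B D) := RingHom.ext fun b => rfl
  have hmB : (maximalIdeal B).map (Ideal.Quotient.mk p) = maximalIdeal (B ⧸ p) :=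
    map_maximalIdeal_of_surjective _ Ideal.Quotient.mk_surjective
  have hmD : (maximalIdeal D).map (Ideal.Quotient.mk I) = maximalIdeal (D ⧸ I) :=
    map_maximalIdeal_of_surjective _ Ideal.Quotient.mk_surjective
  have : IsLocalHom (algebraMap (B ⧸ p) (D ⧸ I)) := by
    refine ((IsLocalRing.local_hom_TFAE _).out 0 2).mpr ?_
    rw [← hmB, Ideal.map_map, halg, ← Ideal.map_map, ← hmD]
    exact Ideal.map_mono (((IsLocalRing.local_hom_TFAE (algebraMap B D)).out 0 2).mp ‹_›)
  have hfib : ringKrullDim ((D ⧸ I) ⧸ (maximalIdeal (B ⧸ p)).map (algebraMap (B ⧸ p) (D ⧸ I))) =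
      ringKrullDim (D ⧸ (maximalIdeal B).map (algebraMap B D)) :=
    ringKrullDim_eq_of_ringEquiv ((Ideal.quotEquivOfEq (by rw [← hmB, Ideal.map_map, halg, ← Ideal.map_map])).trans
      (DoubleQuot.quotQuotEquivQuotOfLE (Ideal.map_mono (le_maximalIdeal hp.1.1.ne_top))))
  have h1 := (ringKrullDim_le_add_fibre (B ⧸ p) (D ⧸ I)).1
  rw [hfib] at h1
  have h2 := (ringKrullDim_le_add_fibre B D).2 inferInstance
  have h3 : ringKrullDim D ≤ ringKrullDim (D ⧸ I) := (h Q hQmin).ge.trans
    (ringKrullDim_le_of_surjective (Ideal.Quotient.factor hQ.1.2) (Ideal.Quotient.factor_surjective hQ.1.2))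
  have h4 := h2.ge.trans (h3.trans h1)
  set F := D ⧸ (maximalIdeal B).map (algebraMap B D)
  have hne : Nontrivial F := Ideal.Quotient.nontrivial_iff.mpr fun e =>
    (maximalIdeal.isMaximal D).ne_top (top_le_iff.mp (e ▸ (((IsLocalRing.local_hom_TFAE (algebraMap B D)).out 0 2).mp ‹_›)))
  have : IsLocalRing F := IsLocalRing.of_surjective' (Ideal.Quotient.mk _) Ideal.Quotient.mk_surjective
  rw [← maximalIdeal_height_eq_ringKrullDim (R := F)] at h4
  obtain ⟨n, hn⟩ := ENat.ne_top_iff_exists.mp (Ideal.height_ne_top (I := maximalIdeal F) (maximalIdeal.isMaximal F).ne_top)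
  rw [← hn] at h4
  revert h4
  cases ringKrullDim B with
  | bot => exact fun _ => bot_le
  | coe b =>
    cases hc : ringKrullDim (B ⧸ p) with
    | bot => exact absurd hc (ringKrullDim_quotient_ne_bot p)
    | coe c =>
      intro h4
      rw [← WithBot.coe_add, ← WithBot.coe_add, WithBot.coe_le_coe] at h4
      exact WithBot.coe_le_coe.mpr ((ENat.add_le_add_iff_right (ENat.natCast_ne_top n)).mp h4)

/-- Formal equidimensionality descends along flat local homomorphisms. -/
theorem isFormallyEquidim_of_flat_local (B D : Type u) [CommRing B] [CommRing D] [IsLocalRing B]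
    [IsLocalRing D] [IsNoetherianRing B] [IsNoetherianRing D] [Algebra B D] [IsLocalHom (algebraMap B D)]
    [Module.Flat B D] (h : EGA4.IsFormallyEquidim D) : EGA4.IsFormallyEquidim B := by
  have := Groth.Ega4b.isNoetherianRing_cpl B
  have := Groth.Ega4b.isNoetherianRing_cpl D
  set Dh := AdicCompletion (maximalIdeal D) D
  have hmD : (maximalIdeal B).map (algebraMap B D) ≤ maximalIdeal D :=
    ((IsLocalRing.local_hom_TFAE (algebraMap B D)).out 0 2).mp ‹_›
  let : Algebra (AdicCompletion (maximalIdeal B) B) Dh :=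
    (Groth.PropsBasic.GRingLocal.cplMap (maximalIdeal B) (maximalIdeal D) (algebraMap B D) hmD).toAlgebra
  have : IsScalarTower B (AdicCompletion (maximalIdeal B) B) Dh := IsScalarTower.of_algebraMap_eq fun b => by
    rw [IsScalarTower.algebraMap_apply B D Dh]
    exact (Groth.Calg4.cplMap_algebraMap _ _ _ hmD b).symm
  have : Module.Flat D Dh := AdicCompletion.flat_of_isNoetherian _
  have : Module.Flat B Dh := Module.Flat.trans B D Dh
  have : IsLocalHom (algebraMap B Dh) := by
    refine ((IsLocalRing.local_hom_TFAE _).out 0 2).mpr ?_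
    rw [IsScalarTower.algebraMap_eq B D Dh, ← Ideal.map_map, AdicCompletion.maximalIdeal_eq_map]
    exact Ideal.map_mono hmD
  have := Groth.Calg4.faithfullyFlat_completion_of_flat B Dh
  have : IsLocalHom (algebraMap (AdicCompletion (maximalIdeal B) B) Dh) := by
    refine ((IsLocalRing.local_hom_TFAE _).out 0 2).mpr ?_
    rw [AdicCompletion.maximalIdeal_eq_map, Ideal.map_map, ← IsScalarTower.algebraMap_eq]
    exact ((IsLocalRing.local_hom_TFAE (algebraMap B Dh)).out 0 2).mp ‹_›
  exact isEquidim_of_flat_local (AdicCompletion (maximalIdeal B) B) Dh h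

end Groth.Ega4Algebra1
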