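import Mathlib.RingTheory.Support
import Mathlib.RingTheory.KrullDimension.Module
import Mathlib.RingTheory.Ideal.Height
import Mathlib.RingTheory.Localization.AtPrime.Basic

/-!
Support of localized modules, and the dimension of `M_p` as the dimension of the part of the support
below `p`.
-/

universe u v

namespace Groth.Ega4Algebra1

open PrimeSpectrum

theorem mem_support_localizedModule_iff {R : Type u} [CommRing R] (S : Submonoid R) {M : Type v}
    [AddCommGroup M] [Module R M] (P : PrimeSpectrum (Localization S)) :
    P ∈ Module.support (Localization S) (LocalizedModule S M) ↔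
      PrimeSpectrum.comap (algebraMap R (Localization S)) P ∈ Module.support R M := by
  simp only [Module.mem_support_iff', PrimeSpectrum.comap_asIdeal, Ideal.mem_comap]
  constructor
  · rintro ⟨x, hx⟩
    induction x using LocalizedModule.induction_on with
    | h m s =>
      refine ⟨m, fun r hr hrm => hx _ hr ?_⟩
      rw [algebraMap_smul, LocalizedModule.smul'_mk, hrm, LocalizedModule.zero_mk]
  · rintro ⟨m, hm⟩
    refine ⟨LocalizedModule.mk m 1, fun z hz hzm => ?_⟩
    obtain ⟨⟨a, s⟩, has⟩ := IsLocalization.surj S z
    have hs : algebraMap R (Localization S) s ∉ P.asIdeal := fun h =>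
      P.isPrime.ne_top (Ideal.eq_top_of_isUnit_mem _ h (IsLocalization.map_units _ s))
    have ha : algebraMap R (Localization S) a ∉ P.asIdeal := by
      dsimp only at has
      rw [← has]; exact fun h => (P.isPrime.mem_or_mem h).elim hz hs
    have h0 : algebraMap R (Localization S) a • LocalizedModule.mk m (1 : S) = 0 := by
      dsimp only at has
      rw [← has, mul_comm, mul_smul, hzm, smul_zero]
    rw [algebraMap_smul, LocalizedModule.smul'_mk, ← LocalizedModule.zero_mk (1 : S),
      LocalizedModule.mk_eq] at h0
    obtain ⟨t, ht⟩ := h0
    simp only [one_smul, smul_zero] at ht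
    have htP : algebraMap R (Localization S) (t : R) ∉ P.asIdeal := fun h =>
      P.isPrime.ne_top (Ideal.eq_top_of_isUnit_mem _ h (IsLocalization.map_units _ t))
    refine hm (t * a) ?_ (by rw [mul_smul]; exact ht)
    rw [map_mul]; exact fun h => (P.isPrime.mem_or_mem h).elim htP ha

/-- `dim M_p` is the dimension of the set of primes below `p` in the support of `M`. -/
theorem supportDim_localizedModule_atPrime (R : Type u) [CommRing R] (M : Type v)
    [AddCommGroup M] [Module R M] (p : Ideal R) [p.IsPrime] :
    Module.supportDim (Localization.AtPrime p) (LocalizedModule p.primeCompl M) =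
      Order.krullDim {P : PrimeSpectrum R // P ∈ Module.support R M ∧ P.asIdeal ≤ p} := by
  apply Order.krullDim_eq_of_orderIso
  let e := IsLocalization.AtPrime.primeSpectrumOrderIso (Localization.AtPrime p) p
  exact
    { toFun := fun a => ⟨(e a.1).1, (mem_support_localizedModule_iff p.primeCompl a.1).mp a.2, (e a.1).2⟩
      invFun := fun b => ⟨e.symm ⟨b.1, b.2.2⟩,
        (mem_support_localizedModule_iff p.primeCompl _).mpr (by
          have h : (e (e.symm ⟨b.1, b.2.2⟩)).1 = b.1 := by rw [e.apply_symm_apply]
          exact (h ▸ b.2.1 : _))⟩
      left_inv := fun a => by apply Subtype.ext; exact e.symm_apply_apply a.1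
      right_inv := fun b => by apply Subtype.ext; simp only [Subtype.coe_eta]; rw [e.apply_symm_apply]
      map_rel_iff' := fun {a b} => e.le_iff_le (x := a.1) (y := b.1) }

theorem supportDim_localizedModule_mono (R : Type u) [CommRing R] (M : Type v)
    [AddCommGroup M] [Module R M] {p q : Ideal R} [p.IsPrime] [q.IsPrime] (h : p ≤ q) :
    Module.supportDim (Localization.AtPrime p) (LocalizedModule p.primeCompl M) ≤
      Module.supportDim (Localization.AtPrime q) (LocalizedModule q.primeCompl M) := by
  rw [supportDim_localizedModule_atPrime, supportDim_localizedModule_atPrime]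
  exact Order.krullDim_le_of_strictMono (fun a => ⟨a.1, a.2.1, a.2.2.trans h⟩) (fun _ _ h => h)

end Groth.Ega4Algebra1
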