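import Groth.Agent.Ega4Algebra1.EquidimBasic

/-!
Formally equidimensional local rings: quotients by primes, components, catenarity.
-/

set_option autoImplicit false

universe u

namespace Groth.Ega4Algebra1

open IsLocalRing

/-- A complete local ring is a quotient of a regular local ring. -/
theorem exists_regularLocal_surjective (C : Type u) [CommRing C] [IsLocalRing C] [IsNoetherianRing C]
    [IsAdicComplete (maximalIdeal C) C] :
    ∃ (R : Type u) (_ : CommRing R) (_ : IsRegularRing R) (_ : IsLocalRing R) (f : R →+* C), Function.Surjective f := by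
  obtain ⟨P, _, _, g, hg⟩ := exists_regular_surjective_of_complete C
  set M := (maximalIdeal C).comap g
  have hu : ∀ y : M.primeCompl, IsUnit (g y) := fun y => by
    by_contra h
    exact y.2 ((IsLocalRing.mem_maximalIdeal _).mpr h)
  have hreg : IsRegularLocalRing (Localization.AtPrime M) := inferInstance
  refine ⟨Localization.AtPrime M, inferInstance,
    { isRegularLocalRing_localization := fun p _ => isRegularLocalRing_localization_atPrime _ p }, inferInstance,
    IsLocalization.lift hu, fun c => ?_⟩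
  obtain ⟨x, rfl⟩ := hg c
  exact ⟨algebraMap P _ x, IsLocalization.lift_eq hu x⟩

theorem mem_minimalPrimes_ker {R C : Type u} [CommRing R] [CommRing C] (π : R →+* C) (hπ : Function.Surjective π)
    {q : Ideal C} (hq : q ∈ minimalPrimes C) : q.comap π ∈ (RingHom.ker π).minimalPrimes := by
  have := hq.1.1
  refine ⟨⟨inferInstance, Ideal.comap_mono bot_le⟩, fun Q hQ hle => ?_⟩
  have := hQ.1
  have hp := Ideal.map_isPrime_of_surjective hπ hQ.2
  have h2 : q ≤ Q.map π := hq.2 ⟨hp, bot_le⟩ (Ideal.map_le_iff_le_comap.mpr hle)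
  refine (Ideal.comap_mono h2).trans (le_of_eq ?_)
  rw [Ideal.comap_map_of_surjective _ hπ]
  exact sup_eq_left.mpr hQ.2

theorem ringKrullDim_quotient_comap {R C : Type u} [CommRing R] [CommRing C] (π : R →+* C)
    (hπ : Function.Surjective π) (q : Ideal C) : ringKrullDim (R ⧸ q.comap π) = ringKrullDim (C ⧸ q) :=
  ringKrullDim_eq_of_ringEquiv ((Ideal.quotEquivOfEq
    (show q.comap π = RingHom.ker ((Ideal.Quotient.mk q).comp π) by
      rw [← RingHom.comap_ker, Ideal.mk_ker])).trans
    (RingHom.quotientKerEquivOfSurjective (Ideal.Quotient.mk_surjective.comp hπ)))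

/-- In a quotient of a regular ring with components of codimension `h₀`, heights shift by `h₀`. -/
theorem height_add_eq_height_comap {R C : Type u} [CommRing R] [IsRegularRing R] [CommRing C]
    (π : R →+* C) (hπ : Function.Surjective π) (h₀ : ℕ∞)
    (hmin : ∀ q ∈ minimalPrimes C, (q.comap π).height = h₀) (q : Ideal C) [q.IsPrime] :
    q.height + h₀ = (q.comap π).height := by
  let : Algebra R C := π.toAlgebra
  rw [PrimeSpectrum.height_eq_orderHeight ⟨q, ‹_›⟩]
  set Qc : PrimeSpectrum R := PrimeSpectrum.comap π ⟨q, ‹_›⟩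
  show _ = Qc.asIdeal.height
  refine le_antisymm ?_ ?_
  · have hle : ∀ s : LTSeries (PrimeSpectrum C), s.last ≤ ⟨q, ‹_›⟩ → (s.length : ℕ∞) + h₀ ≤ Qc.asIdeal.height := by
      intro s hs
      obtain ⟨q₀, hq₀, hle⟩ := Ideal.exists_minimalPrimes_le (bot_le : (⊥ : Ideal C) ≤ s.head.asIdeal)
        (J := s.head.asIdeal)
      let p₀ : PrimeSpectrum C := ⟨q₀, hq₀.1.1⟩
      let X := PrimeSpectrum.comap π p₀
      let t : LTSeries (Set.Ici X) :=
        { length := s.length
          toFun := fun i => ⟨PrimeSpectrum.comap π (s i), Ideal.comap_mono (hle.trans (s.monotone (Fin.zero_le i)))⟩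
          step := fun i => RingHom.strictMono_comap_of_surjective hπ (s.step i) }
      have hXQ : X ≤ Qc := Ideal.comap_mono ((hle.trans (s.head_le_last)).trans hs)
      have h1 : (s.length : ℕ∞) ≤ Order.height (⟨Qc, hXQ⟩ : Set.Ici X) :=
        Order.length_le_height (p := t) (show (t.last : Set.Ici X).1 ≤ Qc from Ideal.comap_mono hs)
      rw [Groth.LocFinite.height_add_Ici X Qc hXQ, show X.asIdeal.height = h₀ from hmin q₀ hq₀, add_comm]
      exact add_le_add le_rfl h1
    have h0 := hle (RelSeries.singleton _ ⟨q, ‹_›⟩) (le_refl _)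
    rw [show (RelSeries.singleton {(a, b) : PrimeSpectrum C × PrimeSpectrum C | a < b} ⟨q, ‹_›⟩).length = 0 from rfl,
      Nat.cast_zero, zero_add] at h0
    cases hh : Order.height (⟨q, ‹_›⟩ : PrimeSpectrum C) with
    | top =>
      by_contra hlt
      obtain ⟨n, hn⟩ := ENat.ne_top_iff_exists.mp (Ideal.height_ne_top Qc.isPrime.ne_top)
      obtain ⟨s, hs, hl⟩ := Order.exists_series_of_le_height (⟨q, ‹_›⟩ : PrimeSpectrum C)
        (n := n + 1) (hh ▸ le_top)
      have := (le_self_add.trans (hle s hs.le)).trans hn.ge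
      rw [hl] at this
      norm_cast at this
      omega
    | coe n =>
      obtain ⟨s, hs, hl⟩ := Order.exists_series_of_height_eq_coe (⟨q, ‹_›⟩ : PrimeSpectrum C) hh
      have := hle s hs.le
      rwa [hl] at this
  · obtain ⟨q₀, hq₀, hle⟩ := Ideal.exists_minimalPrimes_le (bot_le : (⊥ : Ideal C) ≤ q) (J := q)
    let p₀ : PrimeSpectrum C := ⟨q₀, hq₀.1.1⟩
    obtain ⟨e, he⟩ := Groth.LocFinite.exists_Ici_orderIso (R := R) (A := C) hπ p₀
    have hXQ : PrimeSpectrum.comap π p₀ ≤ Qc := Ideal.comap_mono hle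
    rw [Groth.LocFinite.height_add_Ici _ Qc hXQ, show (PrimeSpectrum.comap π p₀).asIdeal.height = h₀ from hmin q₀ hq₀,
      add_comm]
    refine add_le_add ?_ le_rfl
    refine le_of_eq_of_le ?_ (Order.height_le_height_apply_of_strictMono (Subtype.val : Set.Ici p₀ → _)
      (fun _ _ h => h) ⟨⟨q, ‹_›⟩, hle⟩)
    rw [← Order.height_orderIso e ⟨⟨q, ‹_›⟩, hle⟩]
    congr 1
    exact Subtype.ext (he ⟨⟨q, ‹_›⟩, hle⟩).symm

/-- In a complete equidimensional local ring, `ht q + dim C/q = dim C`. -/
theorem height_add_ringKrullDim_quotient_of_equidim (C : Type u) [CommRing C] [IsLocalRing C]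
    [IsNoetherianRing C] [IsAdicComplete (maximalIdeal C) C] (h : EGA4.IsEquidim C) (q : Ideal C) [q.IsPrime] :
    (q.height : WithBot ℕ∞) + ringKrullDim (C ⧸ q) = ringKrullDim C := by
  obtain ⟨R, _, _, _, π, hπ⟩ := exists_regularLocal_surjective C
  obtain ⟨m, hm, hmq⟩ := Ideal.exists_minimalPrimes_le (bot_le : (⊥ : Ideal C) ≤ q) (J := q)
  have := hm.1.1
  have key : ∀ p ∈ minimalPrimes C, ((p.comap π).height : WithBot ℕ∞) + ringKrullDim C = ringKrullDim R := fun p hp => by
    have := hp.1.1
    rw [← h p hp, ← ringKrullDim_quotient_comap π hπ p]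
    exact height_add_ringKrullDim_quotient R (p.comap π)
  have hne : (m.comap π).height ≠ ⊤ := Ideal.height_ne_top (Ideal.IsPrime.ne_top inferInstance)
  have hC : ringKrullDim C ≠ ⊥ := ne_bot_of_le_ne_bot (by simp) ringKrullDim_nonneg_of_nontrivial
  have hmin : ∀ p ∈ minimalPrimes C, (p.comap π).height = (m.comap π).height := fun p hp => by
    have h1 := (key p hp).trans (key m hm).symm
    have := hp.1.1
    have hp' : (p.comap π).height ≠ ⊤ := Ideal.height_ne_top (Ideal.IsPrime.ne_top inferInstance)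
    obtain ⟨a, ha⟩ := ENat.ne_top_iff_exists.mp hp'
    obtain ⟨b, hb⟩ := ENat.ne_top_iff_exists.mp hne
    have hfin : ringKrullDim C ≠ ⊤ := ringKrullDim_ne_top
    rw [← ha, ← hb] at h1 ⊢
    revert h1 hC hfin
    cases ringKrullDim C with
    | bot => intro h; exact absurd rfl h
    | coe d =>
      intro _ h1 hfin
      cases d with
      | top => exact absurd rfl hfin
      | coe d =>
        change ((a + d : ℕ) : WithBot ℕ∞) = ((b + d : ℕ) : WithBot ℕ∞) at h1
        have : a + d = b + d := by exact_mod_cast h1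
        exact_mod_cast (by omega : a = b)
  refine withBot_add_left_cancel hne ?_
  rw [← add_assoc, ← WithBot.coe_add, add_comm (m.comap π).height,
    height_add_eq_height_comap π hπ _ hmin q, key m hm, ← ringKrullDim_quotient_comap π hπ q]
  exact height_add_ringKrullDim_quotient R (q.comap π)

theorem isLocalRing_cpl_complete (A : Type u) [CommRing A] [IsLocalRing A] [IsNoetherianRing A] :
    IsAdicComplete (maximalIdeal (EGA4.Cpl A)) (EGA4.Cpl A) := by
  rw [AdicCompletion.maximalIdeal_eq_map]
  exact AdicCompletion.isAdicComplete_self _ (maximalIdeal A).fg_of_isNoetherianRing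

theorem mem_minimalPrimes_map_of_cplQuot (A : Type u) [CommRing A] [IsNoetherianRing A] [IsLocalRing A]
    (p : Ideal A) [Nontrivial (A ⧸ p)] {q : Ideal (EGA4.Cpl (A ⧸ p))} (hq : q ∈ minimalPrimes (EGA4.Cpl (A ⧸ p))) :
    q.comap (Groth.Ega4b.cplQuot A p) ∈ (p.map (algebraMap A (EGA4.Cpl A))).minimalPrimes := by
  rw [← Groth.Ega4b.ker_cplQuot A p]
  exact mem_minimalPrimes_ker _ (Groth.Ega4b.cplQuot_surjective A p) hq

/-- Quotients of a formally equidimensional local ring by primes are formally equidimensional. -/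
theorem quotient_prime_of_isFormallyEquidim (A : Type u) [CommRing A] [IsNoetherianRing A] [IsLocalRing A]
    (h : EGA4.IsFormallyEquidim A) (p : Ideal A) [p.IsPrime] :
    EGA4.IsFormallyEquidim (A ⧸ p) ∧ (p.height : WithBot ℕ∞) + ringKrullDim (A ⧸ p) = ringKrullDim A := by
  have := Groth.Ega4b.isNoetherianRing_cpl A
  have := isLocalRing_cpl_complete A
  have : Module.Flat A (EGA4.Cpl A) := AdicCompletion.flat_of_isNoetherian _
  set σ := Groth.Ega4b.cplQuot A p
  have hσ := Groth.Ega4b.cplQuot_surjective A p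
  have key : ∀ q ∈ minimalPrimes (EGA4.Cpl (A ⧸ p)),
      (p.height : WithBot ℕ∞) + ringKrullDim (EGA4.Cpl (A ⧸ p) ⧸ q) = ringKrullDim A := fun q hq => by
    have := hq.1.1
    rw [← height_eq_of_mem_minimalPrimes_map (mem_minimalPrimes_map_of_cplQuot A p hq),
      ← ringKrullDim_quotient_comap σ hσ q, ← Groth.Calg1.ringKrullDim_adicCompletion A]
    exact height_add_ringKrullDim_quotient_of_equidim (EGA4.Cpl A) h (q.comap σ)
  have hfe : EGA4.IsFormallyEquidim (A ⧸ p) := isEquidim_of_forall_eq _ fun q₁ h₁ q₂ h₂ =>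
    withBot_add_left_cancel (Ideal.height_ne_top (I := p) (Ideal.IsPrime.ne_top ‹_›)) ((key q₁ h₁).trans (key q₂ h₂).symm)
  refine ⟨hfe, ?_⟩
  have := Groth.Ega4b.isNoetherianRing_cpl (A ⧸ p)
  obtain ⟨q, hq⟩ := Ideal.nonempty_minimalPrimes (I := (⊥ : Ideal (EGA4.Cpl (A ⧸ p)))) bot_ne_top
  rw [← Groth.Calg1.ringKrullDim_adicCompletion (A ⧸ p), show ringKrullDim (EGA4.Cpl (A ⧸ p)) = _ from (hfe q hq).symm]
  exact key q hq

/-- Formally equidimensional iff equidimensional with formally equidimensional components. -/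
theorem isFormallyEquidim_iff (A : Type u) [CommRing A] [IsNoetherianRing A] [IsLocalRing A] :
    EGA4.IsFormallyEquidim A ↔
      (EGA4.IsEquidim A ∧ ∀ (p : Ideal A) [p.IsPrime], p ∈ minimalPrimes A → EGA4.IsFormallyEquidim (A ⧸ p)) := by
  constructor
  · refine fun h => ⟨fun p hp => ?_, fun p _ _ => (quotient_prime_of_isFormallyEquidim A h p).1⟩
    have := hp.1.1
    have h1 := (quotient_prime_of_isFormallyEquidim A h p).2
    rwa [Ideal.height_eq_zero_iff.mpr hp, WithBot.coe_zero, zero_add] at h1
  · rintro ⟨heq, hcomp⟩ q hq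
    have := Groth.Ega4b.isNoetherianRing_cpl A
    have : Module.Flat A (EGA4.Cpl A) := AdicCompletion.flat_of_isNoetherian _
    have := hq.1.1
    set p := q.under A
    have hp : p ∈ minimalPrimes A := by
      refine ⟨⟨inferInstance, bot_le⟩, fun p' hp' hle => ?_⟩
      have := hp'.1
      obtain ⟨P, hPq, hPp, hover⟩ := Ideal.exists_ideal_le_liesOver_of_le (R := A) (S := EGA4.Cpl A) (p := p') (q := p) q hle
      exact (Ideal.comap_mono (hq.2 ⟨hPp, bot_le⟩ hPq)).trans hover.over.ge
    set σ := Groth.Ega4b.cplQuot A p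
    have hσ := Groth.Ega4b.cplQuot_surjective A p
    have hker : RingHom.ker σ ≤ q := (Groth.Ega4b.ker_cplQuot A p).trans_le (Ideal.map_le_iff_le_comap.mpr le_rfl)
    have := Ideal.map_isPrime_of_surjective hσ hker
    have hback : (q.map σ).comap σ = q := by
      rw [Ideal.comap_map_of_surjective _ hσ]; exact sup_eq_left.mpr hker
    have hqmin : q.map σ ∈ minimalPrimes (EGA4.Cpl (A ⧸ p)) := by
      refine ⟨⟨inferInstance, bot_le⟩, fun r hr hle => ?_⟩
      have := hr.1
      have h2 := hq.2 ⟨inferInstance, bot_le⟩ ((Ideal.comap_mono (f := σ) hle).trans hback.le)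
      exact (Ideal.map_mono h2).trans Ideal.map_comap_le
    rw [← hback, ringKrullDim_quotient_comap σ hσ, (hcomp p hp) _ hqmin,
      Groth.Calg1.ringKrullDim_adicCompletion, Groth.Calg1.ringKrullDim_adicCompletion]
    exact heq p hp

/-- If all quotients by primes are formally equidimensional the ring is catenary. -/
theorem isCatenary_of_forall_isFormallyEquidim (A : Type u) [CommRing A] [IsNoetherianRing A] [IsLocalRing A]
    (h : ∀ (p : Ideal A) [p.IsPrime], EGA4.IsFormallyEquidim (A ⧸ p)) : CAlg.IsCatenary A := by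
  have hstep : ∀ {x y : PrimeSpectrum A}, x ⋖ y → Order.coheight x = Order.coheight y + 1 := by
    intro x y hxy
    set π := Ideal.Quotient.mk x.asIdeal
    have hker : RingHom.ker π ≤ y.asIdeal := by rw [Ideal.mk_ker]; exact hxy.le
    have := Ideal.map_isPrime_of_surjective (f := π) Ideal.Quotient.mk_surjective hker
    have hback : (y.asIdeal.map π).comap π = y.asIdeal := by
      rw [Ideal.comap_map_of_surjective _ Ideal.Quotient.mk_surjective]; exact sup_eq_left.mpr hker
    have h1 := (quotient_prime_of_isFormallyEquidim (A ⧸ x.asIdeal) (h x.asIdeal) (y.asIdeal.map π)).2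
    rw [← ringKrullDim_quotient_comap π Ideal.Quotient.mk_surjective, hback,
      ringKrullDim_quotient_eq_coheight A x, ringKrullDim_quotient_eq_coheight A y,
      ← WithBot.coe_add, WithBot.coe_inj] at h1
    rw [← h1, add_comm]
    congr 1
    let q' : PrimeSpectrum (A ⧸ x.asIdeal) := ⟨y.asIdeal.map π, inferInstance⟩
    rw [show (y.asIdeal.map π).height = Order.height q' from PrimeSpectrum.height_eq_orderHeight q']
    refine le_antisymm (Order.height_le fun l hl => ?_) ?_
    · by_contra hgt
      push Not at hgt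
      have h2 : 2 ≤ l.length := by
        have : (1 : ℕ∞) < l.length := hgt
        exact_mod_cast this
      have ha : l ⟨0, by omega⟩ < l ⟨1, by omega⟩ := l.strictMono (by simp [Fin.lt_def])
      have hb : l ⟨1, by omega⟩ < q' := by
        rw [← hl]; exact l.strictMono (by simp [Fin.lt_def]; omega)
      have hmono := RingHom.strictMono_comap_of_surjective (f := π) Ideal.Quotient.mk_surjective
      have hx0 : x ≤ PrimeSpectrum.comap π (l ⟨0, by omega⟩) := fun z hz =>
        Ideal.mem_comap.mpr (by rw [Ideal.Quotient.eq_zero_iff_mem.mpr hz]; exact zero_mem _)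
      refine hxy.2 (lt_of_le_of_lt hx0 (hmono ha)) (lt_of_lt_of_le (hmono hb) (le_of_eq (PrimeSpectrum.ext hback)))
    · rw [Order.one_le_iff_ne_zero, ← PrimeSpectrum.height_eq_orderHeight, Ne, Ideal.height_eq_zero_iff_eq_bot]
      intro e
      have e' : y.asIdeal.map π = ⊥ := e
      rw [e', ← RingHom.ker_eq_comap_bot, Ideal.mk_ker] at hback
      exact hxy.lt.ne (PrimeSpectrum.ext hback)
  refine ⟨fun p q hpq => ?_, fun s t hh hl hs ht => ?_⟩
  · obtain ⟨n, hn⟩ := ENat.ne_top_iff_exists.mp (coheight_ne_top A p)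
    refine ⟨n, fun s h0 _ => ?_⟩
    have := Order.length_le_coheight (p := s) (le_of_eq h0.symm : p ≤ s.head)
    rw [← hn] at this
    exact_mod_cast this
  · have key : ∀ (s : LTSeries (PrimeSpectrum A)) (hs : ∀ i : Fin s.length, s (Fin.castSucc i) ⋖ s (Fin.succ i))
        (i : Fin (s.length + 1)), Order.coheight s.head = Order.coheight (s i) + (i : ℕ) := by
      intro s hs i
      induction i using Fin.induction with
      | zero => simp only [Fin.val_zero, Nat.cast_zero, add_zero]; rfl
      | succ i ih =>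
        rw [ih, hstep (hs i), Fin.val_succ, Fin.val_castSucc, Nat.cast_add, Nat.cast_one, add_assoc, add_comm (1 : ℕ∞)]
    have h1 := key s hs (Fin.last _)
    have h2 := key t ht (Fin.last _)
    rw [hh, h2, show s (Fin.last _) = t (Fin.last _) from hl] at h1
    have h3 := ENat.add_right_injective_of_ne_top (coheight_ne_top A _) h1
    simp only [Fin.val_last, Nat.cast_inj] at h3
    exact h3.symm

end Groth.Ega4Algebra1
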