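import Groth.Prelude.Def_EGA4b
import Groth.Agent.Ega4Algebra2.CplQuot
import Groth.Agent.AdicLinTop.Adic
import Mathlib

/-!
Finite extensions of a local ring with geometrically reduced formal fibres are analytically unramified.
-/

set_option autoImplicit false

universe u

namespace Groth.Ega4Algebra1

open IsLocalRing TensorProduct

variable (A : Type u) [CommRing A] [IsNoetherianRing A] [IsLocalRing A]

/-- `Â ⊗_A B` is reduced for a domain `B` finite over `A`. -/
theorem isReduced_cpl_tensor (hA : EGA4.HasGeomReducedFormalFibres A) (B : Type u) [CommRing B] [IsDomain B]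
    [Algebra A B] [Algebra.IsIntegral A B] : IsReduced (EGA4.Cpl A ⊗[A] B) := by
  set L := FractionRing B
  set p := RingHom.ker (algebraMap A B)
  have hp : p.IsPrime := RingHom.ker_isPrime _
  have hinjB : Function.Injective (algebraMap B L) := IsFractionRing.injective B L
  let φ : p.ResidueField →+* L := Ideal.ResidueField.lift p (algebraMap A L)
    (fun x hx => by rw [RingHom.mem_ker, IsScalarTower.algebraMap_apply A B L, RingHom.mem_ker.mp hx, map_zero])
    (fun x hx => isUnit_iff_ne_zero.mpr fun h => hx (RingHom.mem_ker.mpr (hinjB (by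
      rw [← IsScalarTower.algebraMap_apply A B L, h, map_zero]))))
  let : Algebra p.ResidueField L := φ.toAlgebra
  have : IsScalarTower A p.ResidueField L := IsScalarTower.of_algebraMap_eq fun x => by
    show algebraMap A L x = φ (algebraMap A p.ResidueField x)
    show algebraMap A L x = Ideal.ResidueField.lift p (algebraMap A L) _ _ (algebraMap A p.ResidueField x)
    exact (Ideal.ResidueField.lift_algebraMap p (algebraMap A L) _ _ x).symm
  have : Algebra.IsAlgebraic p.ResidueField L := by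
    refine ⟨fun z => ?_⟩
    obtain ⟨a, b, -, rfl⟩ := IsFractionRing.div_surjective B z
    have h : ∀ c : B, IsAlgebraic p.ResidueField (algebraMap B L c) := fun c =>
      (((Algebra.IsIntegral.isIntegral (R := A) c).map (IsScalarTower.toAlgHom A B L)).tower_top).isAlgebraic
    rw [div_eq_mul_inv]
    exact (h a).mul (h b).inv
  have := hA p
  have : IsReduced (L ⊗[p.ResidueField] (p.Fiber (EGA4.Cpl A))) := inferInstance
  have : IsReduced (L ⊗[A] EGA4.Cpl A) :=
    isReduced_of_injective (Algebra.TensorProduct.cancelBaseChange A p.ResidueField p.ResidueField L (EGA4.Cpl A)).symm.toRingEquiv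
      (RingEquiv.injective _)
  have : IsReduced (EGA4.Cpl A ⊗[A] L) :=
    isReduced_of_injective (Algebra.TensorProduct.comm A (EGA4.Cpl A) L).toRingEquiv (RingEquiv.injective _)
  have : Module.Flat A (EGA4.Cpl A) := AdicCompletion.flat_of_isNoetherian _
  exact isReduced_of_injective
    (Algebra.TensorProduct.map (AlgHom.id A (EGA4.Cpl A)) (IsScalarTower.toAlgHom A B L))
    (Module.Flat.lTensor_preserves_injective_linearMap _ hinjB)

/-- If `Â ⊗_A B` is reduced, so are the completions of `B` at its maximal ideals. -/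
theorem isReduced_completion_of_tensor (B : Type u) [CommRing B] [Algebra A B] [Module.Finite A B]
    [IsReduced (EGA4.Cpl A ⊗[A] B)] (n : Ideal B) [n.IsMaximal] :
    IsReduced (AdicCompletion (maximalIdeal (Localization.AtPrime n)) (Localization.AtPrime n)) := by
  classical
  set m := maximalIdeal A with hmdef
  set C := EGA4.Cpl A
  set T := C ⊗[A] B
  have : IsNoetherianRing B := IsNoetherianRing.of_finite A B
  let J : Ideal B := m.map (algebraMap A B)
  let mh : Ideal C := m.map (algebraMap A C)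
  have : IsNoetherianRing C := Groth.Ega4b.isNoetherianRing_cpl A
  have : IsAdicComplete mh C := AdicCompletion.isAdicComplete_self _ m.fg_of_isNoetherianRing
  have : IsAdicComplete mh T := Groth.AdicLinTop.Adic.isAdicComplete_of_finite
  -- the maximal ideals of `B`
  have hcomap : ∀ (q : Ideal B) [q.IsMaximal], q.comap (algebraMap A B) = m := fun q _ =>
    IsLocalRing.eq_maximalIdeal (Ideal.isMaximal_comap_of_isIntegral_of_isMaximal q)
  have hJle : ∀ (q : Ideal B) [q.IsMaximal], J ≤ q := fun q _ => by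
    rw [Ideal.map_le_iff_le_comap, hcomap q]
  have hover : ∀ p : Ideal B, p.IsPrime → J ≤ p → p.IsMaximal := fun p _ hle => by
    refine Ideal.isMaximal_of_isIntegral_of_isMaximal_comap (R := A) p ?_
    have h1 : m ≤ p.comap (algebraMap A B) := Ideal.map_le_iff_le_comap.1 hle
    rw [← (maximalIdeal.isMaximal A).eq_of_le (Ideal.IsPrime.ne_top inferInstance) h1]
    exact maximalIdeal.isMaximal A
  have hfinmax : {q : Ideal B | q.IsMaximal}.Finite := by
    refine (Ideal.finite_minimalPrimes_of_isNoetherianRing B J).subset fun q hq => ?_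
    have : q.IsMaximal := hq
    exact ⟨⟨inferInstance, hJle q⟩, fun p hp hpq =>
      ((hover p hp.1 hp.2).eq_of_le (Ideal.IsMaximal.ne_top ‹_›) hpq).ge⟩
  let s := hfinmax.toFinset
  obtain ⟨e, he⟩ := Ideal.exists_pow_le_of_le_radical_of_fg (I := ∏ q ∈ s, q) (J := J)
    (by
      rw [Ideal.radical_eq_sInf]
      refine le_sInf fun p ⟨hle, hp⟩ => ?_
      exact Ideal.prod_le_inf.trans (Finset.inf_le (f := id) (hfinmax.mem_toFinset.2 (hover p hp hle))))
    (IsNoetherian.noetherian _)
  have hcop : ∀ a ∈ s, ∀ b ∈ s, a ≠ b → ∀ i j : ℕ, IsCoprime (a ^ i) (b ^ j) := by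
    intro a ha b hb hne i j
    have : a.IsMaximal := hfinmax.mem_toFinset.1 ha
    have : b.IsMaximal := hfinmax.mem_toFinset.1 hb
    exact (Ideal.isCoprime_of_isMaximal hne).pow
  have hglob : ∀ (j : ℕ) (x : B), (∀ q ∈ s, x ∈ q ^ ((e + 1) * j)) → x ∈ J ^ j := by
    intro j x hx
    have hprod : x ∈ ∏ q ∈ s, q ^ ((e + 1) * j) := by
      rw [Ideal.prod_eq_iInf_of_pairwise_isCoprime]
      · simp only [Ideal.mem_iInf]; exact hx
      · exact fun a ha b hb hne => hcop a ha b hb hne _ _
    rw [Finset.prod_pow] at hprod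
    exact Ideal.pow_right_mono he j (by
      rw [← pow_mul]; exact Ideal.pow_le_pow_right (Nat.mul_le_mul_right j (Nat.le_succ e)) hprod)
  refine ⟨fun z hz => ?_⟩
  obtain ⟨k, hk⟩ := hz
  set Bn := Localization.AtPrime n
  obtain ⟨cs, rfl⟩ := AdicCompletion.mk_surjective (maximalIdeal Bn) Bn z
  have hE : ∀ {i j : ℕ}, i ≤ j → (e + 1) * i ≤ (e + 1) * j := fun h => Nat.mul_le_mul_left _ h
  have hcs : ∀ {a b : ℕ}, a ≤ b → cs.val a - cs.val b ∈ maximalIdeal Bn ^ a := fun {a b} h => by
    have := SModEq.sub_mem.1 (cs.property h)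
    rwa [smul_eq_mul, Ideal.mul_top] at this
  have hrep : ∀ E : ℕ, ∃ r : B, algebraMap B Bn r - cs.val E ∈ maximalIdeal Bn ^ E := fun E => by
    obtain ⟨r, hr⟩ := (IsLocalization.AtPrime.equivQuotMaximalIdealPow n Bn E).surjective
      (Ideal.Quotient.mk _ (cs.val E))
    obtain ⟨r, rfl⟩ := Ideal.Quotient.mk_surjective r
    rw [IsLocalization.AtPrime.equivQuotMaximalIdealPow_apply_mk, Ideal.Quotient.eq] at hr
    exact ⟨r, hr⟩
  choose r hr using hrep
  have hunder : ∀ (E : ℕ) (x : B), algebraMap B Bn x ∈ maximalIdeal Bn ^ E → x ∈ n ^ E := fun E x hx => by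
    have h0 : IsLocalization.AtPrime.equivQuotMaximalIdealPow n Bn E (Ideal.Quotient.mk _ x) = 0 := by
      rw [IsLocalization.AtPrime.equivQuotMaximalIdealPow_apply_mk, Ideal.Quotient.eq_zero_iff_mem]; exact hx
    rwa [map_eq_zero_iff _ (AlgEquiv.injective _), Ideal.Quotient.eq_zero_iff_mem] at h0
  have hrc : ∀ {i j : ℕ}, i ≤ j → r i - r j ∈ n ^ i := fun {i j} h => hunder _ _ (by
    rw [map_sub, show algebraMap B Bn (r i) - algebraMap B Bn (r j) =
      (algebraMap B Bn (r i) - cs.val i) + (cs.val i - cs.val j) - (algebraMap B Bn (r j) - cs.val j) by ring]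
    exact sub_mem (add_mem (hr i) (hcs h)) (Ideal.pow_le_pow_right h (hr j)))
  have hrk : ∀ E : ℕ, r E ^ k ∈ n ^ E := fun E => hunder _ _ (by
    have h0 := congrArg (AdicCompletion.evalₐ (maximalIdeal Bn) E) hk
    rw [map_pow, map_zero, AdicCompletion.evalₐ_mk, ← (Ideal.Quotient.eq.mpr (hr E)),
      ← map_pow, Ideal.Quotient.eq_zero_iff_mem, ← map_pow] at h0
    exact h0)
  -- lift the nilpotent to a global sequence
  have hb : ∀ j : ℕ, ∃ b : B, b - r ((e + 1) * j) ∈ n ^ ((e + 1) * j) ∧
      ∀ q ∈ s, q ≠ n → b ∈ q ^ ((e + 1) * j) := by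
    intro j
    obtain ⟨b, hb⟩ := Ideal.exists_forall_sub_mem_ideal (I := fun q : s => q.1 ^ ((e + 1) * j))
      (fun a b hne => hcop a a.2 b b.2 (fun h => hne (Subtype.ext h)) _ _)
      (fun q => if q.1 = n then r ((e + 1) * j) else 0)
    refine ⟨b, by simpa using hb ⟨n, hfinmax.mem_toFinset.2 ‹_›⟩, fun q hq hne => ?_⟩
    simpa [hne] using hb ⟨q, hq⟩
  choose b hb hb0 using hb
  have hbc : ∀ {i j : ℕ}, i ≤ j → b i - b j ∈ J ^ i := fun {i j} h => hglob i _ fun q hq => by
    by_cases hqn : q = n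
    · subst hqn
      rw [show b i - b j = (b i - r ((e + 1) * i)) + (r ((e + 1) * i) - r ((e + 1) * j)) -
        (b j - r ((e + 1) * j)) by ring]
      exact sub_mem (add_mem (hb i) (hrc (hE h))) (Ideal.pow_le_pow_right (hE h) (hb j))
    · exact sub_mem (hb0 i q hq hqn) (Ideal.pow_le_pow_right (hE h) (hb0 j q hq hqn))
  have hbk : ∀ j : ℕ, k ≠ 0 → b j ^ k ∈ J ^ j := fun j hk0 => hglob j _ fun q hq => by
    by_cases hqn : q = n
    · subst hqn
      rw [show b j ^ k = (b j ^ k - r ((e + 1) * j) ^ k) + r ((e + 1) * j) ^ k by ring]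
      exact add_mem (Ideal.mem_of_dvd _ (sub_dvd_pow_sub_pow _ _ k) (hb j)) (hrk _)
    · exact Ideal.pow_mem_of_mem _ (hb0 j q hq hqn) k (Nat.pos_of_ne_zero hk0)
  rcases Nat.eq_zero_or_pos k with rfl | hk0
  · rw [pow_zero] at hk
    exact eq_zero_of_zero_eq_one hk.symm _
  -- the limit in `C ⊗ B`
  let K : ℕ → Ideal T := fun j => (mh ^ j).map (algebraMap C T)
  have hK : ∀ (j : ℕ) (x : T), x ∈ (mh ^ j • ⊤ : Submodule C T) ↔ x ∈ K j := fun j x => by
    rw [Ideal.smul_top_eq_map]; exact Iff.rfl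
  let ι : B →ₐ[A] T := Algebra.TensorProduct.includeRight
  have hι : ∀ (j : ℕ) (x : B), x ∈ J ^ j → ι x ∈ K j := by
    intro j x hx
    have h1 : ι x ∈ (J ^ j).map (ι : B →+* T) := Ideal.mem_map_of_mem _ hx
    rw [← Ideal.map_pow, Ideal.map_map, show (ι : B →+* T).comp (algebraMap A B) = (algebraMap C T).comp (algebraMap A C) from
      RingHom.ext fun a => (ι.commutes a).trans (IsScalarTower.algebraMap_apply A C T a), ← Ideal.map_map, Ideal.map_pow] at h1
    exact h1
  obtain ⟨w, hw⟩ := IsPrecomplete.prec (inferInstance : IsPrecomplete mh T) (f := fun j => ι (b j)) fun {i j} h => by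
    rw [SModEq.sub_mem, hK, ← map_sub]
    exact hι i _ (hbc h)
  have hw' : ∀ j, ι (b j) - w ∈ K j := fun j => (hK j _).1 (SModEq.sub_mem.1 (hw j))
  have hwk : w ^ k = 0 := IsHausdorff.haus (inferInstance : IsHausdorff mh T) _ fun j => by
    rw [SModEq.zero, hK, show w ^ k = ι (b j ^ k) - (ι (b j) ^ k - w ^ k) by rw [map_pow]; ring]
    exact sub_mem (hι j _ (hbk j (Nat.pos_iff_ne_zero.1 hk0))) (Ideal.mem_of_dvd _ (sub_dvd_pow_sub_pow _ _ k) (hw' j))
  have hw0 : w = 0 := IsReduced.eq_zero w ⟨k, hwk⟩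
  refine AdicCompletion.ext_evalₐ fun j => ?_
  -- back in `B`
  let f : C →ₐ[A] B ⧸ J ^ j := (Ideal.quotientMapₐ (J ^ j) (Algebra.ofId A B) (by
    rw [← Ideal.map_le_iff_le_comap, Ideal.map_pow]; exact le_rfl)).comp (AdicCompletion.evalₐ m j)
  let π : T →ₐ[A] B ⧸ J ^ j := Algebra.TensorProduct.lift f (Ideal.Quotient.mkₐ A (J ^ j)) fun _ _ => Commute.all _ _
  have hπK : ∀ x ∈ K j, π x = 0 := fun x hx => by
    refine RingHom.mem_ker.mp ((Ideal.map_le_iff_le_comap.mpr ?_ : K j ≤ RingHom.ker π.toRingHom) hx)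
    rw [show mh ^ j = (m ^ j).map (algebraMap A C) from (Ideal.map_pow _ _ _).symm, Ideal.map_le_iff_le_comap]
    intro a ha
    show π ((algebraMap A C a) ⊗ₜ[A] 1) = 0
    rw [Algebra.TensorProduct.lift_tmul, map_one, mul_one, AlgHom.commutes,
      IsScalarTower.algebraMap_apply A B (B ⧸ J ^ j), Ideal.Quotient.algebraMap_eq, Ideal.Quotient.eq_zero_iff_mem,
      ← Ideal.map_pow]
    exact Ideal.mem_map_of_mem _ ha
  have hbJ : b j ∈ J ^ j := by
    have h1 := hπK _ (hw' j)
    rw [hw0, sub_zero] at h1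
    rwa [show π (ι (b j)) = Ideal.Quotient.mk (J ^ j) (b j) from
      (Algebra.TensorProduct.lift_tmul _ _ _ 1 (b j)).trans (by rw [map_one, one_mul]; rfl), Ideal.Quotient.eq_zero_iff_mem] at h1
  have hle : j ≤ (e + 1) * j := Nat.le_mul_of_pos_left _ e.succ_pos
  have hrn : r ((e + 1) * j) ∈ n ^ j := by
    rw [show r ((e + 1) * j) = b j - (b j - r ((e + 1) * j)) by ring]
    exact sub_mem (Ideal.pow_right_mono (hJle n) j hbJ) (Ideal.pow_le_pow_right hle (hb j))
  rw [AdicCompletion.evalₐ_mk, map_zero, Ideal.Quotient.eq_zero_iff_mem,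
    show cs.val j = algebraMap B Bn (r ((e + 1) * j)) - (algebraMap B Bn (r ((e + 1) * j)) - cs.val ((e + 1) * j))
      + (cs.val j - cs.val ((e + 1) * j)) by ring]
  refine add_mem (sub_mem ?_ (Ideal.pow_le_pow_right hle (hr _))) (hcs hle)
  rw [← Localization.AtPrime.map_eq_maximalIdeal, ← Ideal.map_pow]
  exact Ideal.mem_map_of_mem _ hrn

/-- Localizations at maximal ideals of finite domains over `A` are analytically unramified. -/
theorem isReduced_completion_finite_domain (hA : EGA4.HasGeomReducedFormalFibres A) (B : Type u)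
    [CommRing B] [IsDomain B] [Algebra A B] [Module.Finite A B] (n : Ideal B) [n.IsMaximal] :
    IsReduced (AdicCompletion (maximalIdeal (Localization.AtPrime n)) (Localization.AtPrime n)) :=
  have := isReduced_cpl_tensor A hA B
  isReduced_completion_of_tensor A B n

end Groth.Ega4Algebra1
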