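import Groth.Agent.Ega4Algebra1.SmoothRegular
import Groth.Agent.Ega4Algebra1.SepAfterInsep
import Groth.Agent.S4700

/-!
J-2 rings: it suffices to test finite algebras that are domains.
-/

universe u

namespace Groth.Ega4Algebra1

open EGA4 IntermediateField

/-- Ascent along a generically formally smooth finite type extension of domains. -/
theorem exists_open_regLocus_of_formallySmooth (A A' : Type u) [CommRing A] [CommRing A'] [IsDomain A]
    [IsDomain A'] [IsNoetherianRing A] [Algebra A A'] [FaithfulSMul A A'] [Algebra.FiniteType A A']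
    (E : Type u) [Field E] [Algebra A' E] [IsFractionRing A' E] [Algebra A E] [IsScalarTower A A' E]
    [Algebra.FormallySmooth A E]
    (h : ∃ U : Set (PrimeSpectrum A), IsOpen U ∧ U.Nonempty ∧ U ⊆ regLocus A) :
    ∃ U' : Set (PrimeSpectrum A'), IsOpen U' ∧ U'.Nonempty ∧ U' ⊆ regLocus A' := by
  obtain ⟨s, hs, hreg⟩ := exists_open_regLocus_iff.mp h
  have : Algebra.FinitePresentation A A' := Algebra.FinitePresentation.of_finiteType.mp ‹_›
  have hsm : Algebra.IsSmoothAt A (⊥ : Ideal A') := by
    have : IsLocalization (nonZeroDivisors A') (Localization.AtPrime (⊥ : Ideal A')) := by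
      have e : (⊥ : Ideal A').primeCompl = nonZeroDivisors A' := by
        ext x; exact ⟨fun hx => mem_nonZeroDivisors_of_ne_zero hx, fun hx => nonZeroDivisors.ne_zero hx⟩
      rw [← e]; infer_instance
    exact Algebra.FormallySmooth.of_equiv ((IsLocalization.algEquiv (nonZeroDivisors A') E
      (Localization.AtPrime (⊥ : Ideal A'))).restrictScalars A)
  obtain ⟨g, hg, hgs⟩ := Algebra.IsSmoothAt.exists_notMem_isStandardSmooth (R := A) (⊥ : Ideal A')
  refine exists_open_regLocus_iff.mpr ⟨g * algebraMap A A' s, mul_ne_zero hg ?_, fun q hq => ?_⟩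
  · rwa [Ne, map_eq_zero_iff _ (FaithfulSMul.algebraMap_injective A A')]
  · obtain ⟨Q, rfl⟩ : q ∈ Set.range (PrimeSpectrum.comap (algebraMap A' (Localization.Away g))) := by
      rw [PrimeSpectrum.localization_away_comap_range (Localization.Away g) g]
      exact fun hgq => hq (q.asIdeal.mul_mem_right _ hgq)
    refine (mem_regLocus_localization_iff _ Q).mp (mem_regLocus_of_isStandardSmooth (R := A) _ Q ?_)
    refine hreg _ fun hsq => hq (Ideal.mul_mem_left _ g ?_)
    rw [PrimeSpectrum.comap_asIdeal, IsScalarTower.algebraMap_eq A A' (Localization.Away g), ← Ideal.comap_comap] at hsq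
    exact hsq

/-- A subalgebra generating a field as a field has it as fraction field. -/
theorem isFractionRing_of_subfield_closure {R E : Type u} [CommRing R] [IsDomain R] [Field E] [Algebra R E]
    [FaithfulSMul R E] (S : Set E) (hS : S ⊆ Set.range (algebraMap R E)) (htop : Subfield.closure S = ⊤) :
    IsFractionRing R E := by
  let f : FractionRing R →+* E := IsFractionRing.lift (FaithfulSMul.algebraMap_injective R E)
  have hf : f.fieldRange = ⊤ := top_le_iff.mp <| htop ▸ Subfield.closure_le.mpr fun x hx => by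
    obtain ⟨r, rfl⟩ := hS hx
    exact ⟨algebraMap R _ r, IsFractionRing.lift_algebraMap _ r⟩
  refine IsFractionRing.of_field _ _ fun z => ?_
  obtain ⟨w, hw⟩ : z ∈ f.fieldRange := hf ▸ trivial
  obtain ⟨x, y, -, rfl⟩ := IsFractionRing.div_surjective (A := R) w
  exact ⟨x, y, by rw [← hw, map_div₀, IsFractionRing.lift_algebraMap, IsFractionRing.lift_algebraMap]⟩

/-- A finite extension field of the fraction field of a domain is the fraction field of a finite subalgebra. -/
theorem exists_finite_isFractionRing (A₀ k k₁ : Type u) [CommRing A₀] [IsDomain A₀] [Field k] [Algebra A₀ k]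
    [IsFractionRing A₀ k] [Field k₁] [Algebra k k₁] [Algebra A₀ k₁] [IsScalarTower A₀ k k₁]
    [FiniteDimensional k k₁] :
    ∃ A₁ : Subalgebra A₀ k₁, Module.Finite A₀ A₁ ∧ IsFractionRing A₁ k₁ := by
  classical
  let b := Module.finBasis k k₁
  have hb : ∀ i, ∃ y ≠ (0 : A₀), IsIntegral A₀ (y • b i) := fun i => by
    have : IsAlgebraic A₀ (b i) := (IsFractionRing.isAlgebraic_iff A₀ k k₁).mpr (Algebra.IsAlgebraic.isAlgebraic _)
    exact this.exists_integral_multiple
  choose y hy hint using hb
  let t := Finset.univ.image fun i => y i • b i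
  refine ⟨Algebra.adjoin A₀ (t : Set k₁), Module.Finite.iff_fg.mpr (fg_adjoin_of_finite t.finite_toSet ?_), ?_⟩
  · intro x hx
    obtain ⟨i, -, rfl⟩ := Finset.mem_image.mp hx
    exact hint i
  refine isFractionRing_of_subfield_closure ((Algebra.adjoin A₀ (t : Set k₁) : Subalgebra A₀ k₁) : Set k₁)
    (fun x hx => ⟨⟨x, hx⟩, rfl⟩) (top_le_iff.mp fun z _ => ?_)
  set C := Subfield.closure ((Algebra.adjoin A₀ (t : Set k₁) : Subalgebra A₀ k₁) : Set k₁)
  have hA : ∀ a : A₀, algebraMap A₀ k₁ a ∈ C := fun a => Subfield.subset_closure (Subalgebra.algebraMap_mem _ a)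
  have hk : ∀ c : k, algebraMap k k₁ c ∈ C := fun c => by
    obtain ⟨a, d, -, rfl⟩ := IsFractionRing.div_surjective (A := A₀) c
    rw [map_div₀, ← IsScalarTower.algebraMap_apply, ← IsScalarTower.algebraMap_apply]
    exact div_mem (hA _) (hA _)
  have hbC : ∀ i, b i ∈ C := fun i => by
    have h1 : y i • b i ∈ C := Subfield.subset_closure (Algebra.subset_adjoin (Finset.mem_coe.mpr
      (Finset.mem_image_of_mem _ (Finset.mem_univ i))))
    have h2 := div_mem h1 (hA (y i))
    rwa [Algebra.smul_def, mul_div_cancel_left₀] at h2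
    rw [IsScalarTower.algebraMap_apply A₀ k k₁]
    exact (map_ne_zero _).mpr ((map_ne_zero_iff _ (IsFractionRing.injective A₀ k)).mpr (hy i))
  rw [← b.sum_repr z]
  exact sum_mem fun i _ => by rw [Algebra.smul_def]; exact mul_mem (hk _) (hbC i)

/-- A domain `D` inside a field that is generically formally smooth over a domain with a nonempty
regular open subset, and generated by it and `D`. -/
theorem exists_open_regLocus_of_composite (A₀ D A₁ E : Type u) [CommRing A₀] [IsNoetherianRing A₀]
    [CommRing D] [IsDomain D] [Algebra A₀ D] [Algebra.FiniteType A₀ D] [CommRing A₁] [IsDomain A₁]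
    [Algebra A₀ A₁] [Module.Finite A₀ A₁] [Field E] [Algebra A₁ E] [FaithfulSMul A₁ E] [Algebra A₀ E]
    [IsScalarTower A₀ A₁ E] [Algebra.FormallySmooth A₁ E] (j : D →ₐ[A₀] E) (hj : Function.Injective j)
    (htop : Subfield.closure (Set.range (algebraMap A₁ E) ∪ Set.range j) = ⊤)
    (hU : ∃ U : Set (PrimeSpectrum A₁), IsOpen U ∧ U.Nonempty ∧ U ⊆ regLocus A₁) :
    ∃ U : Set (PrimeSpectrum D), IsOpen U ∧ U.Nonempty ∧ U ⊆ regLocus D := by
  classical
  obtain ⟨gD, hgD⟩ := ‹Algebra.FiniteType A₀ D›
  let D₁ : Subalgebra A₁ E := Algebra.adjoin A₁ ((gD.image j : Finset E) : Set E)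
  have hjD : ∀ x, j x ∈ D₁ := fun x => by
    have hx : x ∈ Algebra.adjoin A₀ (gD : Set D) := hgD ▸ Algebra.mem_top
    induction hx using Algebra.adjoin_induction with
    | mem y hy => exact Algebra.subset_adjoin (Finset.mem_coe.mpr (Finset.mem_image_of_mem j hy))
    | algebraMap r => rw [AlgHom.commutes, IsScalarTower.algebraMap_apply A₀ A₁ E]; exact D₁.algebraMap_mem _
    | add y z _ _ hy hz => rw [map_add]; exact add_mem hy hz
    | mul y z _ _ hy hz => rw [map_mul]; exact mul_mem hy hz
  have hft : Algebra.FiniteType A₁ D₁ :=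
    (Subalgebra.fg_iff_finiteType _).mp (Subalgebra.fg_def.mpr ⟨_, Finset.finite_toSet _, rfl⟩)
  have : IsNoetherianRing A₁ := IsNoetherianRing.of_finite A₀ A₁
  have : FaithfulSMul A₁ D₁ := (faithfulSMul_iff_algebraMap_injective _ _).mpr fun a b e =>
    FaithfulSMul.algebraMap_injective A₁ E (congrArg Subtype.val e)
  have hfrac : IsFractionRing D₁ E := by
    refine isFractionRing_of_subfield_closure (D₁ : Set E) (fun x hx => ⟨⟨x, hx⟩, rfl⟩) (top_le_iff.mp ?_)
    rw [← htop]
    refine Subfield.closure_mono (Set.union_subset ?_ ?_)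
    · rintro _ ⟨a, rfl⟩; exact D₁.algebraMap_mem a
    · rintro _ ⟨x, rfl⟩; exact hjD x
  have hU₁ := exists_open_regLocus_of_formallySmooth A₁ D₁ E hU
  let ψ : D →ₐ[A₀] D₁ := j.codRestrict (D₁.restrictScalars A₀) hjD
  have hψ : Function.Injective ψ := fun a b e => hj (congrArg Subtype.val e)
  let _ := ψ.toRingHom.toAlgebra
  have : IsScalarTower A₀ D D₁ := IsScalarTower.of_algebraMap_eq fun a => (ψ.commutes a).symm
  have : IsScalarTower A₀ A₁ D₁ := IsScalarTower.of_algebraMap_eq fun a => Subtype.ext (IsScalarTower.algebraMap_apply A₀ A₁ E a)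
  have : Algebra.FiniteType A₀ D₁ := Algebra.FiniteType.trans (inferInstance : Algebra.FiniteType A₀ A₁) hft
  have : Algebra.FiniteType D D₁ := Algebra.FiniteType.of_restrictScalars_finiteType A₀ D D₁
  have : IsNoetherianRing D := Algebra.FiniteType.isNoetherianRing A₀ D
  exact exists_open_regLocus_of_injective D D₁ hψ hU₁

set_option maxHeartbeats 1000000 in
set_option synthInstance.maxHeartbeats 400000 in
/-- Domains of finite type over a domain `A₀`, all of whose finite domain extensions are generically regular. -/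
theorem exists_open_regLocus_of_finiteType_domain (A₀ D : Type u) [CommRing A₀] [IsDomain A₀]
    [IsNoetherianRing A₀] [CommRing D] [IsDomain D] [Algebra A₀ D] [FaithfulSMul A₀ D] [Algebra.FiniteType A₀ D]
    (h : ∀ (A₁ : Type u) [CommRing A₁] [IsDomain A₁] [Algebra A₀ A₁], Module.Finite A₀ A₁ →
      ∃ U : Set (PrimeSpectrum A₁), IsOpen U ∧ U.Nonempty ∧ U ⊆ regLocus A₁) :
    ∃ U : Set (PrimeSpectrum D), IsOpen U ∧ U.Nonempty ∧ U ⊆ regLocus D := by
  classical
  let Ω := AlgebraicClosure (FractionRing D)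
  let ι : D →ₐ[A₀] Ω := IsScalarTower.toAlgHom A₀ D Ω
  have hι : Function.Injective ι := by
    show Function.Injective (algebraMap D Ω)
    rw [IsScalarTower.algebraMap_eq D (FractionRing D) Ω]
    exact (algebraMap (FractionRing D) Ω).injective.comp (IsFractionRing.injective D (FractionRing D))
  have : FaithfulSMul A₀ Ω := (faithfulSMul_iff_algebraMap_injective A₀ Ω).mpr (by
    rw [← ι.comp_algebraMap]
    exact hι.comp (FaithfulSMul.algebraMap_injective A₀ D))
  let k := FractionRing A₀
  let _ : Algebra k Ω := FractionRing.liftAlgebra A₀ Ω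
  have : IsScalarTower A₀ k Ω := FractionRing.isScalarTower_liftAlgebra A₀ Ω
  obtain ⟨gD, hgD⟩ := ‹Algebra.FiniteType A₀ D›
  let G : Finset Ω := gD.image ι
  obtain ⟨k₁, hk₁, hsm⟩ := exists_finite_purelyInseparable_formallySmooth (k := k) (Ω := Ω) G
  set E := adjoin k₁ (G : Set Ω)
  obtain ⟨A₁, hA₁, hA₁f⟩ := exists_finite_isFractionRing A₀ k k₁
  let _ : Algebra A₀ E := ((algebraMap k₁ E).comp (algebraMap A₀ k₁)).toAlgebra
  have hA₁E : IsScalarTower A₁ k₁ E := IsScalarTower.of_algebraMap_eq fun _ => rfl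
  have hA₀Ω : IsScalarTower A₀ k₁ Ω := IsScalarTower.of_algebraMap_eq fun r => by
    rw [IsScalarTower.algebraMap_apply A₀ k k₁, ← IsScalarTower.algebraMap_apply k k₁ Ω, ← IsScalarTower.algebraMap_apply A₀ k Ω]
  have : IsScalarTower A₀ A₁ E := IsScalarTower.of_algebraMap_eq fun _ => rfl
  have : FaithfulSMul A₁ E := (faithfulSMul_iff_algebraMap_injective _ _).mpr
    ((algebraMap k₁ E).injective.comp (IsFractionRing.injective A₁ k₁))
  have : Algebra.FormallyEtale A₁ k₁ := Algebra.FormallyEtale.of_isLocalization (Rₘ := k₁) (nonZeroDivisors A₁)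
  have : Algebra.FormallySmooth A₁ E := Algebra.FormallySmooth.comp A₁ k₁ E
  have hmem : ∀ x, ι x ∈ E := fun x => by
    have hx : x ∈ Algebra.adjoin A₀ (gD : Set D) := hgD ▸ Algebra.mem_top
    induction hx using Algebra.adjoin_induction with
    | mem y hy => exact subset_adjoin _ _ (Finset.mem_coe.mpr (Finset.mem_image_of_mem ι hy))
    | algebraMap r =>
      rw [AlgHom.commutes, IsScalarTower.algebraMap_apply A₀ k₁ Ω]
      exact IntermediateField.algebraMap_mem E _
    | add y z _ _ hy hz => rw [map_add]; exact add_mem hy hz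
    | mul y z _ _ hy hz => rw [map_mul]; exact mul_mem hy hz
  let j : D →ₐ[A₀] E :=
    { toFun := fun x => ⟨ι x, hmem x⟩
      map_one' := Subtype.ext (map_one ι)
      map_mul' := fun a b => Subtype.ext (map_mul ι a b)
      map_zero' := Subtype.ext (map_zero ι)
      map_add' := fun a b => Subtype.ext (map_add ι a b)
      commutes' := fun r => Subtype.ext ((ι.commutes r).trans (IsScalarTower.algebraMap_apply A₀ k₁ Ω r)) }
  refine exists_open_regLocus_of_composite A₀ D A₁ E j (fun a b e => hι (congrArg Subtype.val e))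
    (top_le_iff.mp fun z _ => ?_) (h A₁ hA₁)
  set C := Subfield.closure (Set.range (algebraMap A₁ E) ∪ Set.range j)
  have hk : ∀ c : k₁, algebraMap k₁ E c ∈ C := fun c => by
    obtain ⟨a, d, -, rfl⟩ := IsFractionRing.div_surjective (A := A₁) c
    rw [map_div₀, ← IsScalarTower.algebraMap_apply, ← IsScalarTower.algebraMap_apply]
    exact div_mem (Subfield.subset_closure (Or.inl ⟨a, rfl⟩)) (Subfield.subset_closure (Or.inl ⟨d, rfl⟩))
  obtain ⟨z, hz⟩ := z
  clear * - hz hk
  induction hz using adjoin_induction with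
  | mem w hw =>
    obtain ⟨x, hx, rfl⟩ := Finset.mem_image.mp (Finset.mem_coe.mp hw)
    exact Subfield.subset_closure (Or.inr ⟨x, rfl⟩)
  | algebraMap c => exact hk c
  | add x w _ _ hx hw => exact add_mem hx hw
  | inv x _ hx => exact inv_mem hx
  | mul x w _ _ hx hw => exact mul_mem hx hw

/-- Grothendieck's criterion: J-2 is tested on finite algebras that are domains. -/
theorem isJ2_iff (A : Type u) [CommRing A] [IsNoetherianRing A] :
    IsJ2 A ↔ ∀ (A' : Type u) [CommRing A'] [IsDomain A'] [Algebra A A'], Module.Finite A A' →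
        ∃ U : Set (PrimeSpectrum A'), IsOpen U ∧ U.Nonempty ∧ U ⊆ regLocus A' := by
  constructor
  · intro h A' _ _ _ _
    have := IsNoetherianRing.of_finite A A'
    refine ⟨_, h A' inferInstance, ⟨⟨⊥, Ideal.isPrime_bot⟩, ?_⟩, subset_rfl⟩
    refine isRegularLocalRing_of_maximalIdeal_eq_bot ?_
    exact (Localization.AtPrime.map_eq_maximalIdeal (I := (⊥ : Ideal A'))).symm.trans Ideal.map_bot
  · intro h S _ _ _
    have : IsNoetherianRing S := Algebra.FiniteType.isNoetherianRing A S
    refine Groth.Agent.S4700.result S fun p _ => ?_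
    let P₀ := RingHom.ker (algebraMap A (S ⧸ p.asIdeal))
    have : P₀.IsPrime := RingHom.ker_isPrime _
    let _ : Algebra (A ⧸ P₀) (S ⧸ p.asIdeal) := (RingHom.kerLift (algebraMap A (S ⧸ p.asIdeal))).toAlgebra
    have : IsScalarTower A (A ⧸ P₀) (S ⧸ p.asIdeal) := IsScalarTower.of_algebraMap_eq fun a => rfl
    have : FaithfulSMul (A ⧸ P₀) (S ⧸ p.asIdeal) :=
      (faithfulSMul_iff_algebraMap_injective _ _).mpr (RingHom.kerLift_injective _)
    have : Algebra.FiniteType (A ⧸ P₀) (S ⧸ p.asIdeal) := Algebra.FiniteType.of_restrictScalars_finiteType A _ _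
    refine exists_open_regLocus_of_finiteType_domain (A ⧸ P₀) (S ⧸ p.asIdeal) fun A₁ _ _ _ hfin => ?_
    let _ : Algebra A A₁ := Algebra.compHom A₁ (Ideal.Quotient.mk P₀)
    have : IsScalarTower A (A ⧸ P₀) A₁ := IsScalarTower.of_algebraMap_eq fun a => rfl
    exact h A₁ (Module.Finite.trans (A ⧸ P₀) A₁)

end Groth.Ega4Algebra1
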