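import Groth.Prelude.Def_EGA4b
import Groth.Agent.Ega4Algebra1.FormalFibreReduced
import Groth.Agent.Ega4Algebra1.NormalOpen
import Groth.Agent.Ega4Algebra1.RegularNormal
import Groth.Agent.Ega4Algebra1.J2
import Groth.Agent.Calg1.NormalLocus
import Groth.Agent.PropsBasic.GRingLocal
import Mathlib

/-!
Criteria for finiteness of integral closures: semilocal domains, generic normality, finite extensions.
-/

set_option autoImplicit false

universe u

namespace Groth.Ega4Algebra1

open IsLocalRing TensorProduct

/-- A Noetherian semilocal domain is N-1 when its localizations at maximal ideals are. -/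
theorem isN1_of_semilocal (R : Type u) [CommRing R] [IsDomain R]
    (hfin : {m : Ideal R | m.IsMaximal}.Finite)
    (h : ∀ (m : Ideal R) [m.IsMaximal], CAlg.IsN1 (Localization.AtPrime m)) : CAlg.IsN1 R := by
  classical
  set K := FractionRing R
  refine (Groth.Calg4.finite_ic_iff R K).mpr ?_
  have hloc : ∀ m : hfin.toFinset, ∃ U : Finset K, (∀ t ∈ U, IsIntegral R t) ∧
      ∀ x : K, IsIntegral R x → ∃ s, s ∉ m.1 ∧ s • x ∈ Submodule.span R (U : Set K) := by
    rintro ⟨m, hm⟩
    have : m.IsMaximal := hfin.mem_toFinset.mp hm
    set S := Localization.AtPrime m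
    have : IsDomain S := IsLocalization.isDomain_localization m.primeCompl_le_nonZeroDivisors
    have : IsFractionRing S K := IsFractionRing.isFractionRing_of_isDomain_of_isLocalization m.primeCompl S K
    obtain ⟨T, hT, hTs⟩ := (Groth.Calg4.finite_ic_iff S K).mp (Groth.Calg4.finite_ic_of_isN1 (h m) K)
    have hint : ∀ t ∈ hT.toFinset, ∃ s, s ∉ m ∧ IsIntegral R (s • t) := fun t ht => by
      have htS : IsIntegral S t := (hTs t).mpr (Submodule.subset_span (hT.mem_toFinset.mp ht))
      obtain ⟨⟨s, hs⟩, hst⟩ := IsIntegral.exists_multiple_integral_of_isLocalization m.primeCompl t htS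
      exact ⟨s, hs, hst⟩
    choose! s hs hst using hint
    refine ⟨hT.toFinset.image fun t => s t • t, fun x hx => ?_, fun x hx => ?_⟩
    · obtain ⟨t, ht, rfl⟩ := Finset.mem_image.mp hx
      exact hst t ht
    have hxT := (hTs x).mp (hx.tower_top (A := S))
    clear hx
    set N := Submodule.span R ((hT.toFinset.image fun t => s t • t : Finset K) : Set K)
    induction hxT using Submodule.span_induction with
    | mem t ht =>
      exact ⟨s t, hs t (hT.mem_toFinset.mpr ht),
        Submodule.subset_span (Finset.mem_image_of_mem _ (hT.mem_toFinset.mpr ht))⟩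
    | zero => exact ⟨1, Ideal.IsPrime.one_notMem inferInstance, by simp⟩
    | add y z _ _ hy hz =>
      obtain ⟨a, ha, hay⟩ := hy
      obtain ⟨b, hb, hbz⟩ := hz
      refine ⟨a * b, fun e => (Ideal.IsPrime.mem_or_mem inferInstance e).elim ha hb, ?_⟩
      convert N.add_mem (N.smul_mem b hay) (N.smul_mem a hbz) using 1
      module
    | smul c y _ hy =>
      obtain ⟨a, ha, hay⟩ := hy
      obtain ⟨⟨d, ⟨b, hb⟩⟩, hdb⟩ := IsLocalization.surj m.primeCompl c
      refine ⟨b * a, fun e => (Ideal.IsPrime.mem_or_mem inferInstance e).elim hb ha, ?_⟩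
      convert N.smul_mem d hay using 1
      have e : b • (c • y) = d • y := by
        rw [← algebraMap_smul S b, smul_smul, mul_comm, hdb, algebraMap_smul]
      rw [mul_comm, mul_smul, e, smul_comm]
  choose U hU hUs using hloc
  refine ⟨(⋃ m, (U m : Set K)), Set.finite_iUnion fun m => (U m).finite_toSet, fun x => ⟨fun hx => ?_, fun hx => ?_⟩⟩
  · set N := Submodule.span R (⋃ m, (U m : Set K))
    have htop : N.colon {x} = ⊤ := by
      by_contra hne
      obtain ⟨m, hm, hle⟩ := Ideal.exists_le_maximal _ hne
      obtain ⟨s, hs, hsx⟩ := hUs ⟨m, hfin.mem_toFinset.mpr hm⟩ x hx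
      exact hs (hle (Submodule.mem_colon_singleton.mpr (Submodule.span_mono (Set.subset_iUnion (fun m => (U m : Set K)) _) hsx)))
    have h1 : (1 : R) ∈ N.colon {x} := htop ▸ Submodule.mem_top
    simpa [Submodule.mem_colon_singleton] using h1
  · have : ∀ y ∈ ⋃ m, (U m : Set K), y ∈ Subalgebra.toSubmodule (integralClosure R K) := fun y hy => by
      obtain ⟨m, hm⟩ := Set.mem_iUnion.mp hy
      exact hU m y hm
    exact Submodule.span_le.mpr this hx

/-- A finite type domain over a J-2 ring is normal after inverting a nonzero element. -/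
theorem exists_normal_away (A B : Type u) [CommRing A] [IsNoetherianRing A] [CommRing B] [IsDomain B] [Algebra A B]
    [Algebra.FiniteType A B] (hA : EGA4.IsJ2 A) :
    ∃ f : B, f ≠ 0 ∧ IsIntegrallyClosed (Localization.Away f) := by
  set K := FractionRing B
  have : IsNoetherianRing B := Algebra.FiniteType.isNoetherianRing A B
  have hbot : (⊥ : PrimeSpectrum B) ∈ EGA4.regLocus B := by
    show IsRegularLocalRing (Localization.AtPrime (⊥ : Ideal B))
    have : IsDomain (Localization.AtPrime (⊥ : Ideal B)) :=
      IsLocalization.isDomain_localization (Ideal.primeCompl_le_nonZeroDivisors _)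
    refine isRegularLocalRing_of_maximalIdeal_eq_bot ?_
    rw [← Localization.AtPrime.map_eq_maximalIdeal, Ideal.map_bot]
  obtain ⟨_, ⟨f, rfl⟩, hf0, hfU⟩ :=
    PrimeSpectrum.isTopologicalBasis_basic_opens.exists_subset_of_mem_open hbot (hA B inferInstance)
  have hfne : f ≠ 0 := fun e => hf0 (show f ∈ (⊥ : Ideal B) by rw [e]; exact zero_mem _)
  refine ⟨f, hfne, ?_⟩
  set S := Localization.Away f
  have hle : Submonoid.powers f ≤ nonZeroDivisors B := powers_le_nonZeroDivisors_of_noZeroDivisors hfne
  have : IsDomain S := IsLocalization.isDomain_localization hle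
  let : Algebra S K := (IsLocalization.Away.lift (S := S) f (g := algebraMap B K)
    (IsLocalization.map_units K (⟨f, mem_nonZeroDivisors_of_ne_zero hfne⟩ : nonZeroDivisors B))).toAlgebra
  have : IsScalarTower B S K :=
    IsScalarTower.of_algebraMap_eq fun x => (IsLocalization.Away.lift_eq f _ x).symm
  have : IsFractionRing S K := IsFractionRing.isFractionRing_of_isDomain_of_isLocalization (Submonoid.powers f) S K
  refine (isIntegrallyClosed_iff K).mpr fun {z} hz => ?_
  obtain ⟨⟨fk, k, rfl⟩, hk⟩ := IsIntegral.exists_multiple_integral_of_isLocalization (Submonoid.powers f) z hz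
  let I : Ideal B := (1 : Submodule B K).colon {f ^ k • z}
  have hI : f ∈ I.radical := by
    rw [Ideal.radical_eq_sInf]
    refine Submodule.mem_sInf.mpr fun P ⟨hle, hP⟩ => ?_
    by_contra hfP
    have hreg : IsRegularLocalRing (Localization.AtPrime P) := hfU (a := ⟨P, hP⟩) hfP
    obtain ⟨t, ht, a, ha⟩ := exists_smul_mem_range_of_normal P (isIntegrallyClosed_of_isRegularLocalRing _) _ hk
    exact ht (hle (Submodule.mem_colon_singleton.mpr (Submodule.mem_one.mpr ⟨a, ha⟩)))
  obtain ⟨j, hj⟩ := hI
  obtain ⟨a, ha⟩ := Submodule.mem_one.mp (Submodule.mem_colon_singleton.mp hj)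
  refine ⟨IsLocalization.mk' S a (⟨f ^ (j + k), j + k, rfl⟩ : Submonoid.powers f), ?_⟩
  have hne : algebraMap B K (f ^ (j + k)) ≠ 0 := by
    rw [map_pow]; exact pow_ne_zero _ ((map_ne_zero_iff _ (IsFractionRing.injective B K)).mpr hfne)
  refine mul_left_cancel₀ hne ?_
  rw [IsScalarTower.algebraMap_apply B S K, ← map_mul,
    IsLocalization.mk'_spec' S a (⟨f ^ (j + k), j + k, rfl⟩ : Submonoid.powers f),
    ← IsScalarTower.algebraMap_apply, ha, smul_smul, ← pow_add, Algebra.smul_def,
    ← IsScalarTower.algebraMap_apply]

/-- A regular ring is reduced. -/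
theorem isReduced_of_isRegularRing (R : Type u) [CommRing R] [IsRegularRing R] : IsReduced R :=
  isReduced_ofLocalizationMaximal R fun m _ => by
    have := isDomain_of_isRegularLocalRing (Localization.AtPrime m)
    infer_instance

set_option synthInstance.maxHeartbeats 200000 in
set_option maxHeartbeats 800000 in
/-- A regular completion map gives geometrically reduced formal fibres. -/
theorem hasGeomReducedFormalFibres_of_isRegularHom (A : Type u) [CommRing A] [IsLocalRing A]
    (h : CAlg.IsRegularHom A (EGA4.Cpl A)) : EGA4.HasGeomReducedFormalFibres A := by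
  intro p _
  set k := p.ResidueField
  set F := EGA4.formalFibre A p
  rw [Algebra.isGeometricallyReduced_field_iff]
  set Kb := AlgebraicClosure k
  refine ⟨fun x hx => ?_⟩
  -- descend to a finite subextension
  have key : ∀ y : Kb ⊗[k] F, ∃ E : IntermediateField k Kb, FiniteDimensional k E ∧
      y ∈ (Algebra.TensorProduct.map E.val (AlgHom.id k F)).range := fun y => by
    induction y using TensorProduct.induction_on with
    | zero => exact ⟨⊥, inferInstance, zero_mem _⟩
    | tmul a b =>
      refine ⟨IntermediateField.adjoin k {a}, IntermediateField.adjoin.finiteDimensional (Algebra.IsIntegral.isIntegral a), ?_⟩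
      exact ⟨⟨a, IntermediateField.mem_adjoin_simple_self k a⟩ ⊗ₜ b, rfl⟩
    | add y z hy hz =>
      obtain ⟨E, hE, yE, rfl⟩ := hy
      obtain ⟨E', hE', zE, rfl⟩ := hz
      refine ⟨E ⊔ E', IntermediateField.finiteDimensional_sup E E', ?_⟩
      have hsub : ∀ {G : IntermediateField k Kb} (hG : G ≤ E ⊔ E') (w : G ⊗[k] F),
          Algebra.TensorProduct.map G.val (AlgHom.id k F) w ∈
            (Algebra.TensorProduct.map (E ⊔ E').val (AlgHom.id k F)).range := fun {G} hG w => by
        refine ⟨Algebra.TensorProduct.map (IntermediateField.inclusion hG) (AlgHom.id k F) w, ?_⟩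
        induction w using TensorProduct.induction_on with
        | zero => simp
        | tmul a b => rfl
        | add u v hu hv => simp only [map_add, hu, hv]
      exact add_mem (hsub le_sup_left yE) (hsub le_sup_right zE)
  obtain ⟨E, hE, y, hy⟩ := key x
  have := (h.2 p).2 E hE
  have : IsReduced (E ⊗[k] F) := @isReduced_of_isRegularRing (E ⊗[k] F) _ this
  have hinj : Function.Injective (Algebra.TensorProduct.map E.val (AlgHom.id k F)) :=
    Module.Flat.rTensor_preserves_injective_linearMap E.val.toLinearMap E.val.injective
  rw [← hy] at hx ⊢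
  exact (congrArg _ (IsReduced.eq_zero y ((IsNilpotent.map_iff hinj).mp hx))).trans (map_zero _)

/-- A Noetherian domain is N-2 if its finite domain extensions are N-1. -/
theorem isN2_of_finite_isN1 (R : Type u) [CommRing R] [IsDomain R]
    (h : ∀ (B : Type u) [CommRing B] [IsDomain B] [Algebra R B] [Module.Finite R B], CAlg.IsN1 B) :
    CAlg.IsN2 R := by
  intro L _ _ _ _ hfin
  have := hfin
  obtain ⟨B, hB, hfrac⟩ := exists_finite_isFractionRing R (FractionRing R) L
  obtain ⟨T, hT, hTs⟩ := (Groth.Calg4.finite_ic_iff B L).mp (Groth.Calg4.finite_ic_of_isN1 (h B) L)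
  obtain ⟨U, hU⟩ := (Module.finite_def (R := R) (M := B)).mp hB
  classical
  refine (Groth.Calg4.finite_ic_iff R L).mpr ⟨(fun q : B × L => (q.1 : L) * q.2) '' ((U : Set B) ×ˢ T),
    (U.finite_toSet.prod hT).image _, fun x => ⟨fun hx => ?_, fun hx => ?_⟩⟩
  · have hxT := (hTs x).mp (hx.tower_top (A := B))
    clear hx
    set N := Submodule.span R ((fun q : B × L => (q.1 : L) * q.2) '' ((U : Set B) ×ˢ T))
    induction hxT using Submodule.span_induction with
    | mem t ht =>
      have h1 : (1 : B) ∈ Submodule.span R (U : Set B) := hU ▸ Submodule.mem_top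
      have : ∀ c ∈ Submodule.span R (U : Set B), (c : L) * t ∈ N := fun c hc => by
        induction hc using Submodule.span_induction with
        | mem u hu => exact Submodule.subset_span ⟨(u, t), ⟨hu, ht⟩, rfl⟩
        | zero => simp
        | add a b _ _ ha hb => rw [Subalgebra.coe_add, add_mul]; exact add_mem ha hb
        | smul r a _ ha => rw [Subalgebra.coe_smul, smul_mul_assoc]; exact N.smul_mem r ha
      simpa using this 1 h1
    | zero => exact zero_mem _
    | add a b _ _ ha hb => exact add_mem ha hb
    | smul c y hy ih =>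
      -- multiply by an element of `B`
      have hc : c ∈ Submodule.span R (U : Set B) := hU ▸ Submodule.mem_top
      have key : ∀ z ∈ N, (c : L) * z ∈ N := fun z hz => by
        induction hz using Submodule.span_induction with
        | mem w hw =>
          obtain ⟨⟨u, t⟩, ⟨-, ht⟩, rfl⟩ := hw
          have : ∀ d ∈ Submodule.span R (U : Set B), (d : L) * t ∈ N := fun d hd => by
            induction hd using Submodule.span_induction with
            | mem u hu => exact Submodule.subset_span ⟨(u, t), ⟨hu, ht⟩, rfl⟩
            | zero => simp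
            | add a b _ _ ha hb => rw [Subalgebra.coe_add, add_mul]; exact add_mem ha hb
            | smul r a _ ha => rw [Subalgebra.coe_smul, smul_mul_assoc]; exact N.smul_mem r ha
          simpa [mul_assoc] using this (c * u) (hU ▸ Submodule.mem_top)
        | zero => simp
        | add a b _ _ ha hb => rw [mul_add]; exact add_mem ha hb
        | smul r a _ ha => rw [mul_smul_comm]; exact N.smul_mem r ha
      exact key y ih
  · refine (Submodule.span_le.mpr ?_ : _ ≤ Subalgebra.toSubmodule (integralClosure R L)) hx
    rintro _ ⟨⟨u, t⟩, ⟨-, ht⟩, rfl⟩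
    have hu : IsIntegral R (u : L) := (IsIntegral.of_finite R u).map B.val
    have : Algebra.IsIntegral R B := inferInstance
    exact hu.mul (isIntegral_trans (A := B) t ((hTs t).mpr (Submodule.subset_span ht)))

/-- Reducedness of completions is invariant under isomorphism of local rings. -/
theorem isReduced_completion_of_ringEquiv {A B : Type u} [CommRing A] [CommRing B] [IsLocalRing A]
    [IsLocalRing B] (e : A ≃+* B) (h : IsReduced (AdicCompletion (maximalIdeal A) A)) :
    IsReduced (AdicCompletion (maximalIdeal B) B) := by
  obtain ⟨σ, -⟩ := Groth.PropsBasic.GRingLocal.exists_cplEquiv (maximalIdeal A) (maximalIdeal B) e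
    (map_maximalIdeal_of_surjective _ e.surjective)
  exact isReduced_of_injective σ.symm σ.symm.injective

/-- Analytic unramifiedness of finite domains over a ring with geometrically reduced formal fibres at the
maximal ideals. -/
theorem isReduced_completion_finite_of_maximal (A : Type u) [CommRing A] [IsNoetherianRing A]
    (hA : ∀ (m : Ideal A) [m.IsMaximal], EGA4.HasGeomReducedFormalFibres (Localization.AtPrime m))
    (B : Type u) [CommRing B] [IsDomain B] [Algebra A B] [Module.Finite A B] (n : Ideal B) [n.IsMaximal] :
    IsReduced (AdicCompletion (maximalIdeal (Localization.AtPrime n)) (Localization.AtPrime n)) := by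
  let m := n.comap (algebraMap A B)
  have : m.IsMaximal := Ideal.isMaximal_comap_of_isIntegral_of_isMaximal n
  set M := Algebra.algebraMapSubmonoid B m.primeCompl
  have hdis : Disjoint (M : Set B) (n : Set B) := by
    rw [Set.disjoint_left]
    rintro _ ⟨a, ha, rfl⟩ hn
    exact ha hn
  set Bm := Localization M
  have h0 : (0 : B) ∉ M := fun hh => Set.disjoint_left.mp hdis hh n.zero_mem
  have : IsDomain Bm := IsLocalization.isDomain_localization (le_nonZeroDivisors_of_noZeroDivisors h0)
  have : Module.Finite (Localization.AtPrime m) Bm :=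
    Module.Finite.of_isLocalization A B m.primeCompl
  set n' := n.map (algebraMap B Bm)
  have hn'p : n'.IsPrime := IsLocalization.isPrime_of_isPrime_disjoint M Bm n inferInstance hdis
  have hback : n'.under B = n := IsLocalization.under_map_of_isPrime_disjoint M Bm inferInstance hdis
  have hn'm : n'.IsMaximal := by
    obtain ⟨q, hq, hle⟩ := Ideal.exists_le_maximal n' hn'p.ne_top
    have h1 : n ≤ q.under B := hback ▸ Ideal.comap_mono hle
    have h2 : q.under B = n := ((inferInstance : n.IsMaximal).eq_of_le (Ideal.IsPrime.ne_top inferInstance) h1).symm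
    have : q = n' := (IsLocalization.map_under M Bm q).symm.trans (by rw [h2])
    exact this ▸ hq
  have h := isReduced_completion_finite_domain (Localization.AtPrime m) (hA m) Bm n'
  have hloc : IsLocalization.AtPrime (Localization.AtPrime n') (n'.under B) :=
    IsLocalization.isLocalization_isLocalization_atPrime_isLocalization M (Localization.AtPrime n') n'
  have hloc' : IsLocalization.AtPrime (Localization.AtPrime n') n := by
    have key : ∀ (I : Ideal B) [I.IsPrime], I = n → IsLocalization.AtPrime (Localization.AtPrime n') I →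
        IsLocalization.AtPrime (Localization.AtPrime n') n := by
      rintro I _ rfl h; exact h
    exact key _ hback hloc
  exact isReduced_completion_of_ringEquiv
    (IsLocalization.algEquiv n.primeCompl (Localization.AtPrime n') (Localization.AtPrime n)).toRingEquiv h

end Groth.Ega4Algebra1
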