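import Groth.Prelude.Def_EGA4b
import Groth.Agent.Calg4.RegularAscent
import Groth.Agent.Ega4Algebra2.CMEquiv
import Mathlib

/-!
# Cohen–Macaulay rings tensored with finitely generated field extensions
-/

set_option autoImplicit false

universe u

namespace Groth.Ega4Algebra1

open TensorProduct IsLocalRing

/-- A local ring of dimension zero is Cohen–Macaulay. -/
theorem isCohenMacaulayLocalRing_of_krullDimLE_zero (A : Type u) [CommRing A] [IsLocalRing A] [IsNoetherianRing A]
    [Ring.KrullDimLE 0 A] : LocCoh.IsCohenMacaulayLocalRing A := by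
  rw [Groth.Calg4.isCohenMacaulayLocalRing_iff_dim_eq]
  have h0 : ringKrullDim A = 0 :=
    le_antisymm (Ring.krullDimLE_iff.mp ‹_›) ringKrullDim_nonneg_of_nontrivial
  have h1 := Groth.Calg4.depth_le_ringKrullDim A
  rw [h0] at h1 ⊢
  rw [le_antisymm (WithBot.coe_le_coe.mp h1) bot_le]
  rfl

/-- A finite flat algebra over a Cohen–Macaulay ring is Cohen–Macaulay. -/
theorem isCohenMacaulayRing_of_finite_flat (R S : Type u) [CommRing R] [CommRing S] [Algebra R S]
    [Module.Flat R S] [Module.Finite R S] [hR : LocCoh.IsCohenMacaulayRing R] :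
    LocCoh.IsCohenMacaulayRing S := by
  have := hR.toIsNoetherian
  have : IsNoetherianRing S := IsNoetherianRing.of_finite R S
  refine ⟨fun q _ => ?_⟩
  let p := q.comap (algebraMap R S)
  let Rp := Localization.AtPrime p
  let Sq := Localization.AtPrime q
  let := (Localization.localRingHom p q (algebraMap R S) rfl).toAlgebra
  have : IsScalarTower R Rp Sq :=
    IsScalarTower.of_algebraMap_eq fun a => by
      rw [RingHom.algebraMap_toAlgebra, Localization.localRingHom_to_map,
        IsScalarTower.algebraMap_apply R S (Localization.AtPrime q)]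
  have : IsLocalHom (algebraMap Rp Sq) := Localization.isLocalHom_localRingHom p q (algebraMap R S) rfl
  have : Module.Flat R Sq := Module.Flat.trans R S _
  have : Module.Flat Rp Sq := (Module.flat_iff_of_isLocalization Rp p.primeCompl _).mpr inferInstance
  have hle : (maximalIdeal Rp).map (algebraMap Rp Sq) ≤ maximalIdeal Sq :=
    ((local_hom_TFAE (algebraMap Rp Sq)).out 0 2).mp ‹_›
  let F := Sq ⧸ (maximalIdeal Rp).map (algebraMap Rp Sq)
  have : Nontrivial F := Ideal.Quotient.nontrivial_iff.mpr
    (ne_top_of_le_ne_top (maximalIdeal.isMaximal Sq).ne_top hle)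
  have : IsLocalRing F := IsLocalRing.of_surjective' _ Ideal.Quotient.mk_surjective
  have : Ring.KrullDimLE 0 F := Ring.KrullDimLE.mk₀ fun P hP => by
    let P' := P.comap (Ideal.Quotient.mk ((maximalIdeal Rp).map (algebraMap Rp Sq)))
    let P₀ := P'.comap (algebraMap S Sq)
    have h1 : P₀ ≤ q := fun x hx => by
      by_contra hxq
      exact (Ideal.IsPrime.ne_top inferInstance : P' ≠ ⊤)
        (Ideal.eq_top_of_isUnit_mem _ hx (IsLocalization.map_units Sq (⟨x, hxq⟩ : q.primeCompl)))
    have h2 : p ≤ P₀.comap (algebraMap R S) := fun x hx => by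
      show algebraMap S Sq (algebraMap R S x) ∈ P'
      rw [← IsScalarTower.algebraMap_apply R S Sq, IsScalarTower.algebraMap_apply R Rp Sq]
      refine Ideal.mem_comap.mpr ?_
      rw [Ideal.Quotient.eq_zero_iff_mem.mpr (Ideal.mem_map_of_mem _ ?_)]
      · exact P.zero_mem
      · rw [← Localization.AtPrime.map_eq_maximalIdeal]
        exact Ideal.mem_map_of_mem _ hx
    have h3 : P₀ = q := by
      by_contra hne
      exact (Ideal.IsIntegral.comap_lt_comap (R := R) (lt_of_le_of_ne h1 hne)).not_ge h2
    have h4 : P' = maximalIdeal Sq := by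
      rw [← IsLocalization.map_under q.primeCompl Sq P', show P'.under S = q from h3,
        Localization.AtPrime.map_eq_maximalIdeal]
    have : P'.IsMaximal := h4 ▸ maximalIdeal.isMaximal Sq
    exact (Ideal.map_comap_of_surjective _ Ideal.Quotient.mk_surjective P) ▸
      (Ideal.map_eq_top_or_isMaximal_of_surjective _ Ideal.Quotient.mk_surjective this).resolve_left (fun h => hP.ne_top
        ((Ideal.map_comap_of_surjective _ Ideal.Quotient.mk_surjective P).symm.trans h))
  exact Groth.Calg4.isCohenMacaulayLocalRing_of_flat Rp Sq (hR.isCohenMacaulayLocalRing_localization p)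
    (isCohenMacaulayLocalRing_of_krullDimLE_zero F)

/-- Polynomial rings over Cohen–Macaulay rings are Cohen–Macaulay. -/
theorem isCohenMacaulayRing_polynomial (R : Type u) [CommRing R] [LocCoh.IsCohenMacaulayRing R]
    (σ : Type u) [Finite σ] : LocCoh.IsCohenMacaulayRing (MvPolynomial σ R) := by
  have h : ∀ (p : Ideal R) [p.IsPrime], IsRegularRing (p.Fiber (MvPolynomial σ R)) := fun p _ =>
    IsRegularRing.of_ringEquiv (MvPolynomial.algebraTensorAlgEquiv R p.ResidueField (σ := σ)).symm.toRingEquiv
  exact Groth.Calg4.isCohenMacaulayRing_of_flat_of_regular_fibers R _ h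

/-- Localizations of Cohen–Macaulay rings are Cohen–Macaulay. -/
theorem isCohenMacaulayRing_of_isLocalization {R : Type u} [CommRing R] (hR : LocCoh.IsCohenMacaulayRing R)
    (M : Submonoid R) (S : Type u) [CommRing S] [Algebra R S] [IsLocalization M S] :
    LocCoh.IsCohenMacaulayRing S := by
  have := hR.toIsNoetherian
  have : IsNoetherianRing S := IsLocalization.isNoetherianRing M S ‹_›
  refine ⟨fun q _ => ?_⟩
  have : IsLocalization.AtPrime (Localization.AtPrime q) (q.comap (algebraMap R S)) :=
    IsLocalization.isLocalization_isLocalization_atPrime_isLocalization M (Localization.AtPrime q) q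
  exact Groth.Ega4b.isCohenMacaulayLocalRing_of_ringEquiv
    (IsLocalization.algEquiv (q.comap (algebraMap R S)).primeCompl
      (Localization.AtPrime (q.comap (algebraMap R S))) (Localization.AtPrime q)).toRingEquiv
    (hR.isCohenMacaulayLocalRing_localization _)

theorem isCohenMacaulayRing_tensor_of_finite (k E K D : Type u) [Field k] [Field E] [Field K] [Algebra k E]
    [Algebra k K] [Algebra E K] [IsScalarTower k E K] [Module.Finite E K] [CommRing D] [Algebra k D]
    (h : LocCoh.IsCohenMacaulayRing (E ⊗[k] D)) : LocCoh.IsCohenMacaulayRing (K ⊗[k] D) :=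
  Groth.Ega4b.isCohenMacaulayRing_of_ringEquiv
    ((Algebra.TensorProduct.comm E (E ⊗[k] D) K).toRingEquiv.trans
      (Algebra.TensorProduct.cancelBaseChange k E E K D).toRingEquiv)
    (isCohenMacaulayRing_of_finite_flat (E ⊗[k] D) ((E ⊗[k] D) ⊗[E] K) (hR := h))

/-- A Cohen–Macaulay algebra over a field stays Cohen–Macaulay under finitely generated field
extensions. -/
theorem isCohenMacaulayRing_tensor_field (k K D : Type u) [Field k] [Field K] [Algebra k K]
    [Algebra.EssFiniteType k K] [CommRing D] [Algebra k D] (hD : LocCoh.IsCohenMacaulayRing D) :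
    LocCoh.IsCohenMacaulayRing (K ⊗[k] D) := by
  obtain ⟨s, hs⟩ := exists_isTranscendenceBasis k K
  have hfin : s.Finite := Cardinal.lt_aleph0_iff_set_finite.1
    (hs.cardinalMk_eq_trdeg.trans_lt (trdeg_lt_aleph0 k K))
  have : Finite s := hfin.to_subtype
  let E := IntermediateField.adjoin k (Set.range ((↑) : s → K))
  have : Algebra.IsAlgebraic E K := hs.isAlgebraic_field
  have : Algebra.EssFiniteType E K := Algebra.EssFiniteType.of_comp k E K
  have : Module.Finite E K := Algebra.finite_of_essFiniteType_of_isAlgebraic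
  have h1 : LocCoh.IsCohenMacaulayRing (MvPolynomial s k ⊗[k] D) :=
    Groth.Ega4b.isCohenMacaulayRing_of_ringEquiv
      ((MvPolynomial.algebraTensorAlgEquiv k D (σ := s)).symm.toRingEquiv.trans
        (Algebra.TensorProduct.comm k D (MvPolynomial s k)).toRingEquiv)
      (isCohenMacaulayRing_polynomial D s)
  have h2 : LocCoh.IsCohenMacaulayRing (FractionRing (MvPolynomial s k) ⊗[k] D) := by
    have h2' : LocCoh.IsCohenMacaulayRing ((MvPolynomial s k ⊗[k] D) ⊗[MvPolynomial s k] FractionRing (MvPolynomial s k)) :=
      isCohenMacaulayRing_of_isLocalization h1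
        (Algebra.algebraMapSubmonoid (MvPolynomial s k ⊗[k] D) (nonZeroDivisors (MvPolynomial s k))) _
    exact Groth.Ega4b.isCohenMacaulayRing_of_ringEquiv
      ((Algebra.TensorProduct.comm (MvPolynomial s k) (MvPolynomial s k ⊗[k] D) (FractionRing (MvPolynomial s k))).toRingEquiv.trans
        (Algebra.TensorProduct.cancelBaseChange k (MvPolynomial s k) (FractionRing (MvPolynomial s k))
          (FractionRing (MvPolynomial s k)) D).toRingEquiv) h2'
  have h3 : LocCoh.IsCohenMacaulayRing (E ⊗[k] D) := Groth.Ega4b.isCohenMacaulayRing_of_ringEquiv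
    (Algebra.TensorProduct.congr hs.1.aevalEquivField (AlgEquiv.refl (R := k) (A₁ := D))).toRingEquiv h2
  exact isCohenMacaulayRing_tensor_of_finite k E K D h3

end Groth.Ega4Algebra1

namespace Groth.Ega4Algebra1

/-- Fields are Cohen–Macaulay rings. -/
theorem isCohenMacaulayRing_field (L : Type u) [Field L] : LocCoh.IsCohenMacaulayRing L := by
  refine ⟨fun p _ => ?_⟩
  have hp : p = ⊥ := (Ideal.eq_bot_or_top p).resolve_right (Ideal.IsPrime.ne_top ‹_›)
  have : Ring.KrullDimLE 0 (Localization.AtPrime p) := by
    rw [Ring.krullDimLE_iff, IsLocalization.AtPrime.ringKrullDim_eq_height p (Localization.AtPrime p)]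
    subst hp
    simp
  exact isCohenMacaulayLocalRing_of_krullDimLE_zero _

end Groth.Ega4Algebra1
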