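import Groth.Prelude.Def_EGA4b
import Groth.Agent.Calg4.FormalFibres
import Groth.Agent.Calg4.RegularHom
import Groth.Agent.PropsBasic.GRingMaximal
import Groth.Agent.Ega4Algebra1.ExcellentLoc
import Groth.Agent.Ega4Algebra2.GRingComplete
import Groth.Agent.Ega4Algebra2.GRingFiniteType
import Mathlib

/-!
# Descending formal fibre properties to essentially finite type algebras

Relative to the theorem that algebras of finite type over complete Noetherian local rings are G-rings
(`CompleteFT` below): G-rings are stable under algebras of finite type, and local models for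
transferring properties of formal fibres.
-/

set_option autoImplicit false

universe u

namespace Groth.Ega4Algebra1

open TensorProduct IsLocalRing

/-- Algebras of finite type over complete Noetherian local rings are G-rings. -/
def CompleteFT : Prop :=
  ∀ (C : Type u) [CommRing C] [IsLocalRing C] [IsNoetherianRing C] [IsAdicComplete (maximalIdeal C) C]
    (S : Type u) [CommRing S] [Algebra C S] [Algebra.FiniteType C S], CAlg.IsGRing S

theorem isGRing_of_ringEquiv {S T : Type u} [CommRing S] [CommRing T] (e : S ≃+* T) (h : CAlg.IsGRing S) :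
    CAlg.IsGRing T := by
  have := h.1
  refine ⟨isNoetherianRing_of_ringEquiv S e, fun P _ => ?_⟩
  let P' := P.comap e.toRingHom
  have := h.2 P'
  have hM : Submonoid.map e.toMonoidHom P'.primeCompl = P.primeCompl := by
    ext y
    refine ⟨by rintro ⟨x, hx, rfl⟩; exact hx, fun hy => ⟨e.symm y, ?_, e.apply_symm_apply y⟩⟩
    intro h0
    apply hy
    simpa [P'] using h0
  exact Groth.PropsBasic.GRingLocal.isRegularHom_completion_of_equiv
    (IsLocalization.ringEquivOfRingEquiv (Localization.AtPrime P') (Localization.AtPrime P) e hM) this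

theorem CompleteFT.essFiniteType (hC : CompleteFT.{u}) (C : Type u) [CommRing C] [IsLocalRing C]
    [IsNoetherianRing C] [IsAdicComplete (maximalIdeal C) C] (S : Type u) [CommRing S] [Algebra C S]
    [Algebra.EssFiniteType C S] : CAlg.IsGRing S :=
  let T := Algebra.EssFiniteType.subalgebra C S
  let M := Algebra.EssFiniteType.submonoid C S
  isGRing_of_ringEquiv (IsLocalization.algEquiv M (Localization M) S).toRingEquiv
    (isGRing_localization (hC C T) M)

theorem CompleteFT.tensor (hC : CompleteFT.{u}) (A C : Type u) [CommRing A] [CommRing C] [IsLocalRing C]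
    [IsNoetherianRing C] [IsAdicComplete (maximalIdeal C) C] [Algebra A C] (B : Type u) [CommRing B]
    [Algebra A B] [Algebra.EssFiniteType A B] : CAlg.IsGRing (B ⊗[A] C) :=
  isGRing_of_ringEquiv (Algebra.TensorProduct.comm A C B).toRingEquiv (hC.essFiniteType C (C ⊗[A] B))

/-- A prime of `B ⊗ C` over the closed point of `B`. -/
theorem exists_prime_over_closedPoint (A B C : Type u) [CommRing A] [CommRing B] [CommRing C] [Algebra A B]
    [Algebra A C] [IsLocalRing B] (h : Nontrivial (ResidueField B ⊗[A] C)) :
    ∃ (n : Ideal (B ⊗[A] C)) (_ : n.IsPrime), n.comap (algebraMap B (B ⊗[A] C)) = maximalIdeal B := by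
  obtain ⟨Q, hQ⟩ := Ideal.exists_maximal (ResidueField B ⊗[A] C)
  let θ := Algebra.TensorProduct.map (IsScalarTower.toAlgHom A B (ResidueField B)) (AlgHom.id A C)
  have := hQ.isPrime
  refine ⟨Q.comap θ, inferInstance, ((maximalIdeal.isMaximal B).eq_of_le ?_ fun b hb => ?_).symm⟩
  · exact (Ideal.comap_ne_top _ (Ideal.IsPrime.ne_top inferInstance))
  · show θ (algebraMap B (B ⊗[A] C) b) ∈ Q
    rw [Algebra.TensorProduct.algebraMap_apply, Algebra.algebraMap_self, RingHom.id_apply, Algebra.TensorProduct.map_tmul, map_one,
      show IsScalarTower.toAlgHom A B (ResidueField B) b = 0 from (residue_eq_zero_iff b).mpr hb, zero_tmul]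
    exact Q.zero_mem

section model

variable {A B C : Type u} [CommRing A] [CommRing B] [CommRing C] [Algebra A B] [Algebra A C] [IsLocalRing B]
  (n : Ideal (B ⊗[A] C)) [n.IsPrime]

theorem isLocalHom_model (hn : n.comap (algebraMap B (B ⊗[A] C)) = maximalIdeal B) :
    IsLocalHom (algebraMap B (Localization.AtPrime n)) := by
  refine ((IsLocalRing.local_hom_TFAE _).out 0 2).mpr ?_
  rw [IsScalarTower.algebraMap_eq B (B ⊗[A] C) (Localization.AtPrime n), ← Ideal.map_map]
  refine (Ideal.map_mono (Ideal.map_le_iff_le_comap.mpr hn.ge)).trans ?_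
  rw [Localization.AtPrime.map_eq_maximalIdeal]

omit [IsLocalRing B] in
theorem flat_model [Module.Flat A C] : Module.Flat B (Localization.AtPrime n) :=
  have : Module.Flat (B ⊗[A] C) (Localization.AtPrime n) := IsLocalization.flat _ n.primeCompl
  Module.Flat.trans B (B ⊗[A] C) _

omit [IsLocalRing B] in
/-- A property stable under localization passes from `L ⊗ C` to the fibres of the local model. -/
theorem prop_fibre_model (P : ∀ (D : Type u) [CommRing D], Prop)
    (hequiv : ∀ (D E : Type u) [CommRing D] [CommRing E], (D ≃+* E) → P D → P E)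
    (hloc : ∀ (D E : Type u) [CommRing D] [CommRing E] [Algebra D E] (M : Submonoid D),
      IsLocalization M E → P D → P E)
    (L : Type u) [CommRing L] [Algebra B L] [Algebra A L] [IsScalarTower A B L] (hL : P (L ⊗[A] C)) :
    P (L ⊗[B] Localization.AtPrime n) := by
  let S := B ⊗[A] C
  let A' := Localization.AtPrime n
  have h1 : P (S ⊗[B] L) := hequiv _ _ ((Algebra.TensorProduct.cancelBaseChange A B B L C).symm.toRingEquiv.trans
    (Algebra.TensorProduct.comm B L S).toRingEquiv) hL
  exact hequiv _ _ (Groth.Calg4.fibreTower B S A' L)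
    (hloc (S ⊗[B] L) ((S ⊗[B] L) ⊗[S] A') (Algebra.algebraMapSubmonoid (S ⊗[B] L) n.primeCompl) inferInstance h1)

end model

/-- If `A → A'` is regular and the completion map of `A'` is regular then so is that of `A`. -/
theorem isRegularHom_cpl_of_regularHom (A A' : Type u) [CommRing A] [CommRing A'] [IsNoetherianRing A]
    [IsNoetherianRing A'] [IsLocalRing A] [IsLocalRing A'] [Algebra A A'] [IsLocalHom (algebraMap A A')]
    (h : CAlg.IsRegularHom A A') (hA' : CAlg.IsRegularHom A' (AdicCompletion (maximalIdeal A') A')) :
    CAlg.IsRegularHom A (AdicCompletion (maximalIdeal A) A) := by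
  have := h.1
  have : Module.Flat A (AdicCompletion (maximalIdeal A) A) := AdicCompletion.flat_of_isNoetherian _
  refine Groth.Calg4.isRegularHom_of_isRegularRing_tensor inferInstance fun L _ _ hL => ?_
  have := hL
  exact Groth.Calg4.formalFibre_of_flat (fun D _ => IsRegularRing D)
    (fun D E _ _ e hD => have := hD; IsRegularRing.of_ringEquiv e)
    (fun D E _ _ _ _ _ _ hf hD => Groth.PropsBasic.GRingMaximal.isRegularRing_of_fibres D E hf hD)
    (fun D E _ _ _ _ _ hE => have := hE; Groth.Agent.S9406.result D E)
    A A' hA' L (Groth.Calg4.IsRegularHom.isRegularRing_tensor h L)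

/-- Algebras of finite type over G-rings are G-rings. -/
theorem CompleteFT.isGRing_of_finiteType (hC : CompleteFT.{u}) (R : Type u) [CommRing R]
    (hR : CAlg.IsGRing R) (S : Type u) [CommRing S] [Algebra R S] [Algebra.FiniteType R S] :
    CAlg.IsGRing S := by
  have := hR.1
  have : IsNoetherianRing S := Algebra.FiniteType.isNoetherianRing R S
  refine Groth.PropsBasic.GRingMaximal.isGRing_of_maximal
    (fun C _ _ _ _ => Groth.Ega4b.isGRing_of_isAdicComplete C) S fun m hm => ?_
  let p := m.comap (algebraMap R S)
  let Rp := Localization.AtPrime p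
  let C := AdicCompletion (maximalIdeal Rp) Rp
  let B := Localization.AtPrime m
  have : IsNoetherianRing C := Groth.Calg1.isNoetherianRing_adicCompletion _ (IsNoetherian.noetherian _)
  have : IsAdicComplete (maximalIdeal C) C := by
    rw [AdicCompletion.maximalIdeal_eq_map]
    exact AdicCompletion.isAdicComplete_self _ (maximalIdeal Rp).fg_of_isNoetherianRing
  have : Algebra.EssFiniteType S B := .of_isLocalization _ m.primeCompl
  have : Algebra.EssFiniteType R B := Algebra.EssFiniteType.comp R S B
  have hRRp : CAlg.IsRegularHom R Rp := by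
    refine Groth.Calg4.isRegularHom_of_isRegularRing_tensor (IsLocalization.flat _ p.primeCompl) fun L _ _ _ => ?_
    exact Groth.Calg4.isRegularRing_of_isLocalization _ (Algebra.algebraMapSubmonoid L p.primeCompl)
  have hRC : CAlg.IsRegularHom R C := Groth.Calg4.IsRegularHom.trans hRRp (hR.2 p) fun q _ => by
    have : IsNoetherianRing (C ⊗[R] q.ResidueField) := Algebra.EssFiniteType.isNoetherianRing C _
    exact isNoetherianRing_of_ringEquiv _ (Algebra.TensorProduct.comm R C q.ResidueField).toRingEquiv
  have hnt : Nontrivial (ResidueField B ⊗[R] C) := by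
    let : Algebra Rp B := (Localization.localRingHom p m (algebraMap R S) rfl).toAlgebra
    have : IsScalarTower R Rp B := IsScalarTower.of_algebraMap_eq fun x => by
      rw [IsScalarTower.algebraMap_apply R S B]
      exact (Localization.localRingHom_to_map p m (algebraMap R S) rfl x).symm
    have : Module.Flat Rp C := (hR.2 p).1
    have : IsLocalHom (algebraMap Rp C) := by
      refine ((local_hom_TFAE _).out 0 2).mpr ?_
      rw [AdicCompletion.maximalIdeal_eq_map]
    have : Module.FaithfullyFlat Rp C := Module.FaithfullyFlat.of_flat_of_isLocalHom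
    have : IsScalarTower R Rp (ResidueField B) := IsScalarTower.of_algebraMap_eq fun x => by
      rw [IsScalarTower.algebraMap_apply R B (ResidueField B), IsScalarTower.algebraMap_apply R Rp B,
        ← IsScalarTower.algebraMap_apply Rp B (ResidueField B)]
    exact (IsLocalization.algebraTensorEquiv p.primeCompl Rp (ResidueField B) C).toRingEquiv.symm.toEquiv.nontrivial
  obtain ⟨n, _, hn⟩ := exists_prime_over_closedPoint R B C hnt
  have hG := hC.tensor R C B
  have := hG.1
  have := isLocalHom_model n hn
  exact isRegularHom_cpl_of_regularHom B (Localization.AtPrime n)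
    (Groth.Calg4.IsRegularHom.localization (Groth.Calg4.IsRegularHom.baseChange hRC B) n.primeCompl _)
    (hG.2 n)

/-- A local model of a Noetherian local algebra essentially of finite type over a local ring, with
regular completion map. -/
theorem CompleteFT.exists_model (hC : CompleteFT.{u}) (A : Type u) [CommRing A] [IsLocalRing A]
    [IsNoetherianRing A] (B : Type u) [CommRing B] [IsLocalRing B] [Algebra A B]
    [Algebra.EssFiniteType A B] :
    ∃ (n : Ideal (B ⊗[A] EGA4.Cpl A)) (_ : n.IsPrime),
      n.comap (algebraMap B (B ⊗[A] EGA4.Cpl A)) = maximalIdeal B ∧ IsNoetherianRing (Localization.AtPrime n) ∧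
        CAlg.IsRegularHom (Localization.AtPrime n) (EGA4.Cpl (Localization.AtPrime n)) := by
  let C := EGA4.Cpl A
  have : IsNoetherianRing C := Groth.Calg1.isNoetherianRing_adicCompletion _ (IsNoetherian.noetherian _)
  have : IsAdicComplete (maximalIdeal C) C := by
    rw [AdicCompletion.maximalIdeal_eq_map]
    exact AdicCompletion.isAdicComplete_self _ (maximalIdeal A).fg_of_isNoetherianRing
  have : Module.Flat A C := AdicCompletion.flat_of_isNoetherian _
  have : IsLocalHom (algebraMap A C) := by
    refine ((local_hom_TFAE _).out 0 2).mpr ?_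
    rw [AdicCompletion.maximalIdeal_eq_map]
  have : Module.FaithfullyFlat A C := Module.FaithfullyFlat.of_flat_of_isLocalHom
  obtain ⟨n, hp, hn⟩ := exists_prime_over_closedPoint A B C inferInstance
  have hG := hC.tensor A C B
  have := hG.1
  exact ⟨n, hp, hn, inferInstance, hG.2 n⟩

theorem completeFT : CompleteFT.{u} := fun C _ _ _ _ S _ _ _ => Groth.Ega4b.isGRing_of_finiteType_complete C S

/-- An algebra of finite type over a G-ring is a G-ring. -/
theorem isGRing_of_finiteType (R : Type u) [CommRing R] (hR : CAlg.IsGRing R) (S : Type u) [CommRing S]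
    [Algebra R S] [Algebra.FiniteType R S] : CAlg.IsGRing S :=
  completeFT.isGRing_of_finiteType R hR S

end Groth.Ega4Algebra1
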