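import Groth.Prelude.Def_EGA4b
import Groth.Agent.Ega4Algebra1.GRingDescent
import Groth.Agent.Ega4Algebra1.CMTensor
import Groth.Agent.S4705
import Groth.Agent.S4706
import Groth.Agent.S4744
import Groth.Agent.Ega4Algebra2.NormalTensor
import Groth.Agent.VarietyBC.TensorGeom
import Mathlib

/-!
# Formal fibres of algebras essentially of finite type
-/

set_option autoImplicit false

universe u

namespace Groth.Ega4Algebra1

open TensorProduct IsLocalRing

/-- For a property of rings stable under localization: if it holds for every `L ⊗ Â`, `L` a field essentially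
of finite type over `A`, then it holds for the fibres of a local model of `B` with regular completion. -/
theorem exists_model_prop (A : Type u) [CommRing A] [IsLocalRing A] [IsNoetherianRing A]
    (B : Type u) [CommRing B] [IsLocalRing B] [Algebra A B] [Algebra.EssFiniteType A B]
    (P : ∀ (D : Type u) [CommRing D], Prop)
    (hequiv : ∀ (D E : Type u) [CommRing D] [CommRing E], (D ≃+* E) → P D → P E)
    (hloc : ∀ (D E : Type u) [CommRing D] [CommRing E] [Algebra D E] (M : Submonoid D),
      IsLocalization M E → P D → P E)
    (hA : ∀ (p : Ideal A) [p.IsPrime] (L : Type u) [Field L] [Algebra p.ResidueField L],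
      Algebra.EssFiniteType p.ResidueField L → P (L ⊗[p.ResidueField] EGA4.formalFibre A p)) :
    ∃ (A' : Type u) (_ : CommRing A') (_ : IsNoetherianRing A') (_ : IsLocalRing A') (_ : Algebra B A'),
      IsLocalHom (algebraMap B A') ∧ Module.Flat B A' ∧ CAlg.IsRegularHom A' (EGA4.Cpl A') ∧
        ∀ (L : Type u) [Field L] [Algebra B L], Algebra.EssFiniteType B L → P (L ⊗[B] A') := by
  obtain ⟨n, _, hn, hN, hG⟩ := completeFT.exists_model A B
  have : Module.Flat A (EGA4.Cpl A) := AdicCompletion.flat_of_isNoetherian _
  refine ⟨Localization.AtPrime n, inferInstance, hN, inferInstance, inferInstance, isLocalHom_model n hn,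
    flat_model n, hG, fun L _ _ hL => ?_⟩
  let : Algebra A L := ((algebraMap B L).comp (algebraMap A B)).toAlgebra
  have : IsScalarTower A B L := IsScalarTower.of_algebraMap_eq fun _ => rfl
  refine prop_fibre_model n P hequiv hloc L ?_
  let p := RingHom.ker (algebraMap A L)
  have : p.IsPrime := RingHom.ker_isPrime _
  let φ : p.ResidueField →+* L := Ideal.ResidueField.lift p (algebraMap A L) le_rfl fun a ha =>
    isUnit_iff_ne_zero.mpr fun h0 => ha h0
  let : Algebra p.ResidueField L := φ.toAlgebra
  have : IsScalarTower A p.ResidueField L := IsScalarTower.of_algebraMap_eq fun a =>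
    (Ideal.ResidueField.lift_algebraMap p (algebraMap A L) le_rfl _ a).symm
  have : Algebra.EssFiniteType A L := Algebra.EssFiniteType.comp A B L
  exact hequiv _ _ (Algebra.TensorProduct.cancelBaseChange A p.ResidueField p.ResidueField L (EGA4.Cpl A)).toRingEquiv
    (hA p L (Algebra.EssFiniteType.of_comp A _ _))

variable (A : Type u) [CommRing A] [IsNoetherianRing A] [IsLocalRing A]
  (B : Type u) [CommRing B] [IsNoetherianRing B] [IsLocalRing B] [Algebra A B] [Algebra.EssFiniteType A B]

/-- Geometrically reduced formal fibres pass to algebras essentially of finite type. -/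
theorem hasGeomReducedFormalFibres_of_essFiniteType (hA : EGA4.HasGeomReducedFormalFibres A) :
    EGA4.HasGeomReducedFormalFibres B := by
  obtain ⟨A', _, _, _, _, _, _, hA', hfib⟩ := exists_model_prop A B (fun D _ => IsReduced D)
    (fun D E _ _ e h => isReduced_of_injective e.symm e.symm.injective)
    (fun D E _ _ _ M _ h => isReduced_localizationPreserves M E h)
    (fun p _ L _ _ _ => have := hA p; Groth.VarietyBC.isReduced_tensor_comm
      Groth.VarietyBC.isReduced_tensor_of_isGeometricallyReduced)
  refine Groth.Agent.S4705.result B A' (fun q _ => ?_) hA'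
  refine Groth.Agent.S4705.isGeometricallyReduced_of_finite fun L _ _ hL => ?_
  let : Algebra B L := ((algebraMap q.ResidueField L).comp (algebraMap B q.ResidueField)).toAlgebra
  have : IsScalarTower B q.ResidueField L := IsScalarTower.of_algebraMap_eq fun _ => rfl
  have := hfib L (Algebra.EssFiniteType.comp B q.ResidueField L)
  exact isReduced_of_injective
    (Algebra.TensorProduct.cancelBaseChange B q.ResidueField q.ResidueField L A') (AlgEquiv.injective _)

/-- Geometrically normal formal fibres pass to algebras essentially of finite type. -/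
theorem hasGeomNormalFormalFibres_of_essFiniteType (hA : EGA4.HasGeomNormalFormalFibres A) :
    EGA4.HasGeomNormalFormalFibres B := by
  obtain ⟨A', _, _, _, _, _, hflat, hA', hfib⟩ := exists_model_prop A B (fun D _ => EGA4.IsNormalRing D)
    (fun D E _ _ e h => Groth.Ega4b.isNormalRing_of_ringEquiv e h)
    (fun D E _ _ _ M _ h => Groth.Ega4b.isNormalRing_of_isLocalization M E h)
    (fun p _ L _ _ _ => Groth.Ega4b.isNormalRing_of_ringEquiv (Algebra.TensorProduct.comm _ _ L).toRingEquiv
      (Groth.Ega4b.isNormalRing_tensor_field p.ResidueField (EGA4.formalFibre A p) L (hA p)))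
  refine Groth.Agent.S4706.result B A' ⟨hflat, fun q _ L _ _ hL => ?_⟩ hA'
  let : Algebra B L := ((algebraMap q.ResidueField L).comp (algebraMap B q.ResidueField)).toAlgebra
  have : IsScalarTower B q.ResidueField L := IsScalarTower.of_algebraMap_eq fun _ => rfl
  exact Groth.Ega4b.isNormalRing_of_ringEquiv
    (Algebra.TensorProduct.cancelBaseChange B q.ResidueField q.ResidueField L A').toRingEquiv.symm
    (hfib L (Algebra.EssFiniteType.comp B q.ResidueField L))

/-- Cohen–Macaulay formal fibres pass to algebras essentially of finite type. -/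
theorem hasCMFormalFibres_of_essFiniteType (hA : EGA4.HasCMFormalFibres A) :
    EGA4.HasCMFormalFibres B := by
  obtain ⟨A', _, _, _, _, _, _, hA', hfib⟩ := exists_model_prop A B (fun D _ => LocCoh.IsCohenMacaulayRing D)
    (fun D E _ _ e h => Groth.Ega4b.isCohenMacaulayRing_of_ringEquiv e h)
    (fun D E _ _ _ M _ h => isCohenMacaulayRing_of_isLocalization h M E)
    (fun p _ L _ _ _ => isCohenMacaulayRing_tensor_field p.ResidueField L (EGA4.formalFibre A p) (hA p))
  exact Groth.Agent.S4744.result B A' (fun q _ => hfib q.ResidueField inferInstance) hA'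

end Groth.Ega4Algebra1
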