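import Groth.Prelude.Def_EGA4b
import Groth.Agent.Ega4Algebra1.J2
import Groth.Agent.Ega4Algebra1.ExcellentLoc
import Groth.Agent.Ega4Algebra2.GRingComplete
import Mathlib

/-!
# Complete Noetherian local rings are J-2
-/

set_option autoImplicit false

universe u

namespace Groth.Ega4Algebra1

open IsLocalRing Groth.Ega4b Groth.Ega4b.Jac

/-- A complete Noetherian local domain is regular near its generic point. -/
theorem exists_open_regLocus_of_complete_domain (R : Type u) [CommRing R] [IsDomain R] [IsLocalRing R]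
    [IsNoetherianRing R] [IsAdicComplete (maximalIdeal R) R] :
    ∃ U : Set (PrimeSpectrum R), IsOpen U ∧ U.Nonempty ∧ U ⊆ EGA4.regLocus R := by
  obtain ⟨P, _, _, π, h, f, D, hπ, hf, hdet, hht⟩ := exists_jacobian R
  have : IsRegularRing P := isRegularRing_of_isRegularLocalRing P
  obtain ⟨s, hs, hsJ⟩ := exists_mul_mem_span π f D hf hdet hht
  let t := π s * π (Matrix.of fun i j => D i (f j)).det
  refine ⟨PrimeSpectrum.basicOpen t, PrimeSpectrum.isOpen_basicOpen,
    ⟨⟨⊥, Ideal.isPrime_bot⟩, fun h0 => mul_ne_zero hs hdet ((Ideal.mem_bot).mp h0)⟩, fun Q hQ => ?_⟩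
  have := Q.isPrime
  have := isRegularLocalRing_localization_atPrime P (Q.asIdeal.comap π)
  exact isRegularLocalRing_of_jacobian π f D hf hsJ (RingHom.id P) D (fun _ _ => rfl) π hπ
    (Ideal.map_id _).symm Q.asIdeal (fun h0 => hQ (Ideal.mul_mem_right _ _ h0))
    (fun h0 => hQ (Ideal.mul_mem_left _ _ h0))

/-- Complete Noetherian local rings are J-2. -/
theorem isJ2_of_isAdicComplete (A : Type u) [CommRing A] [IsNoetherianRing A] [IsLocalRing A]
    [IsAdicComplete (maximalIdeal A) A] : EGA4.IsJ2 A :=
  (isJ2_iff A).mpr fun A' _ _ _ _ => by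
    obtain ⟨hloc, hc⟩ := exists_isAdicComplete_finite_domain A A'
    have := hloc
    have := hc
    have := IsNoetherianRing.of_finite A A'
    exact exists_open_regLocus_of_complete_domain A'

end Groth.Ega4Algebra1
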