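import Groth.Agent.Ega4Algebra1.PdBasic
import Mathlib.RingTheory.Spectrum.Prime.FreeLocus
import Mathlib.RingTheory.Localization.BaseChange
import Mathlib.RingTheory.Flat.Localization
import Mathlib.RingTheory.Spectrum.Prime.Noetherian

/-!
Openness of the bounded projective dimension loci, and the local criterion.
-/

universe u

open TensorProduct

namespace Groth.Ega4Algebra1

variable {A : Type u} [CommRing A] [IsNoetherianRing A]

theorem pdLT_localizedModule_iff (S : Submonoid A) (M : Type u) [AddCommGroup M] [Module A M] (n : ℕ) :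
    PdLT (Localization S) (LocalizedModule S M) n ↔ PdLT (Localization S) (Localization S ⊗[A] M) n :=
  ⟨fun h => h.of_equiv (LocalizedModule.equivTensorProduct S M),
    fun h => h.of_equiv (LocalizedModule.equivTensorProduct S M).symm⟩

theorem isOpen_pdLT (n : ℕ) (M : Type u) [AddCommGroup M] [Module A M] [Module.Finite A M] :
    IsOpen {p : PrimeSpectrum A | PdLT (Localization.AtPrime p.asIdeal)
      (Localization.AtPrime p.asIdeal ⊗[A] M) (n + 1)} := by
  induction n generalizing M with
  | zero =>
    have : Module.FinitePresentation A M := Module.finitePresentation_of_finite A M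
    convert Module.isOpen_freeLocus (R := A) (M := M) using 1
    ext p
    rw [Set.mem_setOf_eq, PdLT.one_iff, Module.mem_freeLocus_iff_tensor p (Localization.AtPrime p.asIdeal)]
    exact ⟨fun h => Module.free_of_flat_of_isLocalRing, fun h => Module.Projective.of_free⟩
  | succ n ih =>
    obtain ⟨k, f, hf⟩ := exists_surjective_fin A M
    convert ih (LinearMap.ker f) using 1
    ext p
    have : Module.Flat A (Localization.AtPrime p.asIdeal) := IsLocalization.flat _ p.asIdeal.primeCompl
    obtain ⟨e⟩ := exists_equiv_ker_baseChange (Localization.AtPrime p.asIdeal) f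
    rw [Set.mem_setOf_eq, Set.mem_setOf_eq,
      PdLT.ker_iff (f.baseChange (Localization.AtPrime p.asIdeal)) (LinearMap.lTensor_surjective _ hf) n]
    exact ⟨fun h => h.of_equiv e.symm, fun h => h.of_equiv e⟩

theorem pdLT_of_forall_localization (n : ℕ) (M : Type u) [AddCommGroup M] [Module A M] [Module.Finite A M]
    (h : ∀ p : PrimeSpectrum A, PdLT (Localization.AtPrime p.asIdeal)
      (Localization.AtPrime p.asIdeal ⊗[A] M) (n + 1)) : PdLT A M (n + 1) := by
  induction n generalizing M with
  | zero =>
    have : Module.FinitePresentation A M := Module.finitePresentation_of_finite A M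
    rw [PdLT.one_iff]
    refine Module.freeLocus_eq_univ_iff.mp (Set.eq_univ_of_forall fun p => ?_)
    have hp := h p
    rw [PdLT.one_iff] at hp
    rw [Module.mem_freeLocus_iff_tensor p (Localization.AtPrime p.asIdeal)]
    exact Module.free_of_flat_of_isLocalRing
  | succ n ih =>
    obtain ⟨k, f, hf⟩ := exists_surjective_fin A M
    refine (PdLT.ker_iff f hf n).mpr (ih _ fun p => ?_)
    have : Module.Flat A (Localization.AtPrime p.asIdeal) := IsLocalization.flat _ p.asIdeal.primeCompl
    obtain ⟨e⟩ := exists_equiv_ker_baseChange (Localization.AtPrime p.asIdeal) f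
    exact ((PdLT.ker_iff (f.baseChange (Localization.AtPrime p.asIdeal)) (LinearMap.lTensor_surjective _ hf) n).mp
      (h p)).of_equiv e.symm

/-- Pointwise finite projective dimension on all of `Spec A` gives a bound. -/
theorem exists_pdLT_of_forall (M : Type u) [AddCommGroup M] [Module A M] [Module.Finite A M]
    (h : ∀ p : PrimeSpectrum A, ∃ n, PdLT (Localization.AtPrime p.asIdeal)
      (Localization.AtPrime p.asIdeal ⊗[A] M) (n + 1)) : ∃ n, PdLT A M (n + 1) := by
  obtain ⟨s, hs⟩ := CompactSpace.isCompact_univ.elim_finite_subcover _ (fun n => isOpen_pdLT n M)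
    (fun p _ => Set.mem_iUnion.mpr (h p))
  refine ⟨s.sup id, pdLT_of_forall_localization _ M fun p => ?_⟩
  obtain ⟨n, hn, hp⟩ := by simpa only [Set.mem_iUnion, exists_prop] using hs (Set.mem_univ p)
  exact PdLT.mono (Nat.succ_le_succ (Finset.le_sup (f := id) hn)) hp

end Groth.Ega4Algebra1
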