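import Groth.Agent.Calg2.CompleteStructure
import Mathlib

/-!
Separable Noether normalisation of complete local domains with residue field finite over a perfect field.
-/

set_option autoImplicit false

universe u

namespace Groth.Ega4Algebra1

open IsLocalRing MvPowerSeries Groth.SGA7.PS

/-- Quotients by primary ideals of the maximal ideal are finite over `k`. -/
theorem finite_quotient_of_residueField (k D : Type u) [Field k] [CommRing D] [IsLocalRing D] [IsNoetherianRing D]
    [Algebra k D] [Module.Finite k (ResidueField D)] (N : ℕ) :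
    ∀ (M : Type u) [AddCommGroup M] [Module D M] [Module k M] [IsScalarTower k D M] [Module.Finite D M],
      maximalIdeal D ^ N • (⊤ : Submodule D M) = ⊥ → Module.Finite k M := by
  induction N with
  | zero =>
    intro M _ _ _ _ _ h
    rw [pow_zero, Ideal.one_eq_top, Submodule.top_smul] at h
    have := Submodule.subsingleton_iff D |>.mp (subsingleton_of_bot_eq_top h.symm)
    infer_instance
  | succ N ih =>
    intro M _ _ _ _ _ h
    set M' := maximalIdeal D • (⊤ : Submodule D M)
    have h1 : Module.Finite k M' := by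
      refine ih M' ?_
      refine Submodule.map_injective_of_injective M'.injective_subtype ?_
      rw [Submodule.map_smul'', Submodule.map_top, Submodule.range_subtype, Submodule.map_bot, ← Submodule.mul_smul,
        ← pow_succ]
      exact h
    have h2 : Module.Finite k (M ⧸ M') := by
      have : Module.Finite k (D ⧸ maximalIdeal D) := ‹Module.Finite k (ResidueField D)›
      show Module.Finite k (M ⧸ maximalIdeal D • (⊤ : Submodule D M))
      have : IsScalarTower k (D ⧸ maximalIdeal D) (M ⧸ maximalIdeal D • (⊤ : Submodule D M)) :=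
        IsScalarTower.of_algebraMap_smul fun c x => by
          rw [IsScalarTower.algebraMap_apply k D (D ⧸ maximalIdeal D), algebraMap_smul, algebraMap_smul]
      have : Module.Finite (D ⧸ maximalIdeal D) (M ⧸ maximalIdeal D • (⊤ : Submodule D M)) :=
        Module.Finite.of_restrictScalars_finite D _ _
      exact Module.Finite.trans (D ⧸ maximalIdeal D) (M ⧸ maximalIdeal D • (⊤ : Submodule D M))
    have : Module.Finite k (M'.restrictScalars k) := h1
    have : Module.Finite k (M ⧸ M'.restrictScalars k) :=
      Module.Finite.equiv (Submodule.Quotient.restrictScalarsEquiv k M').symm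
    exact Module.Finite.of_submodule_quotient (M'.restrictScalars k)

variable {k D : Type u} [Field k] [CommRing D] [IsDomain D] [IsLocalRing D] [IsNoetherianRing D]
  [IsAdicComplete (maximalIdeal D) D] [Algebra k D] [Module.Finite k (ResidueField D)]

omit [IsDomain D] in
/-- Elements cutting out the maximal ideal give a finite map from power series. -/
theorem finite_evalAdic {d : ℕ} (a : Fin d → D) (ha : ∀ i, a i ∈ maximalIdeal D) {N : ℕ}
    (hN : maximalIdeal D ^ N ≤ Ideal.span (Set.range a)) :
    (Calg6.evalAdic (k := k) (maximalIdeal D) a ha).toRingHom.Finite := by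
  set P := MvPowerSeries (Fin d) k
  set φ := Calg6.evalAdic (k := k) (maximalIdeal D) a ha
  have hX : ∀ i, φ (X i) = a i := fun i => Calg6.evalAdic_X (k := k) (maximalIdeal D) a ha i
  let : Algebra P D := φ.toRingHom.toAlgebra
  have : IsScalarTower k P D := IsScalarTower.of_algebraMap_eq fun c => (φ.commutes c).symm
  have hI : (varIdeal (Fin d) k).map (algebraMap P D) = Ideal.span (Set.range a) := by
    rw [varIdeal, Ideal.map_span, ← Set.range_comp]
    exact congrArg Ideal.span (congrArg Set.range (funext hX))
  have hle : (varIdeal (Fin d) k).map (algebraMap P D) ≤ maximalIdeal D :=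
    hI.le.trans (Ideal.span_le.mpr (by rintro _ ⟨i, rfl⟩; exact ha i))
  have : IsHausdorff ((varIdeal (Fin d) k).map (algebraMap P D)) D :=
    IsHausdorff.of_le_jacobson _ _ (hle.trans (IsLocalRing.jacobson_eq_maximalIdeal ⊥ bot_ne_top).ge)
  have : IsAdicComplete (varIdeal (Fin d) k) P := Calg6.isAdicComplete_varIdeal
  have hk : Module.Finite k (D ⧸ (varIdeal (Fin d) k).map (algebraMap P D)) := by
    refine finite_quotient_of_residueField k D N _ (eq_bot_iff.mpr ?_)
    rw [Submodule.smul_le]
    intro r hr x _
    obtain ⟨x, rfl⟩ := Ideal.Quotient.mk_surjective x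
    rw [Submodule.mem_bot, ← Ideal.Quotient.mk_eq_mk, ← Submodule.Quotient.mk_smul, Submodule.Quotient.mk_eq_zero,
      smul_eq_mul]
    exact Ideal.mul_mem_right _ _ (hI ▸ hN hr)
  have : Module.Finite P (D ⧸ (varIdeal (Fin d) k).map (algebraMap P D)) :=
    Module.Finite.of_restrictScalars_finite k P _
  have hfin : Module.Finite P D := Calg2.CompleteStructure.finite_of_finite_quotient (varIdeal (Fin d) k)
  exact hfin

omit [IsDomain D] in
/-- Parameters give a finite injective map from power series. -/
theorem finite_injective_evalAdic {d : ℕ} (a : Fin d → D) (ha : ∀ i, a i ∈ maximalIdeal D) {N : ℕ}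
    (hN : maximalIdeal D ^ N ≤ Ideal.span (Set.range a)) (hd : (d : WithBot ℕ∞) ≤ ringKrullDim D) :
    Function.Injective (Calg6.evalAdic (k := k) (maximalIdeal D) a ha) ∧
      (Calg6.evalAdic (k := k) (maximalIdeal D) a ha).toRingHom.Finite := by
  have hfin := finite_evalAdic (k := k) a ha hN
  set P := MvPowerSeries (Fin d) k
  set φ := Calg6.evalAdic (k := k) (maximalIdeal D) a ha
  let : Algebra P D := φ.toRingHom.toAlgebra
  have : Module.Finite P D := hfin
  refine ⟨?_, hfin⟩
  rw [RingHom.injective_iff_ker_eq_bot]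
  by_contra hne
  set J := RingHom.ker φ
  obtain ⟨f, hf, hf0⟩ := Submodule.exists_mem_ne_zero_of_ne_bot hne
  let : Algebra (P ⧸ J) D := (RingHom.kerLift φ.toRingHom).toAlgebra
  have : IsScalarTower P (P ⧸ J) D := IsScalarTower.of_algebraMap_eq (R := P) (S := P ⧸ J) (A := D) fun _ => rfl
  have : Module.Finite (P ⧸ J) D := Module.Finite.of_restrictScalars_finite P _ _
  have h1 := (hd.trans (Calg2.CompleteStructure.ringKrullDim_le_of_finite_injective (S := P ⧸ J) (R := D)))
  have h2 := ringKrullDim_quotient_succ_le_of_nonZeroDivisor (mem_nonZeroDivisors_of_ne_zero hf0 : f ∈ nonZeroDivisors P)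
  have h3 : ringKrullDim (P ⧸ J) ≤ ringKrullDim (P ⧸ Ideal.span {f}) :=
    ringKrullDim_le_of_surjective (Ideal.Quotient.factor ((Ideal.span_singleton_le_iff_mem J).mpr hf))
      (Ideal.Quotient.factor_surjective _)
  rw [Calg6.ringKrullDim_mvPowerSeries] at h2
  have h4 : ((d : WithBot ℕ∞) + 1) ≤ (d : WithBot ℕ∞) := (add_le_add (h1.trans h3) le_rfl).trans h2
  have h5 : ((d + 1 : ℕ) : WithBot ℕ∞) ≤ (d : ℕ) := by exact_mod_cast h4
  exact absurd (Nat.cast_le.mp h5) (Nat.not_succ_le_self d)

omit [IsDomain D] [IsLocalRing D] [IsNoetherianRing D] [IsAdicComplete (maximalIdeal D) D]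
  [Algebra k D] [Module.Finite k (ResidueField D)] in
/-- Generators over a subfield containing all `p`-th powers. -/
theorem exists_closure_eq_top {K : Type u} [Field K] (p : ℕ) [Fact p.Prime] [CharP K p] (G : Set K) :
    ∀ (d : ℕ) (S : Subfield K), (∀ x : K, x ^ p ∈ S) → Module.Finite S K → Module.finrank S K ≤ p ^ d →
      Subfield.closure ((S : Set K) ∪ G) = ⊤ → G.Nonempty →
      ∃ y : Fin d → K, (∀ i, y i ∈ G) ∧ Subfield.closure ((S : Set K) ∪ Set.range y) = ⊤ := by
  intro d
  induction d with
  | zero =>
    intro S _ _ hrank _ _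
    refine ⟨Fin.elim0, fun i => i.elim0, ?_⟩
    rw [eq_top_iff]
    intro x _
    refine Subfield.subset_closure (Or.inl ?_)
    rw [pow_zero] at hrank
    have h1 : Module.finrank S K = 1 := le_antisymm hrank Module.finrank_pos
    obtain ⟨c, hc⟩ := (finrank_eq_one_iff_of_nonzero' (1 : K) one_ne_zero).mp h1 x
    rw [← hc]
    simp [Subfield.smul_def]
  | succ d ih =>
    intro S hS hfin hrank hG hne
    by_cases hGS : G ⊆ S
    · refine ⟨fun _ => hne.some, fun _ => hne.some_mem, top_le_iff.mp (hG.ge.trans (Subfield.closure_mono ?_))⟩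
      exact Set.union_subset Set.subset_union_left (hGS.trans Set.subset_union_left)
    obtain ⟨g, hgG, hgS⟩ := Set.not_subset.mp hGS
    set E := IntermediateField.adjoin S ({g} : Set K)
    let s : S := ⟨g ^ p, hS g⟩
    have hirr : Irreducible (Polynomial.X ^ p - Polynomial.C s) := by
      refine X_pow_sub_C_irreducible_of_prime Fact.out fun b hb => hgS ?_
      have h1 : (b : K) ^ p = g ^ p := congrArg Subtype.val hb
      rw [← frobenius_inj K p (show frobenius K p b = frobenius K p g from h1)]
      exact b.2
    have hmin : minpoly S g = Polynomial.X ^ p - Polynomial.C s :=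
      (minpoly.eq_of_irreducible_of_monic hirr (by rw [map_sub, map_pow, Polynomial.aeval_X, Polynomial.aeval_C]; exact sub_self _)
        (Polynomial.monic_X_pow_sub_C s (Fact.out : p.Prime).ne_zero)).symm
    have hdeg : Module.finrank S E = p := by
      rw [IntermediateField.adjoin.finrank (Algebra.IsIntegral.isIntegral g), hmin, Polynomial.natDegree_X_pow_sub_C]
    have hfinE : Module.Finite E.toSubfield K := Module.Finite.of_restrictScalars_finite S E K
    have hrankE : Module.finrank E.toSubfield K ≤ p ^ d := by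
      show Module.finrank E K ≤ _
      have h1 := Module.finrank_mul_finrank S E K
      rw [hdeg] at h1
      exact Nat.le_of_mul_le_mul_left (by rw [h1]; exact hrank.trans (le_of_eq (pow_succ' p d)))
        (Fact.out : p.Prime).pos
    have hSE : (S : Set K) ⊆ E.toSubfield := fun x hx => E.algebraMap_mem ⟨x, hx⟩
    obtain ⟨y, hy, hcl⟩ := ih E.toSubfield (fun x => hSE (hS x)) hfinE hrankE
      (top_le_iff.mp (hG.ge.trans (Subfield.closure_mono (Set.union_subset_union_left _ hSE)))) hne
    refine ⟨Fin.cons g y, fun i => ?_, top_le_iff.mp (hcl.ge.trans (Subfield.closure_le.mpr ?_))⟩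
    · refine Fin.cases ?_ (fun j => ?_) i
      · simpa using hgG
      · simpa using hy j
    · refine Set.union_subset ?_ ?_
      · intro x hx
        have hle : E.toSubfield ≤ Subfield.closure ((S : Set K) ∪ Set.range (Fin.cons g y)) := by
          rw [IntermediateField.adjoin_toSubfield]
          refine Subfield.closure_mono (Set.union_subset ?_ ?_)
          · rintro _ ⟨c, rfl⟩; exact Or.inl c.2
          · rintro _ rfl; exact Or.inr ⟨0, rfl⟩
        exact hle hx
      · rintro _ ⟨j, rfl⟩
        exact Subfield.subset_closure (Or.inr ⟨j.succ, by simp⟩)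

omit [IsDomain D] [IsLocalRing D] [IsNoetherianRing D] [IsAdicComplete (maximalIdeal D) D]
  [Algebra k D] [Module.Finite k (ResidueField D)] in
/-- Power series over a perfect field are spanned by monomials over `p`-th powers. -/
theorem exists_eq_sum_pow_mul (p : ℕ) [Fact p.Prime] [CharP k p] [PerfectRing k p] {d : ℕ}
    (f : MvPowerSeries (Fin d) k) :
    ∃ g : (Fin d → Fin p) → MvPowerSeries (Fin d) k,
      f = ∑ e, monomial (Finsupp.equivFunOnFinite.symm fun i => (e i : ℕ)) 1 * g e ^ p := by
  classical
  have hp : p ≠ 0 := (Fact.out : p.Prime).ne_zero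
  let ε : (Fin d → Fin p) → (Fin d →₀ ℕ) := fun e => Finsupp.equivFunOnFinite.symm fun i => (e i : ℕ)
  let G : (Fin d → Fin p) → MvPowerSeries (Fin d) k := fun e m => (frobeniusEquiv k p).symm (coeff (p • m + ε e) f)
  have hG : ∀ e m, coeff m (G e) = (frobeniusEquiv k p).symm (coeff (p • m + ε e) f) := fun _ _ => rfl
  refine ⟨G, MvPowerSeries.ext fun n => ?_⟩
  clear_value G
  rw [map_sum]
  let e₀ : Fin d → Fin p := fun i => ⟨n i % p, Nat.mod_lt _ (Fact.out : p.Prime).pos⟩
  let m₀ : Fin d →₀ ℕ := Finsupp.equivFunOnFinite.symm fun i => n i / p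
  have hn : p • m₀ + ε e₀ = n := by
    ext i
    simp [ε, e₀, m₀, Nat.div_add_mod]
  rw [Finset.sum_eq_single e₀]
  · rw [coeff_monomial_mul, if_pos (by rw [← hn]; exact le_add_self), one_mul,
      show n - Finsupp.equivFunOnFinite.symm (fun i => (e₀ i : ℕ)) = p • m₀ by
        conv_lhs => rw [← hn]
        exact add_tsub_cancel_right _ _,
      ← map_frobenius_expand p hp, coeff_map, coeff_expand_smul, hG, frobenius_apply_frobeniusEquiv_symm, hn]
  · intro e _ he
    rw [coeff_monomial_mul]
    split_ifs with hle
    · obtain ⟨i, hi⟩ : ∃ i, e i ≠ e₀ i := Function.ne_iff.mp he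
      rw [one_mul, ← map_frobenius_expand p hp, coeff_map, coeff_expand_of_not_dvd p hp (i := i), map_zero]
      intro hdvd
      apply hi
      ext
      have hle' : (e i : ℕ) ≤ n i := by simpa using hle i
      have h2 : p ∣ n i - (e i : ℕ) := by simpa using hdvd
      show (e i : ℕ) = n i % p
      obtain ⟨c, hc⟩ := h2
      rw [show n i = (e i : ℕ) + p * c by omega, Nat.add_mul_mod_self_left, Nat.mod_eq_of_lt (e i).2]
    · rfl
  · intro h; exact absurd (Finset.mem_univ _) h

set_option maxHeartbeats 800000 in
omit [IsNoetherianRing D] [IsAdicComplete (maximalIdeal D) D] [Module.Finite k (ResidueField D)] in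
/-- The degree of the field over its `p`-th powers. -/
theorem finrank_frobenius_le (p : ℕ) [Fact p.Prime] [CharP k p] [PerfectRing k p] {d : ℕ}
    (φ : MvPowerSeries (Fin d) k →ₐ[k] D) (hinj : Function.Injective φ) (hfin : φ.toRingHom.Finite)
    [CharP (FractionRing D) p] :
    Module.Finite (frobenius (FractionRing D) p).fieldRange (FractionRing D) ∧
      Module.finrank (frobenius (FractionRing D) p).fieldRange (FractionRing D) ≤ p ^ d := by
  classical
  set P := MvPowerSeries (Fin d) k
  set F := FractionRing P
  set K := FractionRing D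
  let : Algebra P D := φ.toRingHom.toAlgebra
  have hfin' : Module.Finite P D := hfin
  have hPK : Function.Injective (algebraMap P K) := by
    rw [IsScalarTower.algebraMap_eq P D K]
    exact (IsFractionRing.injective D K).comp hinj
  have : FaithfulSMul P K := (faithfulSMul_iff_algebraMap_injective P K).mpr hPK
  let : Algebra F K := FractionRing.liftAlgebra P K
  have : CharP F p := (RingHom.charP_iff (algebraMap F K) (algebraMap F K).injective p).mpr inferInstance
  have hFK : Module.Finite F K := by
    obtain ⟨m, b, hb⟩ := Module.Finite.exists_fin (R := P) (M := D)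
    set E := IntermediateField.adjoin F (Set.range fun i => algebraMap D K (b i))
    have hint : ∀ x : D, IsIntegral F (algebraMap D K x) := fun x =>
      ((Algebra.IsIntegral.isIntegral (R := P) x).map (IsScalarTower.toAlgHom P D K)).tower_top
    have : FiniteDimensional F E := IntermediateField.finiteDimensional_adjoin fun x hx => by
      obtain ⟨i, rfl⟩ := hx
      exact hint (b i)
    have hD : ∀ x : D, algebraMap D K x ∈ E := fun x => by
      have hx : x ∈ Submodule.span P (Set.range b) := hb ▸ Submodule.mem_top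
      induction hx using Submodule.span_induction with
      | mem y hy => obtain ⟨i, rfl⟩ := hy; exact IntermediateField.subset_adjoin _ _ ⟨i, rfl⟩
      | zero => rw [map_zero]; exact zero_mem E
      | add y z _ _ hy hz => rw [map_add]; exact add_mem hy hz
      | smul c y _ hy =>
        rw [Algebra.smul_def, map_mul, ← IsScalarTower.algebraMap_apply P D K, IsScalarTower.algebraMap_apply P F K]
        exact mul_mem (E.algebraMap_mem _) hy
    have htop : E = ⊤ := by
      rw [eq_top_iff]
      intro z _
      obtain ⟨a, c, -, rfl⟩ := IsFractionRing.div_surjective (A := D) z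
      exact div_mem (hD a) (hD c)
    exact Module.Finite.equiv ((IntermediateField.equivOfEq htop).trans IntermediateField.topEquiv).toLinearEquiv
  set α : F →+* K := (algebraMap F K).comp (frobenius F p)
  set S0 := α.fieldRange
  set S := (frobenius K p).fieldRange
  have hS0S : S0 ≤ S := by
    rintro _ ⟨c, rfl⟩
    exact ⟨algebraMap F K c, by simp [α, frobenius_def]⟩
  set S' := Subfield.extendScalars hS0S
  -- the same degree
  let i : F ≃+* S0 := RingEquiv.ofBijective α.rangeRestrictField
    ⟨α.rangeRestrictField.injective, fun ⟨y, x, hx⟩ => ⟨x, Subtype.ext hx⟩⟩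
  let j : K ≃+* S' := RingEquiv.ofBijective ((frobenius K p).codRestrict S' fun x => ⟨x, rfl⟩)
    ⟨RingHom.injective _, fun ⟨y, x, hx⟩ => ⟨x, Subtype.ext hx⟩⟩
  have hdeg : Module.finrank F K = Module.finrank S0 S' :=
    Algebra.finrank_eq_of_equiv_equiv i j (RingHom.ext fun c => Subtype.ext (by
      show α c = frobenius K p (algebraMap F K c)
      simp [α, frobenius_def]))
  -- spanning over the powers of the base
  set b := Module.finBasis F K
  let v : (Fin d → Fin p) × Fin (Module.finrank F K) → K := fun ej =>
    algebraMap P K (monomial (Finsupp.equivFunOnFinite.symm fun i => (ej.1 i : ℕ)) 1) * b ej.2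
  have hspan : Submodule.span S0 (Set.range v) = ⊤ := by
    rw [eq_top_iff]
    intro x _
    rw [← b.sum_repr x]
    refine Submodule.sum_mem _ fun l _ => ?_
    obtain ⟨a, c, hc, hac⟩ := IsFractionRing.div_surjective (A := P) (b.repr x l)
    obtain ⟨g, hg⟩ := exists_eq_sum_pow_mul p (a * c ^ (p - 1))
    have hc0 : algebraMap P F c ≠ 0 := IsFractionRing.to_map_ne_zero_of_mem_nonZeroDivisors hc
    have hrepr : b.repr x l =
        ∑ e, algebraMap P F (monomial (Finsupp.equivFunOnFinite.symm fun i => (e i : ℕ)) 1) *
          (algebraMap P F (g e) / algebraMap P F c) ^ p := by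
      simp only [div_pow, ← mul_div_assoc, ← map_pow, ← map_mul, ← Finset.sum_div, ← map_sum, ← hg]
      rw [← hac, map_mul, div_eq_div_iff hc0 (by rw [map_pow]; exact pow_ne_zero _ hc0), map_pow, map_pow, mul_assoc,
        ← pow_succ, Nat.sub_add_cancel (Fact.out : p.Prime).pos]
    rw [hrepr, Finset.sum_smul]
    refine Submodule.sum_mem _ fun e _ => ?_
    have : (algebraMap P F (monomial (Finsupp.equivFunOnFinite.symm fun i => (e i : ℕ)) 1) *
        (algebraMap P F (g e) / algebraMap P F c) ^ p) • b l = (i (algebraMap P F (g e) / algebraMap P F c)) • v (e, l) := by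
      rw [Subfield.smul_def, Algebra.smul_def, map_mul, ← IsScalarTower.algebraMap_apply P F K]
      show _ = α _ * (_ * _)
      simp only [α, RingHom.comp_apply, frobenius_def, map_pow]
      ring
    rw [this]
    exact Submodule.smul_mem _ _ (Submodule.subset_span ⟨(e, l), rfl⟩)
  have hfin0 : Module.Finite S0 K := ⟨⟨Finset.univ.image v, by simpa using hspan⟩⟩
  have hle : Module.finrank S0 K ≤ p ^ d * Module.finrank F K := by
    have h1 : Set.finrank S0 (Set.range v) ≤ Fintype.card ((Fin d → Fin p) × Fin (Module.finrank F K)) :=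
      finrank_range_le_card v
    rw [Set.finrank, hspan, finrank_top] at h1
    simpa using h1
  refine ⟨Module.Finite.of_restrictScalars_finite S0 S' K, ?_⟩
  show Module.finrank S' K ≤ _
  have h2 := Module.finrank_mul_finrank S0 S' K
  rw [← hdeg] at h2
  refine Nat.le_of_mul_le_mul_left (?_ : Module.finrank F K * _ ≤ Module.finrank F K * p ^ d) Module.finrank_pos
  rw [h2, mul_comm (Module.finrank F K)]
  exact hle

/-- Separable Noether normalisation. -/
theorem exists_separable_normalization [PerfectField k] :
    ∃ (d : ℕ) (φ : MvPowerSeries (Fin d) k →ₐ[k] D), Function.Injective φ ∧ φ.toRingHom.Finite ∧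
      (∀ i, φ (X i) ∈ maximalIdeal D) ∧
      ∀ p : ℕ, p.Prime → CharP k p →
        Subfield.closure (Set.range (fun x : FractionRing D => x ^ p) ∪
          Set.range (fun f => algebraMap D (FractionRing D) (φ f))) = ⊤ := by
  classical
  obtain ⟨d, x, hd, hx, N, hN⟩ := Calg2.CompleteStructure.exists_parameters D
  obtain ⟨hinj, hfin⟩ := finite_injective_evalAdic (k := k) x hx hN hd
  obtain ⟨p, hp⟩ := CharP.exists k
  rcases CharP.char_is_prime_or_zero k p with hprime | rfl
  swap
  · refine ⟨d, Calg6.evalAdic (k := k) (maximalIdeal D) x hx, hinj, hfin,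
      fun i => by rw [Calg6.evalAdic_X]; exact hx i, fun q hq hq' => ?_⟩
    exact absurd (CharP.eq k hq' hp) hq.ne_zero
  have := Fact.mk hprime
  set φ₀ := Calg6.evalAdic (k := k) (maximalIdeal D) x hx
  set K := FractionRing D
  have : ExpChar k p := ExpChar.prime hprime
  have : PerfectRing k p := PerfectField.toPerfectRing p
  have : CharP D p := charP_of_injective_algebraMap (algebraMap k D).injective p
  have : CharP K p := charP_of_injective_algebraMap (IsFractionRing.injective D K) p
  obtain ⟨hfinS, hrank⟩ := finrank_frobenius_le p φ₀ hinj hfin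
  obtain ⟨y, hyG, hy⟩ := exists_closure_eq_top p (Set.range (algebraMap D K)) d (frobenius K p).fieldRange
    (fun z => ⟨z, rfl⟩) hfinS hrank (top_le_iff.mp fun z _ => by
      obtain ⟨a, c, -, rfl⟩ := IsFractionRing.div_surjective (A := D) z
      exact div_mem (Subfield.subset_closure (Or.inr ⟨a, rfl⟩)) (Subfield.subset_closure (Or.inr ⟨c, rfl⟩)))
    ⟨_, 0, rfl⟩
  choose w hw using hyG
  have hx0 : ∀ i, x i ≠ 0 := fun i h => by
    have h1 : φ₀ (X i) = 0 := by rw [Calg6.evalAdic_X]; exact h
    rw [map_eq_zero_iff φ₀ hinj] at h1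
    have h2 := congrArg (coeff (Finsupp.single i 1)) h1
    rw [coeff_X, if_pos rfl, map_zero] at h2
    exact one_ne_zero h2
  let z : Fin d → D := fun i => x i ^ p * (1 + x i ^ p * w i)
  have hz : ∀ i, z i ∈ maximalIdeal D := fun i => Ideal.mul_mem_right _ _ (Ideal.pow_mem_of_mem _ (hx i) p hprime.pos)
  have hrad : Ideal.span (Set.range x) ≤ (Ideal.span (Set.range z)).radical := Ideal.span_le.mpr (by
    rintro _ ⟨i, rfl⟩
    refine ⟨p, ?_⟩
    have hu : IsUnit (1 + x i ^ p * w i) := by
      rw [← notMem_maximalIdeal]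
      intro hmem
      exact (maximalIdeal.isMaximal D).ne_top ((Ideal.eq_top_iff_one _).mpr (by
        simpa using sub_mem hmem (Ideal.mul_mem_right (w i) _ (Ideal.pow_mem_of_mem _ (hx i) p hprime.pos))))
    exact (Ideal.mul_unit_mem_iff_mem _ hu).mp (Ideal.subset_span ⟨i, rfl⟩))
  obtain ⟨N', hN'⟩ := Ideal.exists_pow_le_of_le_radical_of_fg hrad (IsNoetherian.noetherian _)
  have hNN : maximalIdeal D ^ (N * N') ≤ Ideal.span (Set.range z) := by
    rw [pow_mul]; exact (Ideal.pow_right_mono hN _).trans hN'
  obtain ⟨hinj', hfin'⟩ := finite_injective_evalAdic (k := k) z hz hNN hd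
  set φ := Calg6.evalAdic (k := k) (maximalIdeal D) z hz
  refine ⟨d, φ, hinj', hfin', fun i => by rw [Calg6.evalAdic_X]; exact hz i, fun q _ hq' => ?_⟩
  obtain rfl : q = p := CharP.eq k hq' hp
  rw [← top_le_iff, ← hy, Subfield.closure_le]
  set T := Subfield.closure (Set.range (fun x : K => x ^ q) ∪ Set.range (fun f => algebraMap D K (φ f)))
  refine Set.union_subset ?_ ?_
  · rintro _ ⟨c, rfl⟩; exact Subfield.subset_closure (Or.inl ⟨c, rfl⟩)
  · rintro _ ⟨i, rfl⟩
    have h1 : algebraMap D K (x i) ^ q ∈ T := Subfield.subset_closure (Or.inl ⟨_, rfl⟩)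
    have h2 : algebraMap D K (z i) ∈ T :=
      Subfield.subset_closure (Or.inr ⟨X i, by show algebraMap D K (φ (X i)) = _; rw [Calg6.evalAdic_X]⟩)
    have hne : algebraMap D K (x i) ^ q ≠ 0 :=
      pow_ne_zero _ ((map_ne_zero_iff _ (IsFractionRing.injective D K)).mpr (hx0 i))
    have h3 : y i = (algebraMap D K (z i) - algebraMap D K (x i) ^ q) / (algebraMap D K (x i) ^ q * algebraMap D K (x i) ^ q) := by
      rw [eq_div_iff (mul_ne_zero hne hne), ← hw i]
      simp only [z, map_mul, map_pow, map_add, map_one]
      ring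
    rw [h3]
    exact div_mem (sub_mem h2 h1) (mul_mem h1 h1)

end Groth.Ega4Algebra1
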