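import Groth.Agent.Ega4Algebra1.FormallyEquidim
import Mathlib

/-!
Local rings of finite type over a formally equidimensional local domain are formally equidimensional.
-/

set_option autoImplicit false

universe u

namespace Groth.Ega4Algebra1

open IsLocalRing TensorProduct

attribute [local instance] MvPolynomial.algebraMvPolynomial

/-- Flatness of polynomial rings along a flat algebra. -/
theorem flat_mvPolynomial (A C : Type u) [CommRing A] [CommRing C] [Algebra A C] [Module.Flat A C] (n : ℕ) :
    Module.Flat (MvPolynomial (Fin n) A) (MvPolynomial (Fin n) C) :=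
  Module.Flat.of_linearEquiv
    (Algebra.IsPushout.equiv A (MvPolynomial (Fin n) A) C (MvPolynomial (Fin n) C)).toLinearEquiv.symm

theorem faithfullyFlat_mvPolynomial (A C : Type u) [CommRing A] [CommRing C] [Algebra A C]
    [Module.FaithfullyFlat A C] (n : ℕ) :
    Module.FaithfullyFlat (MvPolynomial (Fin n) A) (MvPolynomial (Fin n) C) :=
  Module.FaithfullyFlat.of_linearEquiv _ _
    (Algebra.IsPushout.equiv A (MvPolynomial (Fin n) A) C (MvPolynomial (Fin n) C)).toLinearEquiv.symm

/-- Flatness passes to quotients by extended ideals. -/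
theorem flat_quotient_map {R S : Type u} [CommRing R] [CommRing S] [Algebra R S] [Module.Flat R S] (I : Ideal R)
    [Algebra (R ⧸ I) (S ⧸ I.map (algebraMap R S))] [IsScalarTower R (R ⧸ I) (S ⧸ I.map (algebraMap R S))] :
    Module.Flat (R ⧸ I) (S ⧸ I.map (algebraMap R S)) := by
  let e : ((R ⧸ I) ⊗[R] S) ≃ₗ[R] (S ⧸ I.map (algebraMap R S)) :=
    (TensorProduct.comm R (R ⧸ I) S).trans
      (((Algebra.TensorProduct.quotIdealMapEquivTensorQuot S I).symm.toLinearEquiv).restrictScalars R)
  let f := e.toLinearMap.extendScalarsOfSurjective (S := R ⧸ I) Ideal.Quotient.mk_surjective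
  exact Module.Flat.of_linearEquiv (LinearEquiv.ofBijective f e.bijective).symm

/-- Descent of formal equidimensionality to quotients. -/
theorem isFormallyEquidim_quotient_of_flat_local {R S : Type u} [CommRing R] [CommRing S] [IsLocalRing R]
    [IsLocalRing S] [IsNoetherianRing R] [IsNoetherianRing S] [Algebra R S] [Module.Flat R S]
    [IsLocalHom (algebraMap R S)] (I : Ideal R) [IsLocalRing (R ⧸ I)]
    [IsLocalRing (S ⧸ I.map (algebraMap R S))] (h : EGA4.IsFormallyEquidim (S ⧸ I.map (algebraMap R S))) :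
    EGA4.IsFormallyEquidim (R ⧸ I) := by
  have : Module.Flat (R ⧸ I) (S ⧸ I.map (algebraMap R S)) := flat_quotient_map I
  have : IsLocalHom (algebraMap (R ⧸ I) (S ⧸ I.map (algebraMap R S))) := by
    refine ((IsLocalRing.local_hom_TFAE (algebraMap (R ⧸ I) (S ⧸ I.map (algebraMap R S)))).out 0 2).mpr ?_
    rw [← map_maximalIdeal_of_surjective (Ideal.Quotient.mk I) Ideal.Quotient.mk_surjective,
      ← map_maximalIdeal_of_surjective (Ideal.Quotient.mk (I.map (algebraMap R S))) Ideal.Quotient.mk_surjective,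
      Ideal.map_map,
      show (algebraMap (R ⧸ I) (S ⧸ I.map (algebraMap R S))).comp (Ideal.Quotient.mk I) =
        (Ideal.Quotient.mk (I.map (algebraMap R S))).comp (algebraMap R S) from RingHom.ext fun _ => rfl,
      ← Ideal.map_map]
    exact Ideal.map_mono (((IsLocalRing.local_hom_TFAE (algebraMap R S)).out 0 2).mp ‹IsLocalHom (algebraMap R S)›)
  exact isFormallyEquidim_of_flat_local (R ⧸ I) (S ⧸ I.map (algebraMap R S)) h

section Components

variable (A C : Type u) [CommRing A] [IsDomain A] [CommRing C] [Algebra A C] [Module.Flat A C] (n : ℕ)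
  (P : Ideal (MvPolynomial (Fin n) A)) [P.IsPrime]

set_option maxHeartbeats 1000000 in
set_option synthInstance.maxHeartbeats 200000 in
/-- Components of `P C[X]` lie over minimal primes of `C`. -/
theorem comap_C_mem_minimalPrimes (hPA : ∀ a : A, MvPolynomial.C a ∈ P → a = 0)
    {Q : Ideal (MvPolynomial (Fin n) C)}
    (hQ : Q ∈ (P.map (algebraMap (MvPolynomial (Fin n) A) (MvPolynomial (Fin n) C))).minimalPrimes) :
    Q.comap MvPolynomial.C ∈ minimalPrimes C := by
  classical
  have := hQ.1.1
  have := flat_mvPolynomial A C n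
  set F := MvPolynomial (Fin n) A
  set E := MvPolynomial (Fin n) C
  have hQP : Q.under F = P := under_eq_of_mem_minimalPrimes_map hQ
  set L := FractionRing (F ⧸ P)
  have hAF : Function.Injective (algebraMap A (F ⧸ P)) := fun a b h => by
    rw [← sub_eq_zero]
    refine hPA _ (Ideal.Quotient.eq_zero_iff_mem.mp ?_)
    have h' : Ideal.Quotient.mk P (MvPolynomial.C a) = Ideal.Quotient.mk P (MvPolynomial.C b) := h
    rw [map_sub, map_sub, h', sub_self]
  have hAL : Function.Injective (algebraMap A L) := by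
    rw [IsScalarTower.algebraMap_eq A (F ⧸ P) L]
    exact (IsFractionRing.injective (F ⧸ P) L).comp hAF
  have : FaithfulSMul A L := (faithfulSMul_iff_algebraMap_injective A L).mpr hAL
  let : Algebra (FractionRing A) L := FractionRing.liftAlgebra A L
  have : Module.Flat A (FractionRing A) := IsLocalization.flat (FractionRing A) (nonZeroDivisors A)
  have : Module.Flat A L := Module.Flat.trans A (FractionRing A) L
  set T := C ⊗[A] L
  have : Module.Flat C T := inferInstance
  let x : Fin n → T := fun i => 1 ⊗ₜ algebraMap (F ⧸ P) L (Ideal.Quotient.mk P (MvPolynomial.X i))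
  let ψ : E →ₐ[C] T := MvPolynomial.aeval x
  have hψ : ∀ f : F, ψ (algebraMap F E f) = (1 : C) ⊗ₜ algebraMap (F ⧸ P) L (Ideal.Quotient.mk P f) := by
    intro f
    induction f using MvPolynomial.induction_on with
    | C a =>
      rw [show algebraMap F E (MvPolynomial.C a) = MvPolynomial.C (algebraMap A C a) from MvPolynomial.map_C _ _,
        MvPolynomial.aeval_C, Algebra.TensorProduct.algebraMap_apply, Algebra.algebraMap_self, RingHom.id_apply,
        show algebraMap (F ⧸ P) L (Ideal.Quotient.mk P (MvPolynomial.C a)) = algebraMap A L a from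
          (IsScalarTower.algebraMap_apply A (F ⧸ P) L a).symm,
        Algebra.algebraMap_eq_smul_one (A := C), Algebra.algebraMap_eq_smul_one (A := L), TensorProduct.smul_tmul]
    | add f g hf hg => rw [map_add, map_add, hf, hg, map_add, map_add, TensorProduct.tmul_add]
    | mul_X f i hf =>
      rw [map_mul, map_mul, hf, show algebraMap F E (MvPolynomial.X i) = MvPolynomial.X i from MvPolynomial.map_X _ i,
        MvPolynomial.aeval_X, Algebra.TensorProduct.tmul_mul_tmul, mul_one, map_mul, map_mul]
  set κ := FractionRing (E ⧸ Q)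
  have : IsDomain (E ⧸ Q) := inferInstance
  have hle : P ≤ Q.comap (algebraMap F E) := hQP.ge
  let j₀ : (F ⧸ P) →ₐ[A] κ :=
    { (algebraMap (E ⧸ Q) κ).comp (Ideal.quotientMap Q (algebraMap F E) hle) with
      commutes' := fun a => by
        show algebraMap (E ⧸ Q) κ (Ideal.Quotient.mk Q (algebraMap F E (MvPolynomial.C a))) = algebraMap A κ a
        rw [show algebraMap F E (MvPolynomial.C a) = algebraMap A E a by
          rw [IsScalarTower.algebraMap_apply A C E]; exact MvPolynomial.map_C _ _]
        rfl }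
  have hj₀ : Function.Injective j₀ := (IsFractionRing.injective (E ⧸ Q) κ).comp
    (Ideal.quotientMap_injective' (H := hle) hQP.le)
  let j : L →ₐ[A] κ := IsFractionRing.liftAlgHom (g := j₀) hj₀
  let Φ : T →ₐ[C] κ := Algebra.TensorProduct.lift (Algebra.ofId C κ) j fun _ _ => Commute.all _ _
  have hΦ : Φ.comp ψ = (IsScalarTower.toAlgHom C (E ⧸ Q) κ).comp (Ideal.Quotient.mkₐ C Q) := by
    refine MvPolynomial.algHom_ext fun i => ?_
    show Φ (ψ (MvPolynomial.X i)) = algebraMap (E ⧸ Q) κ (Ideal.Quotient.mk Q (MvPolynomial.X i))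
    rw [MvPolynomial.aeval_X, Algebra.TensorProduct.lift_tmul, map_one, one_mul]
    refine (IsFractionRing.lift_algebraMap hj₀ _).trans ?_
    show algebraMap (E ⧸ Q) κ (Ideal.Quotient.mk Q (algebraMap F E (MvPolynomial.X i))) = _
    rw [show algebraMap F E (MvPolynomial.X i) = MvPolynomial.X i from MvPolynomial.map_X _ i]
  set 𝔓 := RingHom.ker Φ.toRingHom
  have : 𝔓.IsPrime := RingHom.ker_isPrime _
  have h𝔓 : 𝔓.comap ψ.toRingHom = Q := by
    ext e
    rw [Ideal.mem_comap, RingHom.mem_ker]
    show Φ (ψ e) = 0 ↔ _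
    rw [show Φ (ψ e) = algebraMap (E ⧸ Q) κ (Ideal.Quotient.mk Q e) from AlgHom.congr_fun hΦ e,
      map_eq_zero_iff _ (IsFractionRing.injective (E ⧸ Q) κ), Ideal.Quotient.eq_zero_iff_mem]
  have hunder : ∀ I : Ideal T, (I.comap ψ.toRingHom).comap MvPolynomial.C = I.under C := fun I => by
    ext c
    show ψ (MvPolynomial.C c) ∈ I ↔ algebraMap C T c ∈ I
    rw [MvPolynomial.aeval_C]
  refine ⟨⟨inferInstance, bot_le⟩, fun q₁ hq₁ hq₁le => ?_⟩
  have := hq₁.1
  have hover : 𝔓.LiesOver (Q.comap MvPolynomial.C) := ⟨by rw [← hunder, h𝔓]⟩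
  obtain ⟨𝔓₁, h₁, h₁p, h₁o⟩ := Ideal.exists_ideal_le_liesOver_of_le (R := C) (S := T) (p := q₁)
    (q := Q.comap MvPolynomial.C) 𝔓 hq₁le
  have := h₁p
  have hle₁ : P.map (algebraMap F E) ≤ 𝔓₁.comap ψ.toRingHom := by
    rw [Ideal.map_le_iff_le_comap]
    intro f hf
    show ψ (algebraMap F E f) ∈ 𝔓₁
    rw [hψ, Ideal.Quotient.eq_zero_iff_mem.mpr hf, map_zero, TensorProduct.tmul_zero]
    exact zero_mem _
  have h2 : Q ≤ 𝔓₁.comap ψ.toRingHom := hQ.2 ⟨inferInstance, hle₁⟩ ((Ideal.comap_mono h₁).trans h𝔓.le)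
  calc Q.comap MvPolynomial.C ≤ (𝔓₁.comap ψ.toRingHom).comap MvPolynomial.C := Ideal.comap_mono h2
    _ = 𝔓₁.under C := hunder _
    _ ≤ q₁ := h₁o.over.ge

end Components

set_option maxHeartbeats 1000000 in
set_option synthInstance.maxHeartbeats 200000 in
/-- The height over the minimal prime of a component of `P C[X]` is the height of `P`. -/
theorem height_map_component (A C : Type u) [CommRing A] [IsDomain A] [IsNoetherianRing A] [CommRing C]
    [IsDomain C] [IsNoetherianRing C] [Algebra A C] (hinj : Function.Injective (algebraMap A C)) (n : ℕ)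
    (P : Ideal (MvPolynomial (Fin n) A)) [P.IsPrime] (hPA : ∀ a : A, MvPolynomial.C a ∈ P → a = 0)
    {Q : Ideal (MvPolynomial (Fin n) C)}
    (hQ : Q ∈ (P.map (algebraMap (MvPolynomial (Fin n) A) (MvPolynomial (Fin n) C))).minimalPrimes)
    (hQC : ∀ c : C, MvPolynomial.C c ∈ Q → c = 0) :
    Q.height = P.height := by
  have := hQ.1.1
  set K := FractionRing A
  set K' := FractionRing C
  have : FaithfulSMul A K' := (faithfulSMul_iff_algebraMap_injective A K').mpr (by
    rw [IsScalarTower.algebraMap_eq A C K']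
    exact (IsFractionRing.injective C K').comp hinj)
  let : Algebra K K' := FractionRing.liftAlgebra A K'
  set F := MvPolynomial (Fin n) A
  set E := MvPolynomial (Fin n) C
  set FK := MvPolynomial (Fin n) K
  set EK := MvPolynomial (Fin n) K'
  have := flat_mvPolynomial K K' n
  have : IsLocalization ((nonZeroDivisors A).map (MvPolynomial.C (σ := Fin n))) FK := inferInstance
  have : IsLocalization ((nonZeroDivisors C).map (MvPolynomial.C (σ := Fin n))) EK := inferInstance
  have hdisP : Disjoint (((nonZeroDivisors A).map (MvPolynomial.C (σ := Fin n))) : Set F) (P : Set F) :=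
    Set.disjoint_left.mpr fun x ⟨a, ha, hax⟩ hx => nonZeroDivisors.ne_zero ha (hPA a (hax ▸ hx))
  have hdisQ : Disjoint (((nonZeroDivisors C).map (MvPolynomial.C (σ := Fin n))) : Set E) (Q : Set E) :=
    Set.disjoint_left.mpr fun x ⟨a, ha, hax⟩ hx => nonZeroDivisors.ne_zero ha (hQC a (hax ▸ hx))
  set PK := P.map (algebraMap F FK)
  set QK := Q.map (algebraMap E EK)
  have : PK.IsPrime := IsLocalization.isPrime_of_isPrime_disjoint _ FK P inferInstance hdisP
  have : QK.IsPrime := IsLocalization.isPrime_of_isPrime_disjoint _ EK Q inferInstance hdisQ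
  rw [show Q.height = QK.height from (IsLocalization.height_map_of_disjoint _ Q hdisQ).symm,
    show P.height = PK.height from (IsLocalization.height_map_of_disjoint _ P hdisP).symm]
  have hcomm : (algebraMap FK EK).comp (algebraMap F FK) = (algebraMap E EK).comp (algebraMap F E) := by
    refine MvPolynomial.ringHom_ext (fun a => ?_) fun i => ?_
    · show MvPolynomial.map (algebraMap K K') (MvPolynomial.map (algebraMap A K) (MvPolynomial.C a)) =
        MvPolynomial.map (algebraMap C K') (MvPolynomial.map (algebraMap A C) (MvPolynomial.C a))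
      simp only [MvPolynomial.map_C]
      rw [← IsScalarTower.algebraMap_apply A K K', ← IsScalarTower.algebraMap_apply A C K']
    · show MvPolynomial.map (algebraMap K K') (MvPolynomial.map (algebraMap A K) (MvPolynomial.X i)) =
        MvPolynomial.map (algebraMap C K') (MvPolynomial.map (algebraMap A C) (MvPolynomial.X i))
      simp only [MvPolynomial.map_X]
  refine height_eq_of_mem_minimalPrimes_map ⟨⟨inferInstance, ?_⟩, fun Z hZ hle => ?_⟩
  · rw [Ideal.map_map, hcomm, ← Ideal.map_map]
    exact Ideal.map_mono hQ.1.2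
  · have := hZ.1
    have hQu : QK.under E = Q := IsLocalization.under_map_of_isPrime_disjoint _ EK inferInstance hdisQ
    have h1 : P.map (algebraMap F E) ≤ Z.under E := by
      rw [Ideal.map_le_iff_le_comap]
      intro f hf
      show algebraMap E EK (algebraMap F E f) ∈ Z
      rw [← RingHom.comp_apply, ← hcomm]
      exact hZ.2 (Ideal.mem_map_of_mem _ (Ideal.mem_map_of_mem _ hf))
    have h2 : Q ≤ Z.under E := hQ.2 ⟨inferInstance, h1⟩ ((Ideal.comap_mono hle).trans hQu.le)
    exact Ideal.map_le_iff_le_comap.mpr h2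

set_option maxHeartbeats 1000000 in
set_option synthInstance.maxHeartbeats 200000 in
/-- Local rings of finitely generated domains over a formally equidimensional local domain are formally
equidimensional. -/
theorem isFormallyEquidim_polynomial (A : Type u) [CommRing A] [IsDomain A] [IsLocalRing A] [IsNoetherianRing A]
    (hA : EGA4.IsFormallyEquidim A) (n : ℕ) (P N : Ideal (MvPolynomial (Fin n) A)) [P.IsPrime] [N.IsPrime]
    (hPN : P ≤ N) (hPA : ∀ a : A, MvPolynomial.C a ∈ P → a = 0)
    [IsLocalRing (Localization.AtPrime N ⧸ P.map (algebraMap (MvPolynomial (Fin n) A) (Localization.AtPrime N)))] :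
    EGA4.IsFormallyEquidim
      (Localization.AtPrime N ⧸ P.map (algebraMap (MvPolynomial (Fin n) A) (Localization.AtPrime N))) := by
  classical
  set C := AdicCompletion (maximalIdeal A) A
  have : IsNoetherianRing C := Groth.Ega4b.isNoetherianRing_cpl A
  have : IsAdicComplete (maximalIdeal C) C := isLocalRing_cpl_complete A
  have : Module.Flat A C := AdicCompletion.flat_of_isNoetherian _
  have : IsLocalHom (algebraMap A C) := AdicCompletion.algebraMap_isLocalHom_of_fg (maximalIdeal A).fg_of_isNoetherianRing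
  have : Module.FaithfullyFlat A C := Module.FaithfullyFlat.of_flat_of_isLocalHom
  set F := MvPolynomial (Fin n) A
  set E := MvPolynomial (Fin n) C
  have := flat_mvPolynomial A C n
  have := faithfullyFlat_mvPolynomial A C n
  obtain ⟨M, hM, hMo⟩ : ∃ M : Ideal E, M.IsPrime ∧ M.LiesOver N := N.exists_isPrime_liesOver_of_faithfullyFlat
  have hNM : N = M.comap (algebraMap F E) := hMo.over
  -- the flat local homomorphism
  set Bo := Localization.AtPrime N
  set Do := Localization.AtPrime M
  let g : Bo →+* Do := Localization.localRingHom N M (algebraMap F E) hNM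
  let : Algebra Bo Do := g.toAlgebra
  have : Module.Flat Bo Do :=
    RingHom.flat_algebraMap_iff.mp (RingHom.Flat.localRingHom (RingHom.flat_algebraMap_iff.mpr inferInstance) M N hNM)
  have hgloc : IsLocalHom (algebraMap Bo Do) :=
    Localization.isLocalHom_localRingHom N M (algebraMap F E) hNM
  set PB := P.map (algebraMap F Bo)
  set PD := PB.map (algebraMap Bo Do)
  have hPD : PD = (P.map (algebraMap F E)).map (algebraMap E Do) := by
    show (P.map (algebraMap F Bo)).map g = _
    rw [Ideal.map_map, Ideal.map_map]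
    congr 1
    exact RingHom.ext fun f => Localization.localRingHom_to_map _ _ _ hNM f
  have hPEM : P.map (algebraMap F E) ≤ M := Ideal.map_le_iff_le_comap.mpr (hPN.trans hNM.le)
  have hPDle : PD ≤ maximalIdeal Do := by
    rw [hPD, ← Localization.AtPrime.map_eq_maximalIdeal]
    exact Ideal.map_mono hPEM
  have : Nontrivial (Do ⧸ PD) := Ideal.Quotient.nontrivial_iff.mpr fun e =>
    (maximalIdeal.isMaximal Do).ne_top (top_le_iff.mp (e ▸ hPDle))
  have : IsLocalRing (Do ⧸ PD) := IsLocalRing.of_surjective' _ Ideal.Quotient.mk_surjective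
  refine isFormallyEquidim_quotient_of_flat_local (S := Do) PB ?_
  -- the regular presentation
  obtain ⟨R, _, _, _, π, hπ⟩ := exists_regularLocal_surjective C
  set G := MvPolynomial (Fin n) R
  let πX : G →+* E := MvPolynomial.map π
  have hπX : Function.Surjective πX := MvPolynomial.map_surjective π hπ
  set M' := M.comap πX
  let σ₀ : Localization.AtPrime M' →+* Do := Localization.localRingHom M' M πX rfl
  have hσ₀ : Function.Surjective σ₀ := fun d => by
    obtain ⟨e, ⟨s, hs⟩, rfl⟩ := IsLocalization.exists_mk'_eq M.primeCompl d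
    obtain ⟨e', rfl⟩ := hπX e
    obtain ⟨s', rfl⟩ := hπX s
    exact ⟨IsLocalization.mk' _ e' (⟨s', hs⟩ : M'.primeCompl), Localization.localRingHom_mk' _ _ _ rfl e' _⟩
  let σ : Localization.AtPrime M' →+* Do ⧸ PD := (Ideal.Quotient.mk PD).comp σ₀
  have hσ : Function.Surjective σ := Ideal.Quotient.mk_surjective.comp hσ₀
  have : IsRegularRing (Localization.AtPrime M') :=
    { isRegularLocalRing_localization := fun p _ => isRegularLocalRing_localization_atPrime _ p }
  have : Nontrivial (Localization.AtPrime M' ⧸ RingHom.ker σ) :=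
    Ideal.Quotient.nontrivial_iff.mpr (RingHom.ker_ne_top σ)
  refine isFormallyEquidim_of_ringEquiv (RingHom.quotientKerEquivOfSurjective hσ)
    (isFormallyEquidim_of_regular_quotient (RingHom.ker σ) ?_)
  -- the heights of the components
  obtain ⟨m₀, hm₀⟩ := Ideal.nonempty_minimalPrimes (I := (⊥ : Ideal C)) bot_ne_top
  have hconst : ∀ q ∈ minimalPrimes C, (q.comap π).height = (m₀.comap π).height := by
    have key : ∀ q ∈ minimalPrimes C, ((q.comap π).height : WithBot ℕ∞) + ringKrullDim C = ringKrullDim R := fun q hq => by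
      have := hq.1.1
      rw [← hA q hq, ← ringKrullDim_quotient_comap π hπ q]
      exact height_add_ringKrullDim_quotient R (q.comap π)
    intro q hq
    have h1 := (key q hq).trans (key m₀ hm₀).symm
    have hfin : ringKrullDim C ≠ ⊤ := ringKrullDim_ne_top
    have hbot : ringKrullDim C ≠ ⊥ := ne_bot_of_le_ne_bot (by simp) ringKrullDim_nonneg_of_nontrivial
    revert h1 hfin hbot
    cases ringKrullDim C with
    | bot => intro _ _ h; exact absurd rfl h
    | coe d =>
      intro h1 hfin _
      have hd : d ≠ ⊤ := fun e => hfin (by rw [e]; rfl)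
      rw [← WithBot.coe_add, ← WithBot.coe_add, WithBot.coe_inj, add_comm _ d, add_comm _ d] at h1
      exact ENat.add_right_injective_of_ne_top hd h1
  suffices key : ∀ Q ∈ (RingHom.ker σ).minimalPrimes, Q.height = (m₀.comap π).height + P.height by
    intro Q₁ h₁ Q₂ h₂
    rw [key Q₁ h₁, key Q₂ h₂]
  intro Q hQ
  have := hQ.1.1
  set Q'' := Q.under G
  have hQ''M : Q'' ≤ M' := by
    refine (Ideal.comap_mono (le_maximalIdeal (Ideal.IsPrime.ne_top ‹Q.IsPrime›))).trans ?_
    exact (IsLocalization.AtPrime.under_maximalIdeal (Localization.AtPrime M') M').le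
  have hker : RingHom.ker πX ≤ Q'' := fun g hg => by
    show algebraMap G _ g ∈ Q
    refine hQ.1.2 ?_
    rw [RingHom.mem_ker, RingHom.comp_apply, Localization.localRingHom_to_map, RingHom.mem_ker.mp hg, map_zero, map_zero]
  set 𝔔 := Q''.map πX
  have : 𝔔.IsPrime := Ideal.map_isPrime_of_surjective hπX hker
  have hback : 𝔔.comap πX = Q'' := by
    rw [Ideal.comap_map_of_surjective _ hπX]
    exact sup_eq_left.mpr hker
  have h𝔔M : 𝔔 ≤ M := Ideal.map_le_iff_le_comap.mpr hQ''M
  have hPσ : ∀ g : G, πX g ∈ P.map (algebraMap F E) → algebraMap G _ g ∈ RingHom.ker σ := fun g hg => by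
    rw [RingHom.mem_ker, RingHom.comp_apply, Localization.localRingHom_to_map, Ideal.Quotient.eq_zero_iff_mem, hPD]
    exact Ideal.mem_map_of_mem _ hg
  have h𝔔min : 𝔔 ∈ (P.map (algebraMap F E)).minimalPrimes := by
    refine ⟨⟨inferInstance, fun e he => ?_⟩, fun 𝔔₁ h𝔔₁ hle => ?_⟩
    · obtain ⟨g, rfl⟩ := hπX e
      exact Ideal.mem_map_of_mem _ (hQ.1.2 (hPσ g he))
    · have := h𝔔₁.1
      set Q₁ := 𝔔₁.comap πX
      have hQ₁ : Q₁ ≤ Q'' := (Ideal.comap_mono hle).trans hback.le
      have hdis : Disjoint (M'.primeCompl : Set G) (Q₁ : Set G) :=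
        Set.disjoint_left.mpr fun g hg hgQ => hg (hQ''M (hQ₁ hgQ))
      have hQ₁p := IsLocalization.isPrime_of_isPrime_disjoint M'.primeCompl (Localization.AtPrime M') Q₁ inferInstance hdis
      have hkerle : RingHom.ker σ ≤ Q₁.map (algebraMap G (Localization.AtPrime M')) := by
        intro z hz
        obtain ⟨g, s, rfl⟩ := IsLocalization.exists_mk'_eq M'.primeCompl z
        rw [IsLocalization.mk'_mem_map_algebraMap_iff]
        rw [RingHom.mem_ker, RingHom.comp_apply, Localization.localRingHom_mk', Ideal.Quotient.eq_zero_iff_mem, hPD,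
          IsLocalization.mk'_mem_map_algebraMap_iff] at hz
        obtain ⟨t, ht, htg⟩ := hz
        refine ⟨1, one_mem _, ?_⟩
        rw [one_mul]
        exact (h𝔔₁.1.mem_or_mem (h𝔔₁.2 htg)).resolve_left fun h => ht (h𝔔M (hle h))
      have h2 : Q ≤ Q₁.map (algebraMap G (Localization.AtPrime M')) :=
        hQ.2 ⟨hQ₁p, hkerle⟩ (Ideal.map_le_iff_le_comap.mpr hQ₁)
      have h3 : Q'' ≤ Q₁ := (Ideal.comap_mono h2).trans
        (IsLocalization.under_map_of_isPrime_disjoint M'.primeCompl _ inferInstance hdis).le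
      exact (Ideal.map_mono h3).trans Ideal.map_comap_le
  rw [show Q.height = Q''.height from (IsLocalization.height_under M'.primeCompl Q).symm]
  set q₀ := 𝔔.comap MvPolynomial.C
  have hq₀ : q₀ ∈ minimalPrimes C := comap_C_mem_minimalPrimes A C n P hPA h𝔔min
  have : IsDomain (C ⧸ q₀) := inferInstance
  have hinj : Function.Injective (algebraMap A (C ⧸ q₀)) := by
    rw [injective_iff_map_eq_zero]
    intro a ha
    refine hPA a ?_
    have h0 : algebraMap A C a ∈ q₀ := Ideal.Quotient.eq_zero_iff_mem.mp ha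
    have h1 : MvPolynomial.C (algebraMap A C a) ∈ 𝔔 := h0
    rw [← under_eq_of_mem_minimalPrimes_map h𝔔min]
    show algebraMap F E (MvPolynomial.C a) ∈ 𝔔
    rwa [show algebraMap F E (MvPolynomial.C a) = MvPolynomial.C (algebraMap A C a) from MvPolynomial.map_C _ _]
  set E' := MvPolynomial (Fin n) (C ⧸ q₀)
  let μ : E →+* E' := MvPolynomial.map (Ideal.Quotient.mk q₀)
  have hμ : Function.Surjective μ := MvPolynomial.map_surjective _ Ideal.Quotient.mk_surjective
  have hkerμ : RingHom.ker μ ≤ 𝔔 := by
    rw [MvPolynomial.ker_map, Ideal.mk_ker, Ideal.map_le_iff_le_comap]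
  have : (𝔔.map μ).IsPrime := Ideal.map_isPrime_of_surjective hμ hkerμ
  have hbackμ : (𝔔.map μ).comap μ = 𝔔 := by
    rw [Ideal.comap_map_of_surjective _ hμ]; exact sup_eq_left.mpr hkerμ
  have hμalg : μ.comp (algebraMap F E) = algebraMap F E' := by
    refine MvPolynomial.ringHom_ext (fun a => ?_) fun i => ?_
    · show MvPolynomial.map (Ideal.Quotient.mk q₀) (MvPolynomial.map (algebraMap A C) (MvPolynomial.C a)) =
        MvPolynomial.map (algebraMap A (C ⧸ q₀)) (MvPolynomial.C a)
      simp only [MvPolynomial.map_C]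
      rfl
    · show MvPolynomial.map (Ideal.Quotient.mk q₀) (MvPolynomial.map (algebraMap A C) (MvPolynomial.X i)) =
        MvPolynomial.map (algebraMap A (C ⧸ q₀)) (MvPolynomial.X i)
      simp only [MvPolynomial.map_X]
  have h𝔔'min : 𝔔.map μ ∈ (P.map (algebraMap F E')).minimalPrimes := by
    refine ⟨⟨inferInstance, ?_⟩, fun Z hZ hle => ?_⟩
    · rw [← hμalg, ← Ideal.map_map]; exact Ideal.map_mono h𝔔min.1.2
    · have := hZ.1
      have h1 : P.map (algebraMap F E) ≤ Z.comap μ := by
        rw [← Ideal.map_le_iff_le_comap, Ideal.map_map, hμalg]; exact hZ.2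
      have h2 : 𝔔 ≤ Z.comap μ := h𝔔min.2 ⟨inferInstance, h1⟩ ((Ideal.comap_mono hle).trans hbackμ.le)
      exact Ideal.map_le_iff_le_comap.mpr h2
  have hQC : ∀ c : C ⧸ q₀, MvPolynomial.C c ∈ 𝔔.map μ → c = 0 := fun c hc => by
    obtain ⟨c, rfl⟩ := Ideal.Quotient.mk_surjective c
    rw [Ideal.Quotient.eq_zero_iff_mem]
    show MvPolynomial.C c ∈ 𝔔
    rw [← hbackμ, Ideal.mem_comap]
    rwa [show μ (MvPolynomial.C c) = MvPolynomial.C (Ideal.Quotient.mk q₀ c) from MvPolynomial.map_C _ _]
  rw [← hconst q₀ hq₀, ← height_map_component A (C ⧸ q₀) hinj n P hPA h𝔔'min hQC]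
  have : Q''.LiesOver (q₀.comap π) := ⟨by
    ext r
    show π r ∈ q₀ ↔ algebraMap R G r ∈ Q''
    rw [← hback]
    show MvPolynomial.C (π r) ∈ 𝔔 ↔ πX (MvPolynomial.C r) ∈ 𝔔
    rw [show πX (MvPolynomial.C r) = MvPolynomial.C (π r) from MvPolynomial.map_C _ _]⟩
  rw [Ideal.height_eq_height_add_of_liesOver_of_hasGoingDown (q₀.comap π) Q'']
  congr 1
  have hcomp : μ.comp πX = MvPolynomial.map ((Ideal.Quotient.mk q₀).comp π) :=
    RingHom.ext fun g => MvPolynomial.map_map _ _ g
  have hρ : Function.Surjective (μ.comp πX) := hμ.comp hπX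
  have hkerρ : RingHom.ker (μ.comp πX) = (q₀.comap π).map (algebraMap R G) := by
    rw [hcomp, MvPolynomial.ker_map, ← RingHom.comap_ker, Ideal.mk_ker]
    rfl
  let e := (Ideal.quotEquivOfEq hkerρ.symm).trans (RingHom.quotientKerEquivOfSurjective hρ)
  rw [← e.height_map]
  show ((Q''.map _).map e.toRingHom).height = _
  rw [Ideal.map_map, Ideal.map_map]
  rfl

end Groth.Ega4Algebra1
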