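import Groth.Agent.Ega4Algebra1.NagataQE
import Groth.Agent.Calg1.AnalyticallyUnramifiedN1Local

/-!
The analytic criterion for N-1, in the form used by the Nagata criteria.
-/

set_option autoImplicit false

universe u

namespace Groth.Ega4Algebra1

theorem analyticallyUnramifiedN1 : AnalyticallyUnramifiedN1.{u} :=
  fun R _ _ _ _ hred => Groth.Calg1.isN1_of_analyticallyUnramified R hred

end Groth.Ega4Algebra1
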