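import Groth.Agent.Ega4Algebra1.Sections
import Mathlib

/-!
Functoriality of the sections over the complement of `V(J)`, and sections of `A ⧸ p`.
-/

universe u

namespace Groth.Ega4Algebra1

open AlgebraicGeometry TopologicalSpace CategoryTheory Opposite

variable {A : Type u} [CommRing A] {J : Ideal A} {M : Type u} [AddCommGroup M] [Module A M]
  {N : Type u} [AddCommGroup N] [Module A N] {P : Type u} [AddCommGroup P] [Module A P]

theorem isCoherentPushCompl_iff : EGA4.IsCoherentPushCompl A J M ↔ Module.Finite A (Sect A J M) := by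
  set R := ((Spec (CommRingCat.of A)).ringCatSheaf.obj.obj (op ⊤))
  set P := ((ModuleCat.restrictScalars ((Spec (CommRingCat.of A)).ringCatSheaf.obj.map
        (homOfLE (le_top : EGA4.openCompl A J ≤ ⊤)).op).hom).obj
      ((EGA4.tildeOf A M).val.obj (op (EGA4.openCompl A J))))
  let φ : P → Sect A J M := fun x => x
  let ψ : Sect A J M → P := fun x => x
  have key : ∀ r : R, ∃ a : A, ∀ (x : P), φ (r • x) = a • φ x := by
    intro r
    obtain ⟨a, ha⟩ := (ConcreteCategory.bijective_of_isIso (Scheme.ΓSpecIso (CommRingCat.of A)).inv).2 r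
    refine ⟨a, fun x => ?_⟩
    subst ha
    apply Sect.ext
    intro y
    exact algebraMap_smul (Localization.AtPrime y.1.asIdeal) a ((φ x).1 y)
  have key2 : ∀ a : A, ∃ r : R, ∀ (x : P), φ (r • x) = a • φ x := by
    intro a
    refine ⟨(Scheme.ΓSpecIso (CommRingCat.of A)).inv a, fun x => ?_⟩
    apply Sect.ext
    intro y
    exact algebraMap_smul (Localization.AtPrime y.1.asIdeal) a ((φ x).1 y)
  constructor
  · intro h
    obtain ⟨S, hS⟩ := (Module.finite_def (R := R) (M := P)).mp h
    classical
    refine Module.finite_def.mpr ⟨S.image φ, eq_top_iff.mpr fun x _ => ?_⟩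
    suffices H : ∀ z ∈ Submodule.span R (S : Set P), φ z ∈ Submodule.span A ((S.image φ : Finset _) : Set (Sect A J M)) from H (ψ x) (hS ▸ Submodule.mem_top)
    intro z hx
    induction hx using Submodule.span_induction with
    | mem y hy => exact Submodule.subset_span (Finset.mem_image_of_mem _ hy)
    | zero => exact zero_mem _
    | add y z _ _ hy hz => exact add_mem hy hz
    | smul r y _ hy =>
      obtain ⟨a, ha⟩ := key r
      rw [ha]; exact Submodule.smul_mem _ a hy
  · intro h
    obtain ⟨S, hS⟩ := Module.finite_def.mp h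
    classical
    refine (Module.finite_def.mpr ⟨S.image ψ, eq_top_iff.mpr fun x _ => ?_⟩ : Module.Finite R P)
    suffices H : ∀ z ∈ Submodule.span A (S : Set (Sect A J M)), ψ z ∈ Submodule.span R ((S.image ψ : Finset _) : Set P) from H (φ x) (hS ▸ Submodule.mem_top)
    intro z hx
    induction hx using Submodule.span_induction with
    | mem y hy => exact Submodule.subset_span (Finset.mem_image_of_mem _ hy)
    | zero => exact zero_mem _
    | add y z _ _ hy hz => exact add_mem hy hz
    | smul a y _ hy =>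
      obtain ⟨r, hr⟩ := key2 a
      rw [show ψ (a • y) = r • ψ y from (hr (ψ y)).symm]; exact Submodule.smul_mem _ r hy

/-- Functoriality of sections. -/
noncomputable def mapSect (J : Ideal A) (f : M →ₗ[A] N) : Sect A J M →ₗ[A] Sect A J N where
  toFun s := ⟨fun y => LocalizedModule.map y.1.asIdeal.primeCompl f (s.1 y), fun y => by
    obtain ⟨V, hyV, i, m, t, hV⟩ := s.2 y
    refine ⟨V, hyV, i, f m, t, fun z => ?_⟩
    obtain ⟨ht, hz⟩ := hV z
    exact ⟨ht, (congrArg _ hz).trans (LocalizedModule.map_mk _ f _ _)⟩⟩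
  map_add' s t := Sect.ext fun y => map_add _ _ _
  map_smul' r s := Sect.ext fun y => LinearMap.map_smul_of_tower _ r _

theorem mapSect_apply (f : M →ₗ[A] N) (s : Sect A J M) (y : complOpen A J) :
    (mapSect J f s).1 y = LocalizedModule.map y.1.asIdeal.primeCompl f (s.1 y) := rfl

theorem mapSect_injective (f : M →ₗ[A] N) (hf : Function.Injective f) : Function.Injective (mapSect J f) :=
  fun _ _ h => Sect.ext fun y => LocalizedModule.map_injective _ f hf (congrFun (congrArg Subtype.val h) y)

/-- Sections are left exact. -/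
theorem ker_mapSect_le_range (f : M →ₗ[A] N) (g : N →ₗ[A] P) (hf : Function.Injective f)
    (hfg : Function.Exact f g) : LinearMap.ker (mapSect J g) ≤ LinearMap.range (mapSect J f) := by
  intro s hs
  have h0 : ∀ y, LocalizedModule.map y.1.asIdeal.primeCompl g (s.1 y) = 0 := fun y =>
    congrFun (congrArg Subtype.val (hs : mapSect J g s = 0)) y
  have hex : ∀ y : complOpen A J, ∃ e, LocalizedModule.map y.1.asIdeal.primeCompl f e = s.1 y := fun y => by
    have := LocalizedModule.map_exact y.1.asIdeal.primeCompl f g hfg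
    exact (this (s.1 y)).mp (h0 y)
  choose e he using hex
  refine ⟨⟨e, fun y => ?_⟩, Sect.ext fun y => he y⟩
  obtain ⟨V, hyV, i, m, t, hV⟩ := s.2 y
  obtain ⟨hty, hsy⟩ := hV ⟨y.1, hyV⟩
  have hz := h0 y
  rw [show s.1 y = _ from hsy, LocalizedModule.map_mk, ← LocalizedModule.zero_mk 1, LocalizedModule.mk_eq] at hz
  obtain ⟨⟨u, hu⟩, hu0⟩ := hz
  simp only [one_smul, smul_zero, Submonoid.smul_def] at hu0
  rw [← map_smul] at hu0
  obtain ⟨k, hk⟩ := (hfg _).mp hu0
  refine ⟨V ⊓ PrimeSpectrum.basicOpen u, ⟨hyV, hu⟩, homOfLE (inf_le_left.trans i.le), k, u * t, fun z => ?_⟩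
  obtain ⟨htz, hsz⟩ := hV ⟨z.1, z.2.1⟩
  refine ⟨fun h => (z.1.isPrime.mem_or_mem h).elim z.2.2 htz, LocalizedModule.map_injective _ f hf ?_⟩
  rw [LocalizedModule.map_mk, hk]
  refine (he _).trans (hsz.trans ?_)
  rw [LocalizedModule.mk_eq]
  exact ⟨1, by simp only [one_smul, Submonoid.smul_def, smul_smul, mul_comm]⟩

/-- Finiteness of sections in the middle of an exact sequence. -/
theorem finite_sect_of_exact [IsNoetherianRing A] (f : M →ₗ[A] N) (g : N →ₗ[A] P) (hf : Function.Injective f)
    (hfg : Function.Exact f g) [Module.Finite A (Sect A J M)] [Module.Finite A (Sect A J P)] :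
    Module.Finite A (Sect A J N) := by
  refine ⟨Submodule.fg_of_fg_map_of_fg_inf_ker (mapSect J g) (IsNoetherian.noetherian _) ?_⟩
  rw [top_inf_eq]
  have : IsNoetherian A (LinearMap.range (mapSect J f)) := isNoetherian_range _
  exact isNoetherian_submodule.mp this _ (ker_mapSect_le_range f g hf hfg)

theorem finite_sect_of_injective [IsNoetherianRing A] (f : M →ₗ[A] N) (hf : Function.Injective f)
    [Module.Finite A (Sect A J N)] : Module.Finite A (Sect A J M) :=
  Module.Finite.of_injective (mapSect J f) (mapSect_injective f hf)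

theorem finite_sect_of_subsingleton [Subsingleton M] : Module.Finite A (Sect A J M) := by
  have : ∀ y : complOpen A J, Subsingleton (LocalizedModule y.1.asIdeal.primeCompl M) := fun y =>
    IsLocalizedModule.subsingleton_of_subsingleton y.1.asIdeal.primeCompl (LocalizedModule.mkLinearMap y.1.asIdeal.primeCompl M)
  have : Subsingleton (Sect A J M) := ⟨fun a b => Sect.ext fun y => Subsingleton.elim _ _⟩
  infer_instance

/-- A jointly injective finite family of maps is jointly injective on sections. -/
theorem finite_sect_of_finite_family [IsNoetherianRing A] {ι : Type*} [Finite ι] {Q : ι → Type u}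
    [∀ i, AddCommGroup (Q i)] [∀ i, Module A (Q i)] (f : ∀ i, M →ₗ[A] Q i)
    (hf : ∀ m, (∀ i, f i m = 0) → m = 0) [∀ i, Module.Finite A (Sect A J (Q i))] :
    Module.Finite A (Sect A J M) := by
  classical
  have := Fintype.ofFinite ι
  refine Module.Finite.of_injective (LinearMap.pi fun i => mapSect J (f i)) ((injective_iff_map_eq_zero _).mpr fun s hs => ?_)
  refine Sect.ext fun y => ?_
  have h0 : ∀ i, LocalizedModule.map y.1.asIdeal.primeCompl (f i) (s.1 y) = 0 := fun i =>
    congrFun (congrArg Subtype.val (congrFun hs i)) y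
  show s.1 y = 0
  induction hsy : s.1 y using LocalizedModule.induction_on with
  | h m t =>
    have : ∀ i, ∃ u, u ∈ y.1.asIdeal.primeCompl ∧ f i (u • m) = 0 := fun i => by
      have := h0 i
      rw [hsy, LocalizedModule.map_mk, ← LocalizedModule.zero_mk 1, LocalizedModule.mk_eq] at this
      obtain ⟨⟨u, hu⟩, hu0⟩ := this
      simp only [one_smul, smul_zero, Submonoid.smul_def] at hu0
      exact ⟨u, hu, by rw [map_smul]; exact hu0⟩
    choose u hu hu0 using this
    have h1 : (∏ i, u i) • m = 0 := hf _ fun i => by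
      rw [← Finset.prod_erase_mul _ _ (Finset.mem_univ i), mul_smul, map_smul, hu0, smul_zero]
    rw [← LocalizedModule.zero_mk 1, LocalizedModule.mk_eq]
    refine ⟨⟨∏ i, u i, prod_mem fun i _ => hu i⟩, ?_⟩
    simp only [one_smul, smul_zero, Submonoid.smul_def]
    exact h1

/-- The elements of the fraction field of a domain defined at all primes off `V(J)`. -/
def secHull (B : Type u) [CommRing B] [IsDomain B] (J : Ideal B) : Submodule B (FractionRing B) where
  carrier := {x | ∀ (p : Ideal B) [p.IsPrime], ¬ J ≤ p →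
    ∃ s : B, s ∉ p ∧ ∃ a : B, algebraMap B (FractionRing B) a = algebraMap B (FractionRing B) s * x}
  add_mem' := by
    intro x y hx hy p _ hp
    obtain ⟨s, hs, a, ha⟩ := hx p hp
    obtain ⟨t, ht, b, hb⟩ := hy p hp
    exact ⟨s * t, fun h => (Ideal.IsPrime.mem_or_mem ‹_› h).elim hs ht, t * a + s * b,
      by rw [map_add, map_mul, map_mul, map_mul, ha, hb]; ring⟩
  zero_mem' := fun p _ _ => ⟨1, (Ideal.ne_top_iff_one p).mp (Ideal.IsPrime.ne_top ‹_›), 0, by simp⟩
  smul_mem' := by
    intro r x hx p _ hp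
    obtain ⟨s, hs, a, ha⟩ := hx p hp
    exact ⟨s, hs, r * a, by rw [map_mul, ha, Algebra.smul_def]; ring⟩

theorem mem_secHull_iff {B : Type u} [CommRing B] [IsDomain B] {J : Ideal B} {x : FractionRing B} :
    x ∈ secHull B J ↔ ∀ (p : Ideal B) [p.IsPrime], ¬ J ≤ p →
      ∃ s : B, s ∉ p ∧ ∃ a : B, algebraMap B (FractionRing B) a = algebraMap B (FractionRing B) s * x := Iff.rfl

/-- The hull is a subalgebra. -/
def secHullAlg (B : Type u) [CommRing B] [IsDomain B] (J : Ideal B) : Subalgebra B (FractionRing B) :=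
  (secHull B J).toSubalgebra
    (fun p _ _ => ⟨1, (Ideal.ne_top_iff_one p).mp (Ideal.IsPrime.ne_top ‹_›), 1, by simp⟩)
    fun x y hx hy p _ hp => by
      obtain ⟨s, hs, a, ha⟩ := hx p hp
      obtain ⟨t, ht, b, hb⟩ := hy p hp
      exact ⟨s * t, fun h => (Ideal.IsPrime.mem_or_mem ‹_› h).elim hs ht, a * b,
        by rw [map_mul, map_mul, ha, hb]; ring⟩

section Quotient

variable (B : Type u) [CommRing B] [IsDomain B] [Algebra A B]

/-- Evaluation of sections of `B` at the generic point. -/
theorem exists_equiv_secHull (hB : Function.Surjective (algebraMap A B))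
    (hJ : ¬ J ≤ RingHom.ker (algebraMap A B)) :
    Nonempty (Sect A J B ≃ₗ[A] (secHull B (J.map (algebraMap A B))).restrictScalars A) := by
  classical
  set K := FractionRing B
  set p := RingHom.ker (algebraMap A B)
  have hp : p.IsPrime := RingHom.ker_isPrime _
  let ι : B →ₗ[A] K := (IsScalarTower.toAlgHom A B K).toLinearMap
  have hι : Function.Injective ι := IsFractionRing.injective B K
  have hne : ∀ s : A, s ∉ p → algebraMap A K s ≠ 0 := fun s hs h => hs (by
    rw [IsScalarTower.algebraMap_apply A B K] at h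
    exact (map_eq_zero_iff _ (IsFractionRing.injective B K)).mp h)
  have hunit : ∀ s : p.primeCompl, IsUnit (algebraMap A (Module.End A K) s) := fun s => by
    rw [Module.End.isUnit_iff]
    have : ⇑(algebraMap A (Module.End A K) s) = fun x : K => algebraMap A K s * x := funext fun x => (Module.algebraMap_end_apply A A K s x).trans (Algebra.smul_def _ _)
    rw [this]
    exact mulLeft_bijective₀ _ (hne s s.2)
  let lam : LocalizedModule p.primeCompl B →ₗ[A] K := LocalizedModule.lift _ ι hunit
  have hlam : ∀ m (t : p.primeCompl), algebraMap A K t * lam (LocalizedModule.mk m t) = ι m := fun m t => by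
    rw [← Algebra.smul_def, ← map_smul, LocalizedModule.smul'_mk]
    rw [← Submonoid.smul_def, LocalizedModule.mk_cancel]
    exact LocalizedModule.lift_mk_one _ ι hunit m
  let x₀ : complOpen A J := ⟨⟨p, hp⟩, (mem_complOpen_iff _).mpr hJ⟩
  let ev : Sect A J B →ₗ[A] K :=
    { toFun := fun s => lam (s.1 x₀)
      map_add' := fun s t => lam.map_add _ _
      map_smul' := fun r s => lam.map_smul r _ }
  have hgen : ∀ {V : Opens (PrimeSpectrum.Top A)} (y : V), p ≤ y.1.asIdeal → x₀.1 ∈ V := fun {V} y hy =>
    ((PrimeSpectrum.le_iff_specializes (⟨p, hp⟩ : PrimeSpectrum A) y.1).mp hy).mem_open V.2 y.2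
  have hzero : ∀ (y : PrimeSpectrum.Top A), ¬ p ≤ y.asIdeal → ∀ z : LocalizedModule y.asIdeal.primeCompl B, z = 0 := fun y hy z => by
    obtain ⟨r, hr, hry⟩ := SetLike.not_le_iff_exists.mp hy
    refine (smul_localized_eq_zero_iff y.asIdeal hry z).mp ?_
    induction z using LocalizedModule.induction_on with
    | h m t =>
      rw [LocalizedModule.smul'_mk, Algebra.smul_def, RingHom.mem_ker.mp hr, zero_mul, LocalizedModule.zero_mk]
  have hinj : Function.Injective ev := (injective_iff_map_eq_zero _).mpr fun s hs => Sect.ext fun y => by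
    show s.1 y = 0
    by_cases hy : p ≤ y.1.asIdeal
    · obtain ⟨V, hyV, i, m, t, hV⟩ := s.2 y
      obtain ⟨ht₀, hs₀⟩ := hV ⟨x₀.1, hgen ⟨y.1, hyV⟩ hy⟩
      obtain ⟨hty, hsy⟩ := hV ⟨y.1, hyV⟩
      have h2 : lam (LocalizedModule.mk m (⟨t, ht₀⟩ : p.primeCompl)) = 0 := (congrArg lam hs₀.symm).trans hs
      have h1 := hlam m ⟨t, ht₀⟩
      rw [h2, mul_zero] at h1
      rw [show s.1 y = _ from hsy, hι (h1.symm.trans (map_zero ι).symm), LocalizedModule.zero_mk]
    · exact hzero _ hy _
  refine ⟨(LinearEquiv.ofInjective ev hinj).trans (LinearEquiv.ofEq _ _ (le_antisymm ?_ ?_))⟩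
  · rintro _ ⟨s, rfl⟩
    intro q _ hq
    have hqA : ¬ J ≤ q.comap (algebraMap A B) := fun h => hq (Ideal.map_le_iff_le_comap.mpr h)
    let y : complOpen A J := ⟨⟨q.comap (algebraMap A B), inferInstance⟩, (mem_complOpen_iff _).mpr hqA⟩
    obtain ⟨V, hyV, i, m, t, hV⟩ := s.2 y
    obtain ⟨ht₀, hs₀⟩ := hV ⟨x₀.1, hgen ⟨y.1, hyV⟩ (Ideal.comap_mono bot_le)⟩
    obtain ⟨hty, -⟩ := hV ⟨y.1, hyV⟩
    refine ⟨algebraMap A B t, hty, m, ?_⟩
    rw [← IsScalarTower.algebraMap_apply A B K]
    refine ((hlam m ⟨t, ht₀⟩).symm.trans ?_)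
    exact congrArg (algebraMap A K t * lam ·) hs₀.symm
  · intro x hx
    have hx' : ∀ y : complOpen A J, ∃ s, s ∉ y.1.asIdeal ∧ ∃ b : B, ι b = algebraMap A K s * x := fun y => by
      by_cases hy : p ≤ y.1.asIdeal
      · have : (y.1.asIdeal.map (algebraMap A B)).IsPrime := Ideal.map_isPrime_of_surjective hB hy
        have hcm : (y.1.asIdeal.map (algebraMap A B)).comap (algebraMap A B) = y.1.asIdeal := by
          rw [Ideal.comap_map_of_surjective _ hB]
          exact sup_eq_left.mpr hy
        obtain ⟨s, hs, b, hb⟩ := hx (y.1.asIdeal.map (algebraMap A B)) fun h =>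
          (mem_complOpen_iff y.1).mp y.2 (hcm ▸ Ideal.map_le_iff_le_comap.mp h)
        obtain ⟨s, rfl⟩ := hB s
        exact ⟨s, fun h => hs (Ideal.mem_map_of_mem _ h), b, by rw [IsScalarTower.algebraMap_apply A B K]; exact hb⟩
      · obtain ⟨r, hr, hry⟩ := SetLike.not_le_iff_exists.mp hy
        exact ⟨r, hry, 0, by rw [map_zero, IsScalarTower.algebraMap_apply A B K, RingHom.mem_ker.mp hr, map_zero, zero_mul]⟩
    choose s hs b hb using hx'
    refine ⟨⟨fun y => LocalizedModule.mk (b y) (⟨s y, hs y⟩ : y.1.asIdeal.primeCompl), fun y => ?_⟩, ?_⟩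
    · refine ⟨complOpen A J ⊓ PrimeSpectrum.basicOpen (s y), ⟨y.2, hs y⟩, homOfLE inf_le_left, b y, s y,
        fun z => ⟨z.2.2, ?_⟩⟩
      rw [LocalizedModule.mk_eq]
      refine ⟨1, ?_⟩
      simp only [one_smul, Submonoid.smul_def]
      apply hι
      rw [map_smul, map_smul, hb, hb, Algebra.smul_def, Algebra.smul_def]
      ring
    · refine mul_left_cancel₀ (hne (s x₀) (hs x₀)) ?_
      exact (hlam (b x₀) ⟨s x₀, hs x₀⟩).trans (hb x₀)

/-- Finiteness of sections of a domain quotient, read in its fraction field. -/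
theorem finite_sect_iff_secHull (hB : Function.Surjective (algebraMap A B))
    (hJ : ¬ J ≤ RingHom.ker (algebraMap A B)) :
    Module.Finite A (Sect A J B) ↔ Module.Finite B (secHull B (J.map (algebraMap A B))) := by
  obtain ⟨e⟩ := exists_equiv_secHull B hB hJ
  have hfin : Module.Finite A B := Module.Finite.of_surjective (Algebra.linearMap A B) hB
  constructor
  · intro h
    have : Module.Finite A (secHull B (J.map (algebraMap A B))) :=
      Module.Finite.equiv (e.trans (LinearEquiv.restrictScalars A (Submodule.restrictScalarsEquiv A B (FractionRing B) (secHull B (J.map (algebraMap A B))))))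
    exact Module.Finite.of_restrictScalars_finite A B _
  · intro h
    have : Module.Finite A (secHull B (J.map (algebraMap A B))) := Module.Finite.trans B _
    exact Module.Finite.equiv (e.trans (LinearEquiv.restrictScalars A (Submodule.restrictScalarsEquiv A B (FractionRing B) (secHull B (J.map (algebraMap A B)))))).symm

end Quotient

/-- Sections of `A ⧸ p` vanish if `J ≤ p`. -/
theorem finite_sect_quotient_of_le (p : Ideal A) (hJ : J ≤ p) : Module.Finite A (Sect A J (A ⧸ p)) := by
  have : Subsingleton (Sect A J (A ⧸ p)) := ⟨fun a b => Sect.ext fun y => by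
    obtain ⟨r, hr, hry⟩ := SetLike.not_le_iff_exists.mp ((mem_complOpen_iff y.1).mp y.2)
    rw [← sub_eq_zero]
    refine (smul_localized_eq_zero_iff y.1.asIdeal hry _).mp ?_
    induction a.1 y - b.1 y using LocalizedModule.induction_on with
    | h m t =>
      rw [LocalizedModule.smul'_mk, Algebra.smul_def, Ideal.Quotient.algebraMap_eq,
        Ideal.Quotient.eq_zero_iff_mem.mpr (hJ hr), zero_mul, LocalizedModule.zero_mk]⟩
  infer_instance

end Groth.Ega4Algebra1
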