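import Groth.Agent.S4722
import Groth.Agent.Ega4Algebra1.SectFinite

/-!
Dévissage of sections over `Spec A ∖ V(J)` along associated primes.
-/

universe u

namespace Groth.Ega4Algebra1

variable {A : Type u} [CommRing A] [IsNoetherianRing A] {J : Ideal A}
  {M : Type u} [AddCommGroup M] [Module A M] [Module.Finite A M]

/-- For every associated prime `p` some quotient `M ⧸ Q` is `p`-coprimary, with `p ∉ Ass Q`. -/
theorem exists_coprimary_quotient {p : Ideal A} (hp : p ∈ associatedPrimes A M) :
    ∃ Q : Submodule A M, p ∉ associatedPrimes A Q ∧ associatedPrimes A (M ⧸ Q) = {p} := by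
  have h0 : p ∉ associatedPrimes A (⊥ : Submodule A M) := fun h => by
    rw [associatedPrimes.eq_empty_of_subsingleton] at h
    exact h
  obtain ⟨Q, hQ, hmax⟩ := exists_maximal_of_wellFoundedGT (fun Q : Submodule A M => p ∉ associatedPrimes A Q) ⟨⊥, h0⟩
  refine ⟨Q, hQ, Set.eq_singleton_iff_unique_mem.mpr ⟨?_, fun q hq => ?_⟩⟩
  · rcases associatedPrimes.subset_union_of_exact Q.injective_subtype (LinearMap.exact_subtype_mkQ Q) hp with h | h
    · exact absurd h hQ
    · exact h
  · by_contra hne
    obtain ⟨hqp, z, hz⟩ := isAssociatedPrime_iff.mp hq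
    let Q' : Submodule A M := (Submodule.span A {z}).comap Q.mkQ
    have hle : Q ≤ Q' := fun x hx => by
      show Q.mkQ x ∈ Submodule.span A {z}
      rw [Submodule.mkQ_apply, (Submodule.Quotient.mk_eq_zero Q).mpr hx]
      exact zero_mem _
    have hQ' : p ∉ associatedPrimes A Q' := fun h => by
      let g : Q' →ₗ[A] Submodule.span A {z} := Q.mkQ.restrict (p := Q') (q := Submodule.span A {z}) fun _ hx => hx
      have hex : Function.Exact (Submodule.inclusion hle) g := fun x => by
        constructor
        · intro hx
          have : Q.mkQ x.1 = 0 := congrArg Subtype.val hx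
          exact ⟨⟨x.1, (Submodule.Quotient.mk_eq_zero Q).mp this⟩, rfl⟩
        · rintro ⟨w, rfl⟩
          exact Subtype.ext ((Submodule.Quotient.mk_eq_zero Q).mpr w.2)
      rcases associatedPrimes.subset_union_of_exact (Submodule.inclusion_injective hle) hex h with h | h
      · exact hQ h
      · obtain ⟨hpp, w, hw⟩ := isAssociatedPrime_iff.mp h
        obtain ⟨a, ha⟩ := Submodule.mem_span_singleton.mp w.2
        have haq : a ∉ q := fun haq => hpp.one_notMem (by
          rw [hw, Submodule.mem_colon_singleton, Submodule.mem_bot, one_smul]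
          refine Subtype.ext ?_
          rw [← ha]
          rwa [hz, Submodule.mem_colon_singleton, Submodule.mem_bot] at haq)
        apply hne
        ext r
        rw [hw, Submodule.mem_colon_singleton, Submodule.mem_bot, ← Submodule.coe_eq_zero, Submodule.coe_smul,
          ← ha, smul_smul]
        constructor
        · intro hr
          have : r * a ∈ q := Ideal.mul_mem_right _ _ hr
          rwa [hz, Submodule.mem_colon_singleton, Submodule.mem_bot] at this
        · intro hr
          have : r * a ∈ q := by rw [hz, Submodule.mem_colon_singleton, Submodule.mem_bot]; exact hr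
          exact (hqp.mem_or_mem this).resolve_right haq
    have hzQ : z ≠ 0 := fun h => hqp.one_notMem (by
      rw [hz, Submodule.mem_colon_singleton, Submodule.mem_bot, h, smul_zero])
    obtain ⟨z', rfl⟩ := Submodule.Quotient.mk_surjective Q z
    exact hzQ ((Submodule.Quotient.mk_eq_zero Q).mpr (hmax hQ' hle (Submodule.mem_span_singleton_self _)))

/-- Sections of `M` are finite when those of `A ⧸ p` are, for the associated primes `p`. -/
theorem finite_sect_of_associatedPrimes
    (h : ∀ p ∈ associatedPrimes A M, Module.Finite A (Sect A J (A ⧸ p))) : Module.Finite A (Sect A J M) := by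
  classical
  have hfin := associatedPrimes.finite A M
  have : Finite ↥(associatedPrimes A M) := hfin.to_subtype
  choose Q hQ hQass using fun p : ↥(associatedPrimes A M) => exists_coprimary_quotient p.2
  have : ∀ p : ↥(associatedPrimes A M), Module.Finite A (Sect A J (M ⧸ Q p)) := fun p => by
    obtain ⟨m, F, -, hF0, hlast, hstep⟩ := Groth.Agent.S4722.result A (M ⧸ Q p) p.1 (hQass p)
    have hall : ∀ i : Fin (m + 1), Module.Finite A (Sect A J (F i)) := fun i => by
      induction i using Fin.reverseInduction with
      | last =>
        have : Subsingleton (F (Fin.last m)) := by rw [hlast]; infer_instance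
        exact finite_sect_of_subsingleton
      | cast i ih =>
        obtain ⟨g, hg⟩ := hstep i
        have hq : Module.Finite A (Sect A J (↥(F i.castSucc) ⧸ Submodule.comap (F i.castSucc).subtype (F i.succ))) :=
          @finite_sect_of_injective A _ J _ _ _ _ _ _ _ g hg (h p.1 p.2)
        have : Module.Finite A (Sect A J ↥(Submodule.comap (F i.castSucc).subtype (F i.succ))) :=
          finite_sect_of_injective
            (LinearMap.codRestrict (F i.succ) ((F i.castSucc).subtype.comp (Submodule.subtype _)) fun x => x.2)
            fun a b e => Subtype.ext (Subtype.ext (congrArg (fun w : F i.succ => w.1) e))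
        exact finite_sect_of_exact (M := ↥(Submodule.comap (F i.castSucc).subtype (F i.succ)))
          (N := ↥(F i.castSucc)) (P := ↥(F i.castSucc) ⧸ Submodule.comap (F i.castSucc).subtype (F i.succ))
          (Submodule.subtype _) (Submodule.mkQ _) (Submodule.injective_subtype _) (LinearMap.exact_subtype_mkQ _)
    have := hall 0
    exact finite_sect_of_injective
      (LinearMap.codRestrict (F 0) LinearMap.id fun x => hF0 ▸ Submodule.mem_top)
      fun a b e => congrArg Subtype.val e
  refine finite_sect_of_finite_family (fun p => (Q p).mkQ) fun m hm => ?_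
  by_contra hne
  have : Nontrivial (⨅ p, Q p : Submodule A M) :=
    ⟨⟨⟨m, Submodule.mem_iInf _ |>.mpr fun p => (Submodule.Quotient.mk_eq_zero _).mp (hm p)⟩, 0,
      fun e => hne (congrArg Subtype.val e)⟩⟩
  obtain ⟨q, hq⟩ := associatedPrimes.nonempty A (⨅ p, Q p : Submodule A M)
  have hqM : q ∈ associatedPrimes A M := associatedPrimes.subset_of_injective (Submodule.injective_subtype _) hq
  exact hQ ⟨q, hqM⟩ (associatedPrimes.subset_of_injective (Submodule.inclusion_injective (iInf_le Q ⟨q, hqM⟩)) hq)

omit [Module.Finite A M] in
/-- Sections of `A ⧸ p` embed into those of `M`. -/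
theorem finite_sect_quotient_of_mem {p : Ideal A} (hp : p ∈ associatedPrimes A M)
    [Module.Finite A (Sect A J M)] : Module.Finite A (Sect A J (A ⧸ p)) := by
  obtain ⟨hpp, z, hz⟩ := isAssociatedPrime_iff.mp hp
  refine finite_sect_of_injective (Submodule.liftQ p (LinearMap.toSpanSingleton A M z) ?_) ?_
  · intro r hr
    rwa [hz, Submodule.mem_colon_singleton, Submodule.mem_bot] at hr
  · rw [← LinearMap.ker_eq_bot]
    refine Submodule.ker_liftQ_eq_bot _ _ _ fun r hr => ?_
    rw [hz, Submodule.mem_colon_singleton, Submodule.mem_bot]
    exact hr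

/-- Sections of `M` are finite iff, for the associated primes `p` off `V(J)`, the corresponding hulls
in the fraction fields of `A ⧸ p` are finite. -/
theorem finite_sect_iff : Module.Finite A (Sect A J M) ↔
    ∀ (p : Ideal A) [p.IsPrime], p ∈ associatedPrimes A M → ¬ J ≤ p →
      Module.Finite (A ⧸ p) (secHull (A ⧸ p) (J.map (Ideal.Quotient.mk p))) := by
  constructor
  · intro h p _ hp hJ
    exact (finite_sect_iff_secHull (A ⧸ p) Ideal.Quotient.mk_surjective (by
      rwa [Ideal.Quotient.algebraMap_eq, Ideal.mk_ker])).mp (finite_sect_quotient_of_mem hp)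
  · intro h
    refine finite_sect_of_associatedPrimes fun p hp => ?_
    have := hp.isPrime
    by_cases hJ : J ≤ p
    · exact finite_sect_quotient_of_le p hJ
    · exact (finite_sect_iff_secHull (A ⧸ p) Ideal.Quotient.mk_surjective (by
        rwa [Ideal.Quotient.algebraMap_eq, Ideal.mk_ker])).mpr (h p hp hJ)

theorem isCoherentPushCompl_self_iff_secHull (B : Type u) [CommRing B] [IsDomain B] (I : Ideal B) (hI : I ≠ ⊥) :
    EGA4.IsCoherentPushCompl B I B ↔ Module.Finite B (secHull B I) := by
  have h := isCoherentPushCompl_iff (A := B) (J := I) (M := B)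
  refine h.trans ((finite_sect_iff_secHull (A := B) B Function.surjective_id (by
    exact fun e => hI (le_bot_iff.mp fun x hx => (Submodule.mem_bot B).mpr (RingHom.mem_ker.mp (e hx))))).trans ?_)
  rw [Algebra.algebraMap_self, Ideal.map_id]

end Groth.Ega4Algebra1
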