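import Groth.Prelude.Def_EGA4c
import Groth.Agent.ArtfunDeform.PowerSeries
import Groth.Agent.Ega41Adic.PowerSeries
import Groth.Agent.AdicLinTop.Adic
import Mathlib

/-!
The completed tensor product `A ⊗̂ B` is `B[[X]] ⊗_{k[[X]]} A` when `A` is finite over `k[[X]]`.
-/

set_option autoImplicit false

universe u

namespace Groth.Ega4Algebra1

open IsLocalRing TensorProduct MvPowerSeries Groth.SGA7.PS

variable (k A B : Type u) [Field k] [CommRing A] [CommRing B] [Algebra k A] [Algebra k B]
  [IsNoetherianRing A] [IsNoetherianRing B] [IsLocalRing A] [IsLocalRing B]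
  [IsAdicComplete (maximalIdeal B) B] (n : ℕ)
  [Algebra (MvPowerSeries (Fin n) k) A] [IsScalarTower k (MvPowerSeries (Fin n) k) A]
  [Module.Finite (MvPowerSeries (Fin n) k) A]

set_option maxHeartbeats 1600000 in
set_option synthInstance.maxHeartbeats 80000 in
/-- The completed tensor product as a finite algebra over `B[[X]]`. -/
theorem exists_cTensor_equiv
    (hX : ∀ i, algebraMap (MvPowerSeries (Fin n) k) A (X i) ∈ maximalIdeal A) :
    ∃ e : EGA4.CTensor k A B ≃+* MvPowerSeries (Fin n) B ⊗[MvPowerSeries (Fin n) k] A,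
      ∀ (a : A) (b : B), e (AdicCompletion.of (EGA4.cTensorIdeal k A B) (A ⊗[k] B) (a ⊗ₜ b)) =
        (MvPowerSeries.C b : MvPowerSeries (Fin n) B) ⊗ₜ a := by
  classical
  set P := MvPowerSeries (Fin n) k
  set Q := MvPowerSeries (Fin n) B
  set T := Q ⊗[P] A
  set R := A ⊗[k] B
  set I : Ideal R := EGA4.cTensorIdeal k A B
  let inL : A →+* R := (Algebra.TensorProduct.includeLeft : A →ₐ[k] R).toRingHom
  let inR : B →+* R := (Algebra.TensorProduct.includeRight : B →ₐ[k] R).toRingHom
  have hIdef : I = (maximalIdeal A).map inL ⊔ (maximalIdeal B).map inR := rfl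
  have hPQ : ∀ p : P, algebraMap P Q p = MvPowerSeries.map (algebraMap k B) p := fun p => rfl
  have : IsScalarTower k P Q := IsScalarTower.of_algebraMap_eq fun c => by
    rw [hPQ, MvPowerSeries.algebraMap_apply, MvPowerSeries.algebraMap_apply, MvPowerSeries.map_C]
    simp
  have : IsScalarTower k B Q := IsScalarTower.of_algebraMap_eq fun c => by
    rw [MvPowerSeries.algebraMap_apply, MvPowerSeries.algebraMap_apply]
    simp
  -- the topology of `T`
  have hQc : IsAdicComplete (maximalIdeal Q) Q := Groth.ArtfunDeform.isAdicComplete_ps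
  have : IsNoetherianRing T := Algebra.FiniteType.isNoetherianRing Q T
  have hTc : IsAdicComplete (maximalIdeal Q) T := Groth.AdicLinTop.Adic.isAdicComplete_of_finite
  set J : Ideal T := (maximalIdeal Q).map (algebraMap Q T)
  have : IsAdicComplete J T := (IsAdicComplete.map_algebraMap_iff (S := T) (M := T) (maximalIdeal Q)).mpr hTc
  have hCmem : ∀ b ∈ maximalIdeal B, (MvPowerSeries.C b : Q) ∈ maximalIdeal Q := fun b hb => by
    rw [Groth.ArtfunDeform.mem_maximalIdeal_ps, constantCoeff_C]; exact hb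
  have hXmem : ∀ i, (X i : Q) ∈ maximalIdeal Q := fun i => by
    rw [Groth.ArtfunDeform.mem_maximalIdeal_ps, constantCoeff_X]; exact zero_mem _
  -- the map from the tensor product
  let f : R →ₐ[k] T := Algebra.TensorProduct.productMap
    ((Algebra.TensorProduct.includeRight : A →ₐ[P] T).restrictScalars k)
    (((Algebra.TensorProduct.includeLeft : Q →ₐ[P] T).restrictScalars k).comp (IsScalarTower.toAlgHom k B Q))
  have hf : ∀ a b, f (a ⊗ₜ b) = (MvPowerSeries.C b : Q) ⊗ₜ[P] a := fun a b => by
    show ((1 : Q) ⊗ₜ[P] a) * ((algebraMap B Q b) ⊗ₜ[P] (1 : A)) = _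
    rw [Algebra.TensorProduct.tmul_mul_tmul, one_mul, mul_one, MvPowerSeries.algebraMap_apply,
      Algebra.algebraMap_self, RingHom.id_apply]
  have hfI : I ≤ J.radical.comap f := by
    rw [hIdef]
    refine sup_le (Ideal.map_le_iff_le_comap.mpr fun a ha => ?_) (Ideal.map_le_iff_le_comap.mpr fun b hb => ?_)
    · show f (a ⊗ₜ 1) ∈ J.radical
      rw [hf, map_one]
      let iA : A →+* T := (Algebra.TensorProduct.includeRight : A →ₐ[P] T).toRingHom
      have hrad : maximalIdeal A ≤ ((varIdeal (Fin n) k).map (algebraMap P A)).radical := by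
        rw [Ideal.radical_eq_sInf]
        refine le_sInf fun q ⟨hq, hqp⟩ => ?_
        have := hqp
        have h1 : (varIdeal (Fin n) k) ≤ q.under P := Ideal.map_le_iff_le_comap.mp hq
        have h2 : q.under P = maximalIdeal P := by
          refine le_antisymm (le_maximalIdeal (Ideal.IsPrime.ne_top inferInstance)) ?_
          rw [maximalIdeal_eq_ker, ← Groth.Ega41Adic.varIdeal_eq_ker]
          exact h1
        have h3 : q.IsMaximal := Ideal.isMaximal_of_isIntegral_of_isMaximal_comap (R := P) q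
          (show (q.under P).IsMaximal by rw [h2]; infer_instance)
        exact (IsLocalRing.eq_maximalIdeal h3).ge
      obtain ⟨c, hc⟩ := hrad ha
      refine ⟨c, ?_⟩
      rw [Algebra.TensorProduct.tmul_pow, one_pow]
      have h4 : (varIdeal (Fin n) k).map (algebraMap P A) ≤ J.comap iA := by
        rw [varIdeal, Ideal.map_span, Ideal.span_le]
        rintro _ ⟨_, ⟨i, rfl⟩, rfl⟩
        show (1 : Q) ⊗ₜ[P] algebraMap P A (X i) ∈ J
        rw [Algebra.algebraMap_eq_smul_one, ← TensorProduct.smul_tmul, ← Algebra.algebraMap_eq_smul_one, hPQ,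
          MvPowerSeries.map_X]
        exact Ideal.mem_map_of_mem _ (hXmem i)
      exact h4 hc
    · show f (1 ⊗ₜ b) ∈ J.radical
      rw [hf]
      exact Ideal.le_radical (Ideal.mem_map_of_mem (algebraMap Q T) (hCmem b hb))
  have hfg : I.FG := Submodule.FG.sup (Ideal.FG.map (IsNoetherian.noetherian _) _) (Ideal.FG.map (IsNoetherian.noetherian _) _)
  have hfI' : I ≤ (J.comap f).radical := by rw [← Ideal.comap_radical]; exact hfI
  obtain ⟨c₀, hc₀⟩ := Ideal.exists_pow_le_of_le_radical_of_fg hfI' hfg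
  set c := c₀ + 1
  have hc : ∀ (m : ℕ), I ^ (c * m) ≤ (J ^ m).comap f := fun m => by
    rw [pow_mul]
    exact (Ideal.pow_right_mono ((Ideal.pow_le_pow_right (Nat.le_succ c₀)).trans hc₀) m).trans
      (Ideal.le_comap_pow f m)
  -- the levels
  have hlev : ∀ m : ℕ, ∃ ψ : T →+* R ⧸ I ^ m, ψ.comp (f : R →+* T) = Ideal.Quotient.mk (I ^ m) ∧
      ∀ t ∈ J ^ m, ψ t = 0 := by
    intro m
    set E := R ⧸ I ^ m
    let π : R →+* E := Ideal.Quotient.mk (I ^ m)
    set Im : Ideal E := I.map π
    have hIm : Im ^ m = ⊥ := by rw [← Ideal.map_pow]; exact Ideal.map_quotient_self _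
    let : Algebra B E := (π.comp inR).toAlgebra
    have : IsScalarTower k B E := IsScalarTower.of_algebraMap_eq fun x => by
      show π (algebraMap k R x) = π ((1 : A) ⊗ₜ algebraMap k B x)
      rw [← Algebra.TensorProduct.includeRight_apply, AlgHom.commutes]
    have hz : ∀ i, π (algebraMap P A (X i) ⊗ₜ (1 : B)) ∈ Im := fun i =>
      Ideal.mem_map_of_mem π (Ideal.mem_sup_left (Ideal.mem_map_of_mem inL (hX i)))
    obtain ⟨e, he, M, hM⟩ := Groth.Ega41Adic.exists_algHom_powerSeries (A := B) (E := E)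
      (fun i => π (algebraMap P A (X i) ⊗ₜ (1 : B))) fun i => ⟨m, by
        have := Ideal.pow_mem_pow (hz i) m
        rwa [hIm, Submodule.mem_bot] at this⟩
    let u1 : P →ₐ[k] E := ((Ideal.Quotient.mkₐ k (I ^ m)).comp Algebra.TensorProduct.includeLeft).comp (IsScalarTower.toAlgHom k P A)
    let u2 : P →ₐ[k] E := (e.restrictScalars k).comp (IsScalarTower.toAlgHom k P Q)
    have hu : u1 = u2 := by
      refine Groth.Ega41Adic.algHom_powerSeries_ext (m := max M m) (fun x hx => ?_) (fun x hx => ?_) fun i => ?_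
      · have h1 : varIdeal (Fin n) k ≤ Im.comap u1 := Ideal.span_le.mpr (by rintro _ ⟨i, rfl⟩; exact hz i)
        have h2 := Ideal.le_comap_pow u1 m (Ideal.pow_right_mono h1 m (Ideal.pow_le_pow_right (le_max_right M m) hx))
        rwa [Ideal.mem_comap, hIm, Submodule.mem_bot] at h2
      · refine hM _ ?_
        have h1 : (varIdeal (Fin n) k).map (IsScalarTower.toAlgHom k P Q) ≤ varIdeal (Fin n) B := by
          rw [varIdeal, Ideal.map_span, Ideal.span_le]
          rintro _ ⟨_, ⟨i, rfl⟩, rfl⟩
          show algebraMap P Q (X i) ∈ _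
          rw [hPQ, MvPowerSeries.map_X]
          exact X_mem i
        have h2 := Ideal.mem_map_of_mem (IsScalarTower.toAlgHom k P Q) (Ideal.pow_le_pow_right (le_max_left M m) hx)
        rw [Ideal.map_pow] at h2
        exact Ideal.pow_right_mono h1 M h2
      · show π (algebraMap P A (X i) ⊗ₜ (1 : B)) = e (algebraMap P Q (X i))
        rw [hPQ, MvPowerSeries.map_X, he]
    let eP : Q →ₐ[P] E :=
      { e.toRingHom with commutes' := fun p => (AlgHom.congr_fun hu p).symm }
    let aP : A →ₐ[P] E :=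
      { π.comp inL with commutes' := fun p => rfl }
    let ψ : T →ₐ[P] E := Algebra.TensorProduct.lift eP aP fun _ _ => Commute.all _ _
    refine ⟨ψ.toRingHom, ?_, ?_⟩
    · refine RingHom.ext fun r => ?_
      induction r using TensorProduct.induction_on with
      | zero => simp
      | tmul a b =>
        show ψ (f (a ⊗ₜ b)) = π (a ⊗ₜ b)
        rw [hf, Algebra.TensorProduct.lift_tmul]
        show e (MvPowerSeries.C b) * π (a ⊗ₜ (1 : B)) = _
        rw [show (MvPowerSeries.C b : Q) = algebraMap B Q b by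
          rw [MvPowerSeries.algebraMap_apply, Algebra.algebraMap_self, RingHom.id_apply], e.commutes]
        show π ((1 : A) ⊗ₜ b) * π (a ⊗ₜ (1 : B)) = _
        rw [← map_mul, Algebra.TensorProduct.tmul_mul_tmul, one_mul, mul_one]
      | add x y hx hy => rw [map_add, map_add, hx, hy]
    · have h1 : J ≤ Im.comap ψ.toRingHom := by
        refine Ideal.map_le_iff_le_comap.mpr fun q hq => ?_
        show ψ (algebraMap Q T q) ∈ Im
        rw [Algebra.TensorProduct.algebraMap_apply, Algebra.algebraMap_self, RingHom.id_apply,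
          Algebra.TensorProduct.lift_tmul, map_one, mul_one]
        show e q ∈ Im
        have h2 : varIdeal (Fin n) B ≤ Im.comap e := Ideal.span_le.mpr (by
          rintro _ ⟨i, rfl⟩; rw [SetLike.mem_coe, Ideal.mem_comap, he]; exact hz i)
        rw [← sub_add_cancel q (MvPowerSeries.C (constantCoeff q)), map_add]
        refine add_mem (h2 ((mem_varIdeal_iff _).mpr (by simp))) ?_
        rw [show (MvPowerSeries.C (constantCoeff q) : Q) = algebraMap B Q (constantCoeff q) by
          rw [MvPowerSeries.algebraMap_apply, Algebra.algebraMap_self, RingHom.id_apply], e.commutes]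
        exact Ideal.mem_map_of_mem π (Ideal.mem_sup_right
          (Ideal.mem_map_of_mem inR ((Groth.ArtfunDeform.mem_maximalIdeal_ps q).mp hq)))
      intro t ht
      have := Ideal.le_comap_pow ψ.toRingHom m (Ideal.pow_right_mono h1 m ht)
      rwa [Ideal.mem_comap, hIm, Submodule.mem_bot] at this
  choose ψ hψf hψJ using hlev
  have hψf' : ∀ m r, ψ m (f r) = Ideal.Quotient.mk (I ^ m) r := fun m r => RingHom.congr_fun (hψf m) r
  -- density
  have hdense : ∀ (m : ℕ) (t : T), ∃ r, t - f r ∈ J ^ m := by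
    intro m t
    induction t using TensorProduct.induction_on with
    | zero => exact ⟨0, by simp⟩
    | add x y hx hy =>
      obtain ⟨r, hr⟩ := hx
      obtain ⟨s, hs⟩ := hy
      exact ⟨r + s, by rw [map_add, add_sub_add_comm]; exact add_mem hr hs⟩
    | tmul q a =>
      have hpoly : ∀ (p : MvPolynomial (Fin n) B) (a : A), ∃ r, f r = ((p : Q) ⊗ₜ[P] a : T) := by
        intro p
        induction p using MvPolynomial.induction_on with
        | C b => exact fun a => ⟨a ⊗ₜ b, by rw [hf, MvPolynomial.coe_C]⟩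
        | add p q hp hq =>
          intro a
          obtain ⟨r, hr⟩ := hp a
          obtain ⟨s, hs⟩ := hq a
          exact ⟨r + s, by rw [map_add, hr, hs, MvPolynomial.coe_add, TensorProduct.add_tmul]⟩
        | mul_X p i hp =>
          intro a
          obtain ⟨r, hr⟩ := hp (algebraMap P A (X i) * a)
          refine ⟨r, ?_⟩
          rw [hr, MvPolynomial.coe_mul, MvPolynomial.coe_X, ← Algebra.smul_def, ← TensorProduct.smul_tmul,
            Algebra.smul_def, hPQ, MvPowerSeries.map_X, mul_comm]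
      obtain ⟨r, hr⟩ := hpoly (truncTotal m q) a
      refine ⟨r, ?_⟩
      rw [hr, ← TensorProduct.sub_tmul]
      have h1 : q - ((truncTotal m q : MvPolynomial (Fin n) B) : Q) ∈ maximalIdeal Q ^ m := by
        refine Ideal.pow_right_mono ?_ m (mem_varIdeal_pow m _ fun d hd => ?_)
        · exact Ideal.span_le.mpr (by rintro _ ⟨i, rfl⟩; exact hXmem i)
        · rw [map_sub, MvPolynomial.coeff_coe, coeff_truncTotal _ hd, sub_self]
      have h2 : (q - ((truncTotal m q : MvPolynomial (Fin n) B) : Q)) ⊗ₜ[P] a =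
          algebraMap Q T (q - ((truncTotal m q : MvPolynomial (Fin n) B) : Q)) * ((1 : Q) ⊗ₜ[P] a) := by
        rw [Algebra.TensorProduct.algebraMap_apply, Algebra.algebraMap_self, RingHom.id_apply,
          Algebra.TensorProduct.tmul_mul_tmul, mul_one, one_mul]
      rw [h2]
      refine Ideal.mul_mem_right _ _ ?_
      rw [← Ideal.map_pow]
      exact Ideal.mem_map_of_mem _ h1
  have hcompat : ∀ {m l : ℕ} (hle : m ≤ l), (Ideal.Quotient.factorPow I hle).comp (ψ l) = ψ m := by
    intro m l hle
    refine RingHom.ext fun t => ?_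
    obtain ⟨r, hr⟩ := hdense l t
    have h1 : ψ l t = Ideal.Quotient.mk _ r := by
      rw [← hψf', ← sub_eq_zero, ← map_sub]; exact hψJ l _ hr
    have h2 : ψ m t = Ideal.Quotient.mk _ r := by
      rw [← hψf', ← sub_eq_zero, ← map_sub]; exact hψJ m _ (Ideal.pow_le_pow_right hle hr)
    rw [RingHom.comp_apply, h1, h2]
    rfl
  let Ψ : T →+* EGA4.CTensor k A B := AdicCompletion.liftRingHom I ψ hcompat
  have hΨ : ∀ m t, AdicCompletion.evalₐ I m (Ψ t) = ψ m t := fun m t =>
    AdicCompletion.evalₐ_liftRingHom I ψ hcompat m t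
  have hinj : Function.Injective Ψ := by
    rw [injective_iff_map_eq_zero]
    intro t ht
    refine IsHausdorff.haus' (I := J) t fun m => ?_
    rw [SModEq.zero, smul_eq_mul, Ideal.mul_top]
    obtain ⟨r, hr⟩ := hdense (c * m) t
    have h1 : Ideal.Quotient.mk (I ^ (c * m)) r = 0 := by
      rw [← hψf']
      have h0 : ψ (c * m) t = 0 := by rw [← hΨ, ht, map_zero]
      have h3 : ψ (c * m) t = ψ (c * m) (f r) := by rw [← sub_eq_zero, ← map_sub]; exact hψJ _ _ hr
      exact h3.symm.trans h0
    have h2 : f r ∈ J ^ m := hc m (Ideal.Quotient.eq_zero_iff_mem.mp h1)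
    rw [← sub_add_cancel t (f r)]
    exact add_mem (Ideal.pow_le_pow_right (Nat.le_mul_of_pos_left m (Nat.succ_pos c₀)) hr) h2
  have hsurj : Function.Surjective Ψ := by
    intro x
    obtain ⟨s, rfl⟩ := AdicCompletion.mk_surjective I R x
    have hs : ∀ {m l : ℕ}, m ≤ l → s.val m - s.val l ∈ I ^ m := fun {m l} hml => by
      have := s.2 hml
      rwa [SModEq.sub_mem, smul_eq_mul, Ideal.mul_top] at this
    obtain ⟨t, ht⟩ := IsPrecomplete.prec' (I := J) (M := T) (fun m => f (s.val (c * m))) fun {m l} hml => by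
      rw [SModEq.sub_mem, smul_eq_mul, Ideal.mul_top, ← map_sub]
      exact hc m (hs (Nat.mul_le_mul_left c hml))
    refine ⟨t, AdicCompletion.ext_evalₐ fun m => ?_⟩
    have h1 := ht m
    rw [SModEq.sub_mem, smul_eq_mul, Ideal.mul_top] at h1
    rw [hΨ, AdicCompletion.evalₐ_mk, ← sub_eq_zero, ← neg_sub, neg_eq_zero]
    have h2 : ψ m (f (s.val (c * m))) = ψ m t := by
      rw [← sub_eq_zero, ← map_sub]; exact hψJ m _ h1
    rw [← h2, hψf', ← map_sub, Ideal.Quotient.eq_zero_iff_mem]
    exact hs (Nat.le_mul_of_pos_left m (Nat.succ_pos c₀))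
  refine ⟨(RingEquiv.ofBijective Ψ ⟨hinj, hsurj⟩).symm, fun a b => ?_⟩
  rw [RingEquiv.symm_apply_eq, RingEquiv.ofBijective_apply, ← hf]
  refine AdicCompletion.ext_evalₐ fun m => ?_
  rw [hΨ, hψf', AdicCompletion.evalₐ_of]

/-- The completed tensor product as a finite algebra over `B[[X]]`. -/
theorem nonempty_cTensor_equiv
    (hX : ∀ i, algebraMap (MvPowerSeries (Fin n) k) A (X i) ∈ maximalIdeal A) :
    Nonempty (EGA4.CTensor k A B ≃+* MvPowerSeries (Fin n) B ⊗[MvPowerSeries (Fin n) k] A) :=
  ⟨(exists_cTensor_equiv k A B n hX).choose⟩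

end Groth.Ega4Algebra1
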