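import Groth.Agent.SGA7.PowerSeries
import Groth.Agent.Calg6.PowerSeries
import Groth.Agent.FlatMorOne.LocalCriterion
import Mathlib

/-!
`B[[X]]` is flat over `R[[X]]` for a flat Noetherian algebra `B` over a Noetherian ring `R`;
power series over reduced rings are reduced.
-/

set_option autoImplicit false

universe u

namespace Groth.Ega4Algebra1

open TensorProduct MvPowerSeries Groth.SGA7.PS

/-- Power series over a reduced ring form a reduced ring. -/
theorem isReduced_mvPowerSeries (σ : Type*) (B : Type u) [CommRing B] [IsReduced B] :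
    IsReduced (MvPowerSeries σ B) := by
  refine ⟨fun f hf => MvPowerSeries.ext fun d => ?_⟩
  rw [map_zero]
  refine IsReduced.eq_zero _ (nilpotent_iff_mem_prime.mpr fun q hq => ?_)
  have h1 : MvPowerSeries.map (σ := σ) (Ideal.Quotient.mk q) f = 0 := IsReduced.eq_zero _ (hf.map _)
  have h2 := congrArg (MvPowerSeries.coeff d) h1
  rw [MvPowerSeries.coeff_map, map_zero, Ideal.Quotient.eq_zero_iff_mem] at h2
  exact h2

variable (σ : Type) [Fintype σ] (R : Type u) [CommRing R]

/-- Powers of the ideal of variables are generated by polynomials. -/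
theorem varIdeal_pow_eq_map (n : ℕ) :
    varIdeal σ R ^ n = (MvPolynomial.idealOfVars σ R ^ n).map
      (MvPolynomial.coeToMvPowerSeries.ringHom : MvPolynomial σ R →+* MvPowerSeries σ R) := by
  rw [Ideal.map_pow]
  congr 1
  rw [varIdeal, MvPolynomial.idealOfVars, Ideal.map_span, ← Set.range_comp]
  congr 1
  exact congrArg Set.range (funext fun i => (MvPolynomial.coe_X i).symm)

attribute [local instance] MvPolynomial.algebraMvPolynomial

set_option maxHeartbeats 800000 in
/-- `B[[X]]` is flat over `R[[X]]`. -/
theorem flat_mvPowerSeries [IsNoetherianRing R] (B : Type u) [CommRing B] [IsNoetherianRing B] [Algebra R B]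
    [Module.Flat R B] : Module.Flat (MvPowerSeries σ R) (MvPowerSeries σ B) := by
  classical
  set Rx := MvPolynomial σ R
  set Bx := MvPolynomial σ B
  set P := MvPowerSeries σ R
  set Q := MvPowerSeries σ B
  have htow : IsScalarTower Rx Bx Q := IsScalarTower.of_algebraMap_eq fun p => by
    show MvPowerSeries.map (algebraMap R B) (p : P) =
      MvPowerSeries.map (algebraMap B B) ((MvPolynomial.map (algebraMap R B) p : Bx) : Q)
    ext d
    simp [MvPowerSeries.coeff_map, MvPolynomial.coeff_coe, MvPolynomial.coeff_map]
  have htow2 : IsScalarTower Rx P Q := IsScalarTower.of_algebraMap_eq fun p => by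
    show MvPowerSeries.map (algebraMap R B) (p : P) =
      MvPowerSeries.map (algebraMap R B) (MvPowerSeries.map (algebraMap R R) (p : P))
    ext d
    simp [MvPowerSeries.coeff_map]
  have hBxRx : Module.Flat Rx Bx :=
    Module.Flat.of_linearEquiv (Algebra.IsPushout.equiv R Rx B Bx).toLinearEquiv.symm
  have hQBx : Module.Flat Bx Q :=
    have := AdicCompletion.flat_of_isNoetherian (MvPolynomial.idealOfVars σ B)
    Module.Flat.of_linearEquiv (toAdicCompletionAlgEquiv σ B).toLinearEquiv
  have hQRx : Module.Flat Rx Q := Module.Flat.trans Rx Bx Q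
  have := Calg6.isAdicComplete_varIdeal (σ := σ) (k := B)
  refine Groth.FlatMorOne.flat_of_forall_flat_mod_pow (S := Q) (varIdeal σ R) ?_ fun k _ J _ => ?_
  · refine le_trans ?_ (IsAdicComplete.le_jacobson_bot (varIdeal σ B))
    rw [varIdeal, Ideal.map_span, varIdeal, ← Set.range_comp]
    refine Ideal.span_mono ?_
    rintro _ ⟨i, rfl⟩
    exact ⟨i, (MvPowerSeries.map_X _ i).symm⟩
  · set N := P ⧸ (varIdeal σ R ^ k : Ideal P)
    have hkill : ∀ p ∈ varIdeal σ R ^ k, ∀ x : N, p • x = 0 := fun p hp x => by
      obtain ⟨x, rfl⟩ := Submodule.Quotient.mk_surjective _ x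
      rw [← Submodule.Quotient.mk_smul, Submodule.Quotient.mk_eq_zero, smul_eq_mul]
      exact Ideal.mul_mem_right _ _ hp
    have hcompat : ∀ (W : Submodule P N), CompatibleSMul Rx P Q W := fun W => ⟨fun p q w => by
      have hmem : p - algebraMap Rx P (truncTotal k p) ∈ varIdeal σ R ^ k :=
        mem_varIdeal_pow k _ fun d hd => by
          rw [map_sub, sub_eq_zero, show algebraMap Rx P (truncTotal k p) = ((truncTotal k p : Rx) : P) from rfl,
            MvPolynomial.coeff_coe, coeff_truncTotal _ hd]
      have hzero : ∀ i ∈ varIdeal σ R ^ k, ∀ q : Q, (i • q) ⊗ₜ[Rx] w = 0 := by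
        intro i hi
        rw [varIdeal_pow_eq_map] at hi
        induction hi using Submodule.span_induction with
        | mem x hx =>
          obtain ⟨r, hr, rfl⟩ := hx
          intro q
          rw [show (MvPolynomial.coeToMvPowerSeries.ringHom r : P) • q = r • q from algebraMap_smul P r q,
            TensorProduct.smul_tmul, show r • w = 0 from Subtype.ext (by
              rw [Submodule.coe_smul_of_tower, ← algebraMap_smul P r (w : N)]
              exact hkill _ (varIdeal_pow_eq_map σ R k ▸ Ideal.mem_map_of_mem _ hr) _), TensorProduct.tmul_zero]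
        | zero => intro q; rw [zero_smul, TensorProduct.zero_tmul]
        | add x y _ _ hx hy => intro q; rw [add_smul, TensorProduct.add_tmul, hx, hy, add_zero]
        | smul a x _ hx => intro q; rw [smul_eq_mul, mul_comm, mul_smul]; exact hx (a • q)
      have hw : (p - algebraMap Rx P (truncTotal k p)) • w = 0 := Subtype.ext (hkill _ hmem _)
      calc (p • q) ⊗ₜ[Rx] w
          = (algebraMap Rx P (truncTotal k p) • q) ⊗ₜ[Rx] w + ((p - algebraMap Rx P (truncTotal k p)) • q) ⊗ₜ[Rx] w := by
            rw [← TensorProduct.add_tmul, ← add_smul, add_sub_cancel]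
        _ = ((truncTotal k p : Rx) • q) ⊗ₜ[Rx] w := by rw [hzero _ hmem q, add_zero, algebraMap_smul]
        _ = q ⊗ₜ[Rx] ((truncTotal k p : Rx) • w) := TensorProduct.smul_tmul _ _ _
        _ = q ⊗ₜ[Rx] (p • w) := by
            have h2 : p • (w : N) = algebraMap Rx P (truncTotal k p) • (w : N) :=
              sub_eq_zero.mp ((sub_smul p _ (w : N)).symm.trans (congrArg Subtype.val hw))
            rw [algebraMap_smul] at h2
            rw [show p • w = (truncTotal k p : Rx) • w from Subtype.ext h2]⟩
    set W := Submodule.map (varIdeal σ R ^ k).mkQ J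
    have := hcompat W
    have := hcompat ⊤
    let eW := TensorProduct.equivOfCompatibleSMul Rx P Rx Q W
    have hinj : Function.Injective ((W.subtype.restrictScalars Rx).lTensor Q) :=
      Module.Flat.lTensor_preserves_injective_linearMap _ Subtype.val_injective
    intro a b hab
    obtain ⟨a, rfl⟩ := eW.symm.surjective a
    obtain ⟨b, rfl⟩ := eW.symm.surjective b
    congr 1
    apply hinj
    let s : Q ⊗[P] N →+ Q ⊗[Rx] (⊤ : Submodule P N) :=
      ((TensorProduct.equivOfCompatibleSMul Rx P Rx Q (⊤ : Submodule P N)).toLinearMap.toAddMonoidHom).comp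
        ((Submodule.topEquiv (R := P) (M := N)).symm.toLinearMap.lTensor Q).toAddMonoidHom
    let s' : Q ⊗[Rx] (⊤ : Submodule P N) →+ Q ⊗[Rx] N :=
      (((Submodule.topEquiv (R := P) (M := N)).toLinearMap.restrictScalars Rx).lTensor Q).toAddMonoidHom
    have c : ∀ z : Q ⊗[Rx] W, s' (s (W.subtype.lTensor Q (eW.symm z))) = (W.subtype.restrictScalars Rx).lTensor Q z := by
      intro z
      induction z using TensorProduct.induction_on with
      | zero => simp
      | tmul q w => rfl
      | add x y hx hy => simp only [map_add, hx, hy]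
    rw [← c, ← c, hab]

end Groth.Ega4Algebra1
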