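import Groth.Agent.Ega4Algebra1.SeparableNormalization
import Groth.Agent.Ega4Algebra1.CTensorPowerSeries
import Groth.Agent.Ega4Algebra1.PowerSeriesFlat
import Groth.Agent.FlatMorOne.TorZero
import Groth.Agent.FlatMorOne.LocalCriterion
import Mathlib

/-!
The completed tensor product is semi-local Noetherian, flat over both factors.
-/

set_option autoImplicit false

universe u

namespace Groth.Ega4Algebra1

open IsLocalRing TensorProduct MvPowerSeries Groth.SGA7.PS

/-- `B[[X]]` is flat over `B`. -/
theorem flat_powerSeries_base (σ : Type) [Fintype σ] (B : Type u) [CommRing B] [IsNoetherianRing B] :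
    Module.Flat B (MvPowerSeries σ B) := by
  have := AdicCompletion.flat_of_isNoetherian (MvPolynomial.idealOfVars σ B)
  have : Module.Flat (MvPolynomial σ B) (MvPowerSeries σ B) :=
    Module.Flat.of_linearEquiv (toAdicCompletionAlgEquiv σ B).toLinearEquiv
  have : IsScalarTower B (MvPolynomial σ B) (MvPowerSeries σ B) := IsScalarTower.of_algebraMap_eq fun b => by
    show (MvPowerSeries.map (algebraMap B B)) (C b) =
      MvPowerSeries.map (algebraMap B B) ((MvPolynomial.C b : MvPolynomial σ B) : MvPowerSeries σ B)
    rw [MvPolynomial.coe_C]
  exact Module.Flat.trans B (MvPolynomial σ B) (MvPowerSeries σ B)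

variable {k A B : Type u} [Field k] [CommRing A] [CommRing B] [Algebra k A] [Algebra k B]
  [IsNoetherianRing B] [IsLocalRing B] {n : ℕ}
  [Algebra (MvPowerSeries (Fin n) k) A] [Module.Finite (MvPowerSeries (Fin n) k) A]

set_option maxHeartbeats 1600000 in
set_option synthInstance.maxHeartbeats 80000 in
/-- `B[[X]] ⊗_{k[[X]]} A` is flat over `B`. -/
theorem flat_powerSeries_tensor :
    Module.Flat B (MvPowerSeries (Fin n) B ⊗[MvPowerSeries (Fin n) k] A) := by
  classical
  set P := MvPowerSeries (Fin n) k
  set Q := MvPowerSeries (Fin n) B
  set T := Q ⊗[P] A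
  set κ := ResidueField B
  set m := maximalIdeal B
  have : IsNoetherianRing T := Algebra.FiniteType.isNoetherianRing Q T
  have : Module.Flat B Q := flat_powerSeries_base (Fin n) B
  have hκ : Module.Flat P (MvPowerSeries (Fin n) κ) := flat_mvPowerSeries (Fin n) k κ
  let g : Q →ₗ[P] MvPowerSeries (Fin n) κ :=
    { toFun := MvPowerSeries.map (residue B)
      map_add' := map_add _
      map_smul' := fun p q => by
        rw [RingHom.id_apply, Algebra.smul_def, Algebra.smul_def, map_mul]
        congr 1 }
  have hg : Function.Surjective g := fun f => by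
    choose c hc using fun d => residue_surjective (R := B) (coeff d f)
    exact ⟨(c : Q), MvPowerSeries.ext fun d => hc d⟩
  set W : Submodule P Q := LinearMap.ker g
  have hW : Function.Injective (W.subtype.lTensor A) := by
    exact FlatMorOne.lTensor_injective_of_presentation (Finsupp.linearCombination P (id : A → A))
      (FlatMorOne.linearCombination_id_surjective' (R := P) (M := A)) (g := g) Subtype.val_injective
      (LinearMap.exact_subtype_ker_map g) hg
      (Module.Flat.lTensor_preserves_injective_linearMap _ Subtype.val_injective)
  have hWm : (W.map (LinearMap.id : Q →ₗ[P] Q) : Set Q) = ((m.map (algebraMap B Q) : Ideal Q) : Set Q) := by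
    rw [Submodule.map_id]
    refine Set.ext fun q => ⟨fun hq => ?_, fun hq => ?_⟩
    · -- coefficientwise in `m`
      obtain ⟨s, hs⟩ : ∃ s : Finset B, Ideal.span (s : Set B) = m := IsNoetherian.noetherian m
      have hc : ∀ d, coeff d q ∈ Ideal.span (s : Set B) := fun d => by
        rw [hs, ← residue_eq_zero_iff]
        have := congrArg (coeff d) (LinearMap.mem_ker.mp hq)
        rw [map_zero] at this
        rw [← MvPowerSeries.coeff_map]; exact this
      simp_rw [Submodule.mem_span_finset', smul_eq_mul] at hc
      choose c hc using hc
      let cq : s → Q := fun a d => c d a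
      have hcq : ∀ a d, coeff d (cq a) = c d a := fun _ _ => rfl
      have hq' : q = ∑ a : s, C (a : B) * cq a := MvPowerSeries.ext fun d => by
        rw [map_sum]
        rw [← hc d]
        exact Finset.sum_congr rfl fun a _ => (coeff_C_mul d (cq a) (a : B) |>.trans (mul_comm _ _)).symm
      rw [hq', SetLike.mem_coe]
      refine Ideal.sum_mem _ fun a _ => Ideal.mul_mem_right _ _ ?_
      have : (C (a : B) : Q) = algebraMap B Q a := by
        rw [MvPowerSeries.algebraMap_apply, Algebra.algebraMap_self, RingHom.id_apply]
      rw [this]
      exact Ideal.mem_map_of_mem _ (hs ▸ Ideal.subset_span a.2)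
    · have h1 : m.map (algebraMap B Q) ≤ RingHom.ker (MvPowerSeries.map (residue B) : Q →+* _) :=
        Ideal.map_le_iff_le_comap.mpr fun b hb => by
          show MvPowerSeries.map (residue B) (algebraMap B Q b) = 0
          rw [MvPowerSeries.algebraMap_apply, Algebra.algebraMap_self, RingHom.id_apply, MvPowerSeries.map_C,
            (residue_eq_zero_iff b).mpr hb, map_zero]
      exact h1 hq
  rw [Submodule.map_id] at hWm
  -- `m ⊗ T → T` is injective
  have h1 : Function.Injective (m.subtype.rTensor T) := by
    set I : Ideal Q := m.map (algebraMap B Q)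
    let l : I →ₗ[P] W := (I.restrictScalars P).subtype.codRestrict W fun x => by
      show ((x : Q)) ∈ (W : Set Q)
      rw [hWm]
      exact x.2
    have hl : Function.Bijective l := by
      refine ⟨fun x y h => Subtype.ext (congrArg (fun w : W => (w : Q)) h), fun w => ?_⟩
      exact ⟨⟨w, by show (w : Q) ∈ (I : Set Q); rw [← hWm]; exact w.2⟩, rfl⟩
    have hI : Function.Injective ((I.subtype.restrictScalars P).rTensor A) := by
      rw [← LinearMap.lTensor_inj_iff_rTensor_inj]
      have : (I.subtype.restrictScalars P) = W.subtype ∘ₗ l := rfl
      rw [this, LinearMap.lTensor_comp]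
      exact hW.comp ((LinearEquiv.ofBijective l hl).lTensor A).injective
    let v : m →ₗ[B] I :=
      { toFun := fun b => ⟨algebraMap B Q b, Ideal.mem_map_of_mem _ b.2⟩
        map_add' := fun a b => Subtype.ext (map_add _ _ _)
        map_smul' := fun r b => Subtype.ext (by
          show algebraMap B Q (r * b) = r • algebraMap B Q b
          rw [map_mul, Algebra.smul_def]) }
    -- the linearisation `Q ⊗ m → I` is bijective
    let φ : Q ⊗[B] m →ₗ[Q] I := LinearMap.liftBaseChange Q v
    have hφ : Function.Bijective φ := by
      constructor
      · have h2 : Function.Injective (m.subtype.lTensor Q) :=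
          Module.Flat.lTensor_preserves_injective_linearMap _ Subtype.val_injective
        have h3 : ∀ z, (φ z : Q) = TensorProduct.rid B Q (m.subtype.lTensor Q z) := by
          intro z
          induction z using TensorProduct.induction_on with
          | zero => simp
          | tmul q b => simp [φ, v, Algebra.smul_def, mul_comm]
          | add x y hx hy => simp [map_add, hx, hy]
        intro x y hxy
        exact h2 ((TensorProduct.rid B Q).injective ((h3 x).symm.trans ((congrArg Subtype.val hxy).trans (h3 y))))
      · rintro ⟨q, hq⟩
        induction hq using Submodule.span_induction with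
        | mem x hx =>
          obtain ⟨b, hb, rfl⟩ := hx
          exact ⟨1 ⊗ₜ ⟨b, hb⟩, Subtype.ext (by simp [φ, v])⟩
        | zero => exact ⟨0, Subtype.ext (by simp)⟩
        | add x y _ _ hx hy =>
          obtain ⟨a, ha⟩ := hx
          obtain ⟨b, hb⟩ := hy
          exact ⟨a + b, by rw [map_add, ha, hb]; rfl⟩
        | smul c x _ hx =>
          obtain ⟨a, ha⟩ := hx
          exact ⟨c • a, by rw [map_smul, ha]; rfl⟩
    let e1 : m ⊗[B] T →ₗ[B] T ⊗[B] m := (TensorProduct.comm B m T).toLinearMap
    let e2 := (AlgebraTensorModule.cancelBaseChange B Q Q T m).symm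
    let e3 := TensorProduct.congr (R := Q) (LinearEquiv.refl Q T) (LinearEquiv.ofBijective φ hφ)
    let e4 := TensorProduct.comm Q T I
    let e5 := AlgebraTensorModule.cancelBaseChange P Q Q I A
    have hcomm : ∀ z, (I.subtype.restrictScalars P).rTensor A (e5 (e4 (e3 (e2 (e1 z))))) =
        TensorProduct.lid B T (m.subtype.rTensor T z) := by
      intro z
      induction z using TensorProduct.induction_on with
      | zero => simp
      | tmul b t =>
        induction t using TensorProduct.induction_on with
        | zero => simp
        | tmul q a =>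
          simp [e1, e2, e3, e4, e5, φ, v]
          rw [AlgebraTensorModule.cancelBaseChange_tmul]
          simp
          rw [TensorProduct.smul_tmul', Algebra.smul_def, mul_comm]
        | add x y hx hy => simp only [tmul_add, map_add, hx, hy]
      | add x y hx hy => simp only [map_add, hx, hy]
    intro x y hxy
    have h4 := hI ((hcomm x).trans ((congrArg _ hxy).trans (hcomm y).symm))
    exact (TensorProduct.comm B m T).injective (e2.injective (e3.injective (e4.injective (e5.injective h4))))
  have : Module.Flat (B ⧸ m) ((B ⧸ m) ⊗[B] T) := FlatMorOne.flat_residue_quotient B _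
  refine FlatMorOne.flat_of_rTensor_injective (S := Q) m ?_ h1
  rw [IsLocalRing.jacobson_eq_maximalIdeal ⊥ bot_ne_top, Ideal.map_le_iff_le_comap]
  intro b hb
  rw [Ideal.mem_comap, MvPowerSeries.algebraMap_apply, Algebra.algebraMap_self, RingHom.id_apply,
    IsLocalRing.mem_maximalIdeal, mem_nonunits_iff, MvPowerSeries.isUnit_iff_constantCoeff, constantCoeff_C]
  exact hb

end Groth.Ega4Algebra1
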