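import Groth.Agent.Ega4Algebra1.J2

/-!
Fields, Dedekind domains of characteristic zero and semilocal rings of dimension ≤ 1 are J-2.
-/

universe u

namespace Groth.Ega4Algebra1

open EGA4

theorem bot_mem_regLocus (A : Type u) [CommRing A] [IsDomain A] [IsNoetherianRing A] :
    (⟨⊥, Ideal.isPrime_bot⟩ : PrimeSpectrum A) ∈ regLocus A :=
  isRegularLocalRing_of_maximalIdeal_eq_bot
    ((Localization.AtPrime.map_eq_maximalIdeal (I := (⊥ : Ideal A))).symm.trans Ideal.map_bot)

theorem exists_open_regLocus_of_isField (A : Type u) [CommRing A] [IsDomain A] [IsNoetherianRing A] (hA : IsField A) :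
    ∃ U : Set (PrimeSpectrum A), IsOpen U ∧ U.Nonempty ∧ U ⊆ regLocus A := by
  let := hA.toField
  refine ⟨Set.univ, isOpen_univ, ⟨⟨⊥, Ideal.isPrime_bot⟩, trivial⟩, fun q _ => ?_⟩
  have : q = ⟨⊥, Ideal.isPrime_bot⟩ := PrimeSpectrum.ext ((Ideal.eq_bot_or_top q.asIdeal).resolve_right q.isPrime.ne_top)
  rw [this]
  exact bot_mem_regLocus A

theorem isJ2_field (k : Type u) [Field k] : IsJ2 k :=
  (isJ2_iff k).mpr fun A' _ _ _ _ =>
    have := IsNoetherianRing.of_finite k A'
    exists_open_regLocus_of_isField A' (isField_of_isIntegral_of_isField' (R := k) (Field.toIsField k))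

theorem isJ2_of_isDedekindDomain_charZero (A : Type u) [CommRing A] [IsDedekindDomain A] [CharZero A] :
    IsJ2 A := (isJ2_iff A).mpr fun A' _ _ _ _ => by
  have := IsNoetherianRing.of_finite A A'
  by_cases hker : RingHom.ker (algebraMap A A') = ⊥
  · have : FaithfulSMul A A' :=
      (faithfulSMul_iff_algebraMap_injective _ _).mpr ((RingHom.injective_iff_ker_eq_bot _).mpr hker)
    let _ : Algebra (FractionRing A) (FractionRing A') := FractionRing.liftAlgebra A (FractionRing A')
    have : IsScalarTower A (FractionRing A) (FractionRing A') := FractionRing.isScalarTower_liftAlgebra A (FractionRing A')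
    have : CharZero (FractionRing A) := IsFractionRing.charZero A
    have := Groth.Ega41Sep.formallySmooth_charZero (FractionRing A) (FractionRing A')
    have : Algebra.FormallyEtale A (FractionRing A) :=
      Algebra.FormallyEtale.of_isLocalization (Rₘ := FractionRing A) (nonZeroDivisors A)
    have : Algebra.FormallySmooth A (FractionRing A') := Algebra.FormallySmooth.comp A (FractionRing A) _
    exact exists_open_regLocus_of_formallySmooth A A' (FractionRing A') ⟨Set.univ, isOpen_univ,
      ⟨⟨⊥, Ideal.isPrime_bot⟩, trivial⟩, fun q _ => IsRegularRing.isRegularLocalRing_localization _⟩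
  · refine exists_open_regLocus_of_isField A' ?_
    set P := RingHom.ker (algebraMap A A')
    have : P.IsPrime := RingHom.ker_isPrime _
    have : P.IsMaximal := ‹P.IsPrime›.isMaximal hker
    let _ : Algebra (A ⧸ P) A' := (RingHom.kerLift (algebraMap A A')).toAlgebra
    have : IsScalarTower A (A ⧸ P) A' := IsScalarTower.of_algebraMap_eq fun a => rfl
    have : Module.Finite (A ⧸ P) A' := Module.Finite.of_restrictScalars_finite A _ _
    exact isField_of_isIntegral_of_isField' (R := A ⧸ P) ((Ideal.Quotient.maximal_ideal_iff_isField_quotient P).mp ‹_›)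

theorem isJ2_of_semilocal_dim_le_one (A : Type u) [CommRing A] [IsNoetherianRing A]
    (hsl : {I : Ideal A | I.IsMaximal}.Finite) (hdim : ringKrullDim A ≤ 1) : IsJ2 A :=
  (isJ2_iff A).mpr fun A' _ _ _ _ => by
  have := IsNoetherianRing.of_finite A A'
  have : Ring.KrullDimLE 1 A := by rwa [Ring.krullDimLE_iff]
  have hfin : (Set.univ : Set (PrimeSpectrum A)).Finite := by
    have hmin := minimalPrimes.finite_of_isNoetherianRing A
    refine Set.Finite.of_finite_image ((hmin.union hsl).subset ?_) (fun x _ y _ e => PrimeSpectrum.ext e)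
    rintro _ ⟨p, -, rfl⟩
    exact Ring.krullDimLE_one_iff.mp ‹_› p.asIdeal p.isPrime
  have hfin' : (Set.univ : Set (PrimeSpectrum A')).Finite := by
    have : ∀ p : PrimeSpectrum A, (PrimeSpectrum.comap (algebraMap A A') ⁻¹' {p}).Finite := fun p =>
      Algebra.QuasiFinite.finite_comap_preimage_singleton p
    have h := hfin.biUnion fun p _ => this p
    exact h.subset fun q _ => Set.mem_biUnion (Set.mem_univ _) (Set.mem_singleton _)
  refine ⟨{⟨⊥, Ideal.isPrime_bot⟩}, ?_, ⟨_, rfl⟩, fun q hq => by rw [Set.mem_singleton_iff.mp hq]; exact bot_mem_regLocus A'⟩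
  have hcl : IsClosed (⋃ q ∈ {q : PrimeSpectrum A' | q.asIdeal ≠ ⊥}, closure {q}) :=
    (hfin'.subset (Set.subset_univ _)).isClosed_biUnion fun _ _ => isClosed_closure
  convert! hcl.isOpen_compl using 1
  ext q
  simp only [Set.mem_singleton_iff, Set.mem_compl_iff, Set.mem_iUnion, not_exists]
  constructor
  · rintro rfl x hx hmem
    rw [PrimeSpectrum.closure_singleton, PrimeSpectrum.mem_zeroLocus] at hmem
    exact hx (le_bot_iff.mp hmem)
  · intro h
    by_contra hne
    exact h q (fun e => hne (PrimeSpectrum.ext e)) (subset_closure rfl)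

end Groth.Ega4Algebra1
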