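import Groth.Prelude.Def_EGA4b
import Groth.Agent.Ega4Algebra1.J2Examples
import Groth.Agent.Ega4Algebra1.RegularCatenary
import Groth.Agent.PropsBasic.GRingMaximal
import Groth.Agent.Ega4Algebra2.GRingComplete
import Groth.Agent.GrpschAbsch.PerfectReduced
import Groth.Agent.Calg1.CompletionLocal
import Groth.Agent.S9256
import Groth.Agent.VarietyBC.TensorGeom
import Mathlib

/-!
# Dedekind domains of characteristic zero are excellent
-/

set_option autoImplicit false

universe u

namespace Groth.Ega4Algebra1

open TensorProduct IsLocalRing

/-- The completion map of a discrete valuation ring of characteristic zero is regular. -/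
theorem isRegularHom_cpl_of_isDiscreteValuationRing (A : Type u) [CommRing A] [IsDomain A]
    [IsDiscreteValuationRing A] [CharZero A] : CAlg.IsRegularHom A (EGA4.Cpl A) := by
  let C := EGA4.Cpl A
  obtain ⟨hdom, hdvr⟩ := (Groth.Calg1.isDVR_iff_adicCompletion A).mp ⟨inferInstance, inferInstance⟩
  have := hdom
  have := hdvr
  have : Module.Flat A C := AdicCompletion.flat_of_isNoetherian _
  refine ⟨inferInstance, fun q _ => ?_⟩
  let K := q.ResidueField
  by_cases hq : q = ⊥
  · have hinj : Function.Injective (algebraMap A K) := by
      rw [RingHom.injective_iff_ker_eq_bot]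
      exact (Ideal.ker_algebraMap_residueField q).trans hq
    have : CharZero K := charZero_of_injective_algebraMap hinj
    have hC : Function.Injective (algebraMap A C) := by
      have : IsLocalHom (algebraMap A C) := by
        refine ((local_hom_TFAE _).out 0 2).mpr ?_
        rw [AdicCompletion.maximalIdeal_eq_map]
      have : Module.FaithfullyFlat A C := Module.FaithfullyFlat.of_flat_of_isLocalHom
      exact FaithfulSMul.algebraMap_injective A C
    subst hq
    let M := Algebra.algebraMapSubmonoid C (nonZeroDivisors A)
    have : IsFractionRing A K := by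
      have : IsLocalization.AtPrime (Localization.AtPrime (⊥ : Ideal A)) (⊥ : Ideal A) := inferInstance
      have e : (⊥ : Ideal A).primeCompl = nonZeroDivisors A := by
        ext x
        simp [Ideal.primeCompl, mem_nonZeroDivisors_iff_ne_zero]
      have h1 : IsFractionRing A (Localization.AtPrime (⊥ : Ideal A)) := by
        unfold IsFractionRing
        rw [← e]
        infer_instance
      have hbot : maximalIdeal (Localization.AtPrime (⊥ : Ideal A)) = ⊥ :=
        (Localization.AtPrime.map_eq_maximalIdeal (I := (⊥ : Ideal A))).symm.trans Ideal.map_bot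
      have hinj' : Function.Injective (residue (Localization.AtPrime (⊥ : Ideal A))) := by
        rw [RingHom.injective_iff_ker_eq_bot, ker_residue, hbot]
      exact IsLocalization.isLocalization_of_algEquiv (nonZeroDivisors A)
        (AlgEquiv.ofBijective (IsScalarTower.toAlgHom A (Localization.AtPrime (⊥ : Ideal A)) K)
          ⟨hinj', residue_surjective⟩)
    have : IsLocalization M (C ⊗[A] K) := IsLocalization.tensor K (nonZeroDivisors A)
    have hM : M ≤ nonZeroDivisors C := by
      rintro _ ⟨a, ha, rfl⟩
      exact mem_nonZeroDivisors_of_ne_zero ((map_ne_zero_iff _ hC).mpr (nonZeroDivisors.ne_zero ha))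
    have : IsDomain (C ⊗[A] K) := IsLocalization.isDomain_of_le_nonZeroDivisors (C ⊗[A] K) hM
    obtain ⟨ϖ, hϖ⟩ := IsDiscreteValuationRing.exists_irreducible A
    have hirr : Irreducible (algebraMap A C ϖ) := by
      refine (IsDiscreteValuationRing.irreducible_iff_uniformizer _).mpr ?_
      refine AdicCompletion.maximalIdeal_eq_map.trans ((congrArg (Ideal.map (algebraMap A C)) hϖ.maximalIdeal_eq).trans ?_)
      rw [Ideal.map_span, Set.image_singleton]
    have hfield : IsField (C ⊗[A] K) := by
      refine ⟨exists_pair_ne _, mul_comm, fun {z} hz => ?_⟩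
      suffices IsUnit z from this.exists_right_inv
      obtain ⟨c, s, rfl⟩ := IsLocalization.exists_mk'_eq M z
      have hc : c ≠ 0 := fun h0 => hz (by rw [h0]; exact IsLocalization.mk'_zero s)
      obtain ⟨n, u, rfl⟩ := IsDiscreteValuationRing.eq_unit_mul_pow_irreducible hc hirr
      rw [IsLocalization.mk'_eq_mul_mk'_one]
      refine IsUnit.mul ?_ ⟨⟨_, algebraMap C (C ⊗[A] K) s, ?_, ?_⟩, rfl⟩
      · rw [map_mul, map_pow]
        exact (u.isUnit.map _).mul ((IsLocalization.map_units (C ⊗[A] K)
          (⟨_, ϖ, mem_nonZeroDivisors_of_ne_zero hϖ.ne_zero, rfl⟩ : M)).pow n)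
      · exact (IsLocalization.mk'_spec _ (1 : C) s).trans (map_one _)
      · rw [mul_comm]; exact (IsLocalization.mk'_spec _ (1 : C) s).trans (map_one _)
    have : IsField ((⊥ : Ideal A).Fiber C) :=
      MulEquiv.isField hfield (Algebra.TensorProduct.comm A C K).symm.toMulEquiv
    let := this.toField
    refine ⟨inferInstance, fun L _ _ hL => ?_⟩
    let F := (⊥ : Ideal A).Fiber C
    have : IsArtinianRing (F ⊗[K] L) := by exact IsArtinianRing.of_finite F (F ⊗[K] L)
    have : IsReduced L := inferInstance
    have : Algebra.IsGeometricallyReduced K L := Groth.GrpschAbsch.isGeometricallyReduced_of_perfectField K L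
    have : IsReduced (F ⊗[K] L) := Groth.VarietyBC.isReduced_tensor_comm
      Groth.VarietyBC.isReduced_tensor_of_isGeometricallyReduced
    have := Groth.Agent.S9256.isRegularRing_of_isReduced (F ⊗[K] L)
    exact IsRegularRing.of_ringEquiv (Algebra.TensorProduct.comm K F L).toRingEquiv
  · have hmax : q.IsMaximal := Ideal.IsPrime.isMaximal ‹_› hq
    have hqm : q = maximalIdeal A := IsLocalRing.eq_maximalIdeal hmax
    have hsurj : Function.Surjective (algebraMap K (q.Fiber C)) := by
      intro x
      induction x using TensorProduct.induction_on with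
      | zero => exact ⟨0, map_zero _⟩
      | tmul k c =>
        obtain ⟨a, ha⟩ := Ideal.Quotient.mk_surjective (AdicCompletion.evalOneₐ (maximalIdeal A) c)
        have hmem : c - algebraMap A C a ∈ q.map (algebraMap A C) := by
          rw [hqm, ← AdicCompletion.ker_evalOneₐ_eq_map _ (maximalIdeal A).fg_of_isNoetherianRing]
          show AdicCompletion.evalOneₐ (maximalIdeal A) _ = 0
          rw [map_sub, AlgHom.commutes, ← ha]
          exact sub_self _
        have h0 : ∀ y ∈ q.map (algebraMap A C), k ⊗ₜ[A] y = (0 : q.Fiber C) := by
          intro y hy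
          induction hy using Submodule.span_induction with
          | mem y hy =>
            obtain ⟨b, hb, rfl⟩ := hy
            rw [Algebra.algebraMap_eq_smul_one, ← TensorProduct.smul_tmul,
              show b • k = 0 by
                rw [Algebra.smul_def, show algebraMap A K b = 0 from
                  RingHom.mem_ker.mp ((Ideal.ker_algebraMap_residueField q).ge hb), zero_mul],
              TensorProduct.zero_tmul]
          | zero => exact TensorProduct.tmul_zero _ _
          | add y z _ _ hy hz => rw [TensorProduct.tmul_add, hy, hz, add_zero]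
          | smul r y _ hy =>
            rw [show k ⊗ₜ[A] (r • y) = (1 ⊗ₜ[A] r) * (k ⊗ₜ[A] y) by
              rw [Algebra.TensorProduct.tmul_mul_tmul, one_mul, smul_eq_mul], hy, mul_zero]
        refine ⟨k * algebraMap A K a, ?_⟩
        rw [Algebra.TensorProduct.algebraMap_apply, Algebra.algebraMap_self, RingHom.id_apply,
          eq_comm, ← sub_eq_zero, mul_comm, ← Algebra.smul_def, TensorProduct.smul_tmul,
          ← TensorProduct.tmul_sub, ← Algebra.algebraMap_eq_smul_one]
        exact h0 _ hmem
      | add x y hx hy =>
        obtain ⟨a, rfl⟩ := hx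
        obtain ⟨b, rfl⟩ := hy
        exact ⟨a + b, map_add _ _ _⟩
    have : Nontrivial (q.Fiber C) := by
      have : IsLocalHom (algebraMap A C) := by
        refine ((local_hom_TFAE _).out 0 2).mpr ?_
        rw [AdicCompletion.maximalIdeal_eq_map]
      have : Module.FaithfullyFlat A C := Module.FaithfullyFlat.of_flat_of_isLocalHom
      infer_instance
    let e : K ≃ₐ[K] q.Fiber C := AlgEquiv.ofBijective (Algebra.ofId K _) ⟨RingHom.injective _, hsurj⟩
    refine ⟨isNoetherianRing_of_ringEquiv K e.toRingEquiv, fun L _ _ _ => ?_⟩
    exact IsRegularRing.of_ringEquiv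
      (((Algebra.TensorProduct.congr (AlgEquiv.refl (R := K) (A₁ := L)) e.symm).trans
        (Algebra.TensorProduct.rid K K L)).toRingEquiv.symm)

/-- The completion map of a field is regular. -/
theorem isRegularHom_cpl_of_isField (A : Type u) [CommRing A] [IsLocalRing A] [IsNoetherianRing A] (hA : IsField A) :
    CAlg.IsRegularHom A (EGA4.Cpl A) := by
  have : IsAdicComplete (maximalIdeal A) A := by
    rw [isField_iff_maximalIdeal_eq.mp hA]; infer_instance
  let e := AdicCompletion.ofAlgEquiv (maximalIdeal A)
  have : Module.Flat A (EGA4.Cpl A) := AdicCompletion.flat_of_isNoetherian _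
  refine Groth.Calg4.isRegularHom_of_isRegularRing_tensor inferInstance fun L _ _ _ => ?_
  exact IsRegularRing.of_ringEquiv
    (((Algebra.TensorProduct.congr (AlgEquiv.refl (R := A) (A₁ := L)) e.symm).trans
      ((Algebra.TensorProduct.rid A A L))).toRingEquiv.symm)

/-- Dedekind domains of characteristic zero are excellent. -/
theorem isExcellent_of_isDedekindDomain_charZero (A : Type u) [CommRing A] [IsDedekindDomain A] [CharZero A] :
    EGA4.IsExcellent A := by
  have : IsRegularRing A := by
    rw [isRegularRing_iff]
    intro p _
    by_cases hp : p = ⊥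
    · subst hp
      exact isRegularLocalRing_of_maximalIdeal_eq_bot
        ((Localization.AtPrime.map_eq_maximalIdeal (I := (⊥ : Ideal A))).symm.trans Ideal.map_bot)
    · have := IsLocalization.AtPrime.isDiscreteValuationRing_of_dedekind_domain A hp (Localization.AtPrime p)
      infer_instance
  refine ⟨inferInstance, isUniversallyCatenary_of_regular_surjective (RingHom.id A) Function.surjective_id,
    Groth.PropsBasic.GRingMaximal.isGRing_of_maximal (fun C _ _ _ _ => Groth.Ega4b.isGRing_of_isAdicComplete C) A
      fun m _ => ?_, isJ2_of_isDedekindDomain_charZero A⟩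
  have : CharZero (Localization.AtPrime m) := charZero_of_injective_algebraMap
    (IsLocalization.injective _ m.primeCompl_le_nonZeroDivisors)
  by_cases hm : m = ⊥
  · let R := Localization.AtPrime m
    have hRbot : maximalIdeal R = ⊥ := (Localization.AtPrime.map_eq_maximalIdeal (I := m)).symm.trans
      ((congrArg (Ideal.map (algebraMap A R)) hm).trans Ideal.map_bot)
    exact isRegularHom_cpl_of_isField R (isField_iff_maximalIdeal_eq.mpr hRbot)
  · have := IsLocalization.AtPrime.isDiscreteValuationRing_of_dedekind_domain A hm (Localization.AtPrime m)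
    exact isRegularHom_cpl_of_isDiscreteValuationRing _

end Groth.Ega4Algebra1
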