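import Groth.Agent.Calg4.GenericNormalFlat

/-!
Generic normal flatness along a prime, at every localization where an element is inverted.
-/

universe u

set_option linter.style.haveILetI false
open TensorProduct

namespace Groth.Ega4Algebra1

variable {A : Type u} [CommRing A] (I : Ideal A) (M : Type u) [AddCommGroup M] [Module A M]

/-- `I ^ n M` localizes to `(I S⁻¹A) ^ n S⁻¹M`. -/
theorem exists_isLocalizedModule_pow_smul' (P : Submonoid A) (n : ℕ) :
    ∃ g : ↥(I ^ n • (⊤ : Submodule A M)) →ₗ[A]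
        ↥((I.map (algebraMap A (Localization P))) ^ n •
          (⊤ : Submodule (Localization P) (LocalizedModule P M))),
      IsLocalizedModule P g := by
  let A' := Localization P

  let M' := LocalizedModule P M
  let mk' := LocalizedModule.mkLinearMap P M
  let I' := I.map (algebraMap A A')
  have hmem : ∀ x ∈ I ^ n • (⊤ : Submodule A M), mk' x ∈ I' ^ n • (⊤ : Submodule A' M') := by
    intro x hx
    refine Submodule.smul_induction_on hx (fun a ha m _ => ?_) fun x y hx hy => by
      rw [map_add]; exact add_mem hx hy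
    rw [map_smul, ← algebraMap_smul A' a]
    refine Submodule.smul_mem_smul ?_ Submodule.mem_top
    rw [← Ideal.map_pow]
    exact Ideal.mem_map_of_mem _ ha
  let g : ↥(I ^ n • (⊤ : Submodule A M)) →ₗ[A] ↥(I' ^ n • (⊤ : Submodule A' M')) :=
    { toFun := fun x => ⟨mk' x, hmem x x.2⟩
      map_add' := fun x y => Subtype.ext (map_add mk' (x : M) y)
      map_smul' := fun a x => Subtype.ext (map_smul mk' a (x : M)) }
  refine ⟨g, ⟨fun s => ?_, fun y => ?_, fun {x₁ x₂} h => ?_⟩⟩
  · rw [Module.End.isUnit_iff]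
    obtain ⟨u, hu⟩ := IsLocalization.map_units A' s
    have hs : ∀ z : ↥(I' ^ n • (⊤ : Submodule A' M')), (s : A) • z = (u : A') • z := fun z => by
      rw [hu, algebraMap_smul]
    refine ⟨fun z w hzw => ?_, fun z => ⟨(↑u⁻¹ : A') • z, ?_⟩⟩
    · have h1 : (u : A') • z = (u : A') • w := by rw [← hs, ← hs]; exact hzw
      have h2 := congrArg ((↑u⁻¹ : A') • ·) h1
      simpa [smul_smul] using h2
    · show (s : A) • ((↑u⁻¹ : A') • z) = z
      rw [hs, smul_smul, Units.mul_inv, one_smul]
  · suffices H : ∀ y ∈ I' ^ n • (⊤ : Submodule A' M'),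
        ∃ (s : P) (x : M), x ∈ I ^ n • (⊤ : Submodule A M) ∧ (s : A) • y = mk' x by
      obtain ⟨s, x, hx, hxy⟩ := H y y.2
      exact ⟨(⟨x, hx⟩, s), Subtype.ext hxy⟩
    intro y hy
    refine Submodule.smul_induction_on hy (fun a ha m' _ => ?_) fun y z hy hz => ?_
    · rw [← Ideal.map_pow, IsLocalization.mem_map_algebraMap_iff P A'] at ha
      obtain ⟨⟨⟨b, hb⟩, s⟩, hbs⟩ := ha
      obtain ⟨⟨m, t⟩, hmt⟩ := IsLocalizedModule.surj P mk' m'
      refine ⟨s * t, b • m, Submodule.smul_mem_smul hb Submodule.mem_top, ?_⟩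
      change (t : A) • m' = mk' m at hmt
      rw [map_smul, ← hmt, ← algebraMap_smul A' b, ← hbs, Submonoid.coe_mul, ← algebraMap_smul A' (t : A),
        ← algebraMap_smul A' ((s : A) * (t : A)), smul_smul, smul_smul, map_mul]
      congr 1
      ring
    · obtain ⟨s, x, hx, hxy⟩ := hy
      obtain ⟨t, x', hx', hxy'⟩ := hz
      refine ⟨s * t, (t : A) • x + (s : A) • x', add_mem (Submodule.smul_mem _ _ hx) (Submodule.smul_mem _ _ hx'), ?_⟩
      rw [map_add, map_smul, map_smul, ← hxy, ← hxy', Submonoid.coe_mul, smul_smul, smul_smul, smul_add,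
        mul_comm (t : A)]
  · obtain ⟨c, hc⟩ := IsLocalizedModule.exists_of_eq (S := P) (f := mk') (congrArg Subtype.val h)
    exact ⟨c, Subtype.ext hc⟩

/-- Generic normal flatness, uniformly at all localizations inverting an element. -/
theorem exists_isNormallyFlat_localization [IsNoetherianRing A] [Module.Finite A M] [I.IsPrime] :
    ∃ f : A, f ∉ I ∧ ∀ (P : Submonoid A), f ∈ P →
      EGA4.IsNormallyFlat (I.map (algebraMap A (Localization P))) (LocalizedModule P M) := by
  obtain ⟨f, hf, hflat⟩ := Groth.Calg4.GenericNormalFlat.exists_flat_away I M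
  refine ⟨f, hf, fun P hfP n => ?_⟩
  rw [← Groth.Ega4b.flatQ_iff_quotient]
  let A' := Localization P
  let I' := I.map (algebraMap A A')
  let R := A ⧸ I
  let Rf := Localization.Away (Ideal.Quotient.mk I f)
  let D := A' ⧸ I'
  let : Algebra R D := (Ideal.quotientMap I' (algebraMap A A') Ideal.le_comap_map).toAlgebra
  have : IsScalarTower A R D := IsScalarTower.of_algebraMap_eq fun _ => rfl
  have hu : IsUnit (algebraMap R D (Ideal.Quotient.mk I f)) :=
    (IsLocalization.map_units A' (⟨f, hfP⟩ : P)).map (Ideal.Quotient.mk I')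
  let : Algebra Rf D := (IsLocalization.Away.lift (Ideal.Quotient.mk I f) hu).toAlgebra
  have : IsScalarTower R Rf D := IsScalarTower.of_algebraMap_eq fun r =>
    (IsLocalization.Away.lift_eq (Ideal.Quotient.mk I f) hu r).symm
  let N := ↥(I ^ n • (⊤ : Submodule A M))
  let N' := ↥(I' ^ n • (⊤ : Submodule A' (LocalizedModule P M)))
  obtain ⟨g, hg⟩ := exists_isLocalizedModule_pow_smul' I M P n
  have hbc : IsBaseChange A' g := IsLocalizedModule.isBaseChange P A' g
  have : Module.Flat Rf (Rf ⊗[R] (R ⊗[A] N)) := hflat n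
  have h1 : Module.Flat D (D ⊗[Rf] (Rf ⊗[R] (R ⊗[A] N))) := inferInstance
  let e : D ⊗[A'] N' ≃ₗ[D] D ⊗[Rf] (Rf ⊗[R] (R ⊗[A] N)) :=
    (AlgebraTensorModule.congr (LinearEquiv.refl D D) hbc.equiv.symm).trans <|
      (AlgebraTensorModule.cancelBaseChange A A' D D N).trans <|
        (AlgebraTensorModule.cancelBaseChange A R D D N).symm.trans
          (AlgebraTensorModule.cancelBaseChange R Rf D D (R ⊗[A] N)).symm
  exact Module.Flat.of_linearEquiv e

/-- Normal flatness localizes. -/
theorem isNormallyFlat_localizedModule (hM : EGA4.IsNormallyFlat I M) (P : Submonoid A) :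
    EGA4.IsNormallyFlat (I.map (algebraMap A (Localization P))) (LocalizedModule P M) := by
  intro n
  rw [← Groth.Ega4b.flatQ_iff_quotient]
  let A' := Localization P
  let I' := I.map (algebraMap A A')
  let R := A ⧸ I
  let D := A' ⧸ I'
  letI : Algebra R D := (Ideal.quotientMap I' (algebraMap A A') Ideal.le_comap_map).toAlgebra
  haveI : IsScalarTower A R D := IsScalarTower.of_algebraMap_eq fun _ => rfl
  let N := ↥(I ^ n • (⊤ : Submodule A M))
  let N' := ↥(I' ^ n • (⊤ : Submodule A' (LocalizedModule P M)))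
  obtain ⟨g, hg⟩ := exists_isLocalizedModule_pow_smul' I M P n
  have hbc : IsBaseChange A' g := IsLocalizedModule.isBaseChange P A' g
  haveI : Module.Flat R (R ⊗[A] N) := Groth.Ega4b.flatQ_iff_quotient.mpr (hM n)
  have h1 : Module.Flat D (D ⊗[R] (R ⊗[A] N)) := inferInstance
  let e : D ⊗[A'] N' ≃ₗ[D] D ⊗[R] (R ⊗[A] N) :=
    (AlgebraTensorModule.congr (LinearEquiv.refl D D) hbc.equiv.symm).trans <|
      (AlgebraTensorModule.cancelBaseChange A A' D D N).trans
        (AlgebraTensorModule.cancelBaseChange A R D D N).symm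
  exact Module.Flat.of_linearEquiv e

end Groth.Ega4Algebra1
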