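import Groth.Agent.Ega4Algebra1.HullCatenary

/-!
`A^(1)` as a subalgebra, and its comparison with the hull off `V(J)`.
-/

universe u

namespace Groth.Ega4Algebra1

variable (A : Type u) [CommRing A] [IsDomain A]

/-- `A^(1)` as a subalgebra of the fraction field. -/
noncomputable def hullOne : Subalgebra A (FractionRing A) where
  carrier := EGA4.heightOneHull A
  mul_mem' := by
    intro x y hx hy p _ hp
    obtain ⟨s, hs, a, ha⟩ := hx p hp
    obtain ⟨t, ht, b, hb⟩ := hy p hp
    exact ⟨s * t, fun h => (Ideal.IsPrime.mem_or_mem ‹_› h).elim hs ht, a * b,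
      by rw [map_mul, map_mul, ha, hb]; ring⟩
  add_mem' := by
    intro x y hx hy p _ hp
    obtain ⟨s, hs, a, ha⟩ := hx p hp
    obtain ⟨t, ht, b, hb⟩ := hy p hp
    exact ⟨s * t, fun h => (Ideal.IsPrime.mem_or_mem ‹_› h).elim hs ht, t * a + s * b,
      by rw [map_add, map_mul, map_mul, map_mul, ha, hb]; ring⟩
  algebraMap_mem' r p _ _ := ⟨1, (Ideal.ne_top_iff_one p).mp (Ideal.IsPrime.ne_top ‹_›), r, by simp⟩

theorem coe_hullOne : (hullOne A : Set (FractionRing A)) = EGA4.heightOneHull A := rfl

/-- The hull off `V(J)` lies in `A^(1)` as soon as `ht J ≥ 2`. -/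
theorem secHull_le_hullOne (J : Ideal A) (hJ : (2 : ℕ∞) ≤ J.height) :
    secHull A J ≤ Subalgebra.toSubmodule (hullOne A) := fun _ hx p _ hp =>
  hx p fun hle => by
    have := hJ.trans ((Ideal.height_mono hle).trans hp.le)
    norm_num at this

/-- Finite `A^(1)` gives finite hulls in codimension two. -/
theorem finite_secHull_of_finite_hullOne [IsNoetherianRing A] (J : Ideal A) (hJ : (2 : ℕ∞) ≤ J.height)
    (h : Module.Finite A (hullOne A)) : Module.Finite A (secHull A J) := by
  have : Module.Finite A (Subalgebra.toSubmodule (hullOne A)) := h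
  exact Module.Finite.of_injective (Submodule.inclusion (secHull_le_hullOne A J hJ))
    (Submodule.inclusion_injective _)

/-- For a universally catenary domain with finite normalization, `A^(1)` is integral over `A`. -/
theorem hullOne_le_integralClosure [IsNoetherianRing A] (hA : CAlg.IsUniversallyCatenary A)
    (hint : Module.Finite A (integralClosure A (FractionRing A))) :
    hullOne A ≤ integralClosure A (FractionRing A) := by
  intro x hx
  set C := integralClosure A (FractionRing A)
  have := hint
  have : IsFractionRing C (FractionRing A) := integralClosure.isFractionRing_of_finite_extension (FractionRing A) (FractionRing A)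
  have : IsIntegrallyClosed C := integralClosure.isIntegrallyClosedOfFiniteExtension (FractionRing A)
  have : IsNoetherianRing C := IsNoetherianRing.of_finite A C
  have hinj : Function.Injective (algebraMap A C) := fun a b e =>
    IsFractionRing.injective A (FractionRing A) (congrArg Subtype.val e)
  obtain ⟨c, hc⟩ := Groth.RefRank.mem_range_of_height_one (A := C) (K := FractionRing A) x fun P hP hP1 => by
    have hq0 : (P.comap (algebraMap A C)).height ≠ 0 := fun e => by
      rw [Ideal.height_eq_zero_iff_eq_bot] at e
      have hP0 : P = ⊥ := Ideal.eq_bot_of_comap_eq_bot e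
      rw [hP0, Ideal.height_bot] at hP1
      exact zero_ne_one hP1
    have hq1 : (P.comap (algebraMap A C)).height = 1 :=
      le_antisymm ((height_comap_le_of_finite A C hA hinj P).trans hP1.le) (Order.one_le_iff_ne_zero.mpr hq0)
    obtain ⟨s, hs, a, ha⟩ := hx (P.comap (algebraMap A C)) hq1
    refine ⟨algebraMap A C s, hs, algebraMap A C a, ?_⟩
    rw [← IsScalarTower.algebraMap_apply, ← IsScalarTower.algebraMap_apply, ha]
  exact hc ▸ c.2

theorem finite_hullOne_of_integralClosure [IsNoetherianRing A] (hA : CAlg.IsUniversallyCatenary A)
    (hint : Module.Finite A (integralClosure A (FractionRing A))) : Module.Finite A (hullOne A) := by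
  have := hint
  have := hullOne_le_integralClosure A hA hint
  exact Module.Finite.of_injective (Subalgebra.inclusion this).toLinearMap (Subalgebra.inclusion_injective this)

end Groth.Ega4Algebra1
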