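import Groth.Prelude.Def_EGA4b
import Groth.Agent.Calg1.CatenaryLocal
import Groth.Agent.RefRank.Algebra
import Groth.Agent.Ega4Algebra1.SectFinite

/-!
Heights along finite extensions of universally catenary domains; the hull `A^(1)` lies in the
integral closure.
-/

universe u

namespace Groth.Ega4Algebra1

open Polynomial

/-- A finite type algebra over a universally catenary ring is universally catenary. -/
theorem isUniversallyCatenary_of_finiteType {A : Type u} [CommRing A] (hA : CAlg.IsUniversallyCatenary A)
    (B : Type u) [CommRing B] [Algebra A B] [Algebra.FiniteType A B] : CAlg.IsUniversallyCatenary B := by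
  have := hA.1
  refine ⟨Algebra.FiniteType.isNoetherianRing A B, fun S _ _ hS => ?_⟩
  let : Algebra A S := ((algebraMap B S).comp (algebraMap A B)).toAlgebra
  have : IsScalarTower A B S := IsScalarTower.of_algebraMap_eq fun _ => rfl
  exact hA.2 S (Algebra.FiniteType.trans (inferInstance : Algebra.FiniteType A B) hS)

/-- A saturated series realizing the height of a prime of a Noetherian domain starts at zero. -/
theorem exists_saturated_series_height {R : Type u} [CommRing R] [IsDomain R] [IsNoetherianRing R]
    (P : PrimeSpectrum R) :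
    ∃ s : LTSeries (PrimeSpectrum R), s.head = ⊥ ∧ s.last = P ∧ (s.length : ℕ∞) = P.asIdeal.height ∧
      ∀ i : Fin s.length, s (Fin.castSucc i) ⋖ s (Fin.succ i) := by
  rw [PrimeSpectrum.height_eq_orderHeight]
  have hfin : Order.height P ≠ ⊤ := by
    rw [← PrimeSpectrum.height_eq_orderHeight]
    exact Ideal.height_ne_top P.isPrime.ne_top
  obtain ⟨n, hn⟩ := ENat.ne_top_iff_exists.mp hfin
  obtain ⟨s, hlast, hlen⟩ := Order.exists_series_of_height_eq_coe P hn.symm
  refine ⟨s, ?_, hlast, by rw [hlen, hn], fun i => ⟨s.strictMono Fin.castSucc_lt_succ, fun z h1 h2 => ?_⟩⟩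
  · by_contra hne
    have := Order.length_le_height (p := s.cons ⊥ (bot_lt_iff_ne_bot.mpr hne))
      (le_of_eq (by rw [RelSeries.last_cons, hlast]) : (s.cons ⊥ (bot_lt_iff_ne_bot.mpr hne)).last ≤ P)
    rw [RelSeries.cons_length, ← hn] at this
    norm_cast at this; omega
  · have := Order.length_le_height (p := s.insertNth i z h1 h2) (le_of_eq (show (s.insertNth i z h1 h2).toFun (Fin.last _) = P from by
      have hlt : i.succ.castSucc < Fin.last (s.length + 1) := by simp [Fin.lt_def]
      change (Fin.castSucc i.succ).insertNth (α := fun _ => PrimeSpectrum R) z s.toFun (Fin.last (s.length + 1)) = P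
      rw [Fin.insertNth_apply_above hlt]
      simp only [eq_rec_constant]
      exact (congrArg s.toFun (Fin.ext (by simp))).trans hlast))
    rw [RelSeries.insertNth_length, ← hn] at this
    norm_cast at this; omega

/-- One integral generator: the height does not drop. -/
theorem height_comap_le_of_adjoin (A B : Type u) [CommRing A] [CommRing B] [IsDomain A] [IsDomain B]
    [Algebra A B] (hA : CAlg.IsUniversallyCatenary A) (hinj : Function.Injective (algebraMap A B))
    (a : B) (ha : IsIntegral A a) (htop : Function.Surjective (aeval a : A[X] →ₐ[A] B))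
    (P : Ideal B) [P.IsPrime] : (P.comap (algebraMap A B)).height ≤ P.height := by
  have := hA.1
  have : IsNoetherianRing B := isNoetherianRing_of_surjective A[X] B (aeval a : A[X] →ₐ[A] B).toRingHom htop
  set q := P.comap (algebraMap A B)
  set φ := (aeval a : A[X] →ₐ[A] B).toRingHom
  set Q := RingHom.ker φ
  have hQp : Q.IsPrime := RingHom.ker_isPrime φ
  obtain ⟨g, hgm, hg⟩ := ha
  have hgQ : g ∈ Q := hg
  have hQA : ∀ r : A, Polynomial.C r ∈ Q → r = 0 := fun r hr => hinj (by
    have : aeval a (Polynomial.C r) = 0 := hr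
    rw [aeval_C] at this
    rw [this, map_zero])
  -- zero is covered by the kernel
  have hcov : (⊥ : PrimeSpectrum A[X]) ⋖ ⟨Q, hQp⟩ := by
    refine ⟨bot_lt_iff_ne_bot.mpr fun e => hgm.ne_zero ?_, fun Z hZ0 hZQ => ?_⟩
    · have : Q = ⊥ := congrArg PrimeSpectrum.asIdeal e
      exact (Submodule.mem_bot A[X]).mp (this ▸ hgQ)
    · let : Algebra A[X] (FractionRing A)[X] := (Polynomial.mapRingHom (algebraMap A (FractionRing A))).toAlgebra
      set M := (nonZeroDivisors A).map (Polynomial.C : A →+* A[X])
      have : IsLocalization M (FractionRing A)[X] := Polynomial.isLocalization _ _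
      have hdis : ∀ I : Ideal A[X], I ≤ Q → Disjoint (M : Set A[X]) (I : Set A[X]) := fun I hI => by
        rw [Set.disjoint_left]
        rintro _ ⟨r, hr, rfl⟩ hrI
        exact nonZeroDivisors.ne_zero hr (hQA r (hI hrI))
      have hp1 := IsLocalization.isPrime_of_isPrime_disjoint M (FractionRing A)[X] _ Z.isPrime (hdis _ hZQ.le)
      have hp2 := IsLocalization.isPrime_of_isPrime_disjoint M (FractionRing A)[X] _ hQp (hdis _ le_rfl)
      have hc1 := IsLocalization.under_map_of_isPrime_disjoint M (FractionRing A)[X] Z.isPrime (hdis _ hZQ.le)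
      have hc2 := IsLocalization.under_map_of_isPrime_disjoint M (FractionRing A)[X] hQp (hdis _ le_rfl)
      have hne : Z.asIdeal.map (algebraMap A[X] (FractionRing A)[X]) ≠ ⊥ := fun e => by
        have hi : Function.Injective (algebraMap A[X] (FractionRing A)[X]) :=
          Polynomial.map_injective _ (IsFractionRing.injective A (FractionRing A))
        rw [Ideal.map_eq_bot_iff_of_injective hi] at e
        exact hZ0.ne' (PrimeSpectrum.ext e)
      have heq := (hp1.isMaximal hne).eq_of_le hp2.ne_top (Ideal.map_mono hZQ.le)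
      exact hZQ.ne (PrimeSpectrum.ext (hc1.symm.trans ((congrArg (Ideal.under A[X]) heq).trans hc2)))
  -- lift the primes of `B` above the kernel
  let f : PrimeSpectrum B ↪o PrimeSpectrum A[X] :=
    OrderEmbedding.ofMapLEIff (PrimeSpectrum.comap φ) fun x y =>
      ⟨fun h z hz => by
        obtain ⟨w, rfl⟩ := htop z
        exact h hz, fun h => Ideal.comap_mono h⟩
  have hord : (Set.range f).OrdConnected := Set.ordConnected_iff.mpr fun x hx y _ _ z hz => by
    obtain ⟨x', rfl⟩ := hx
    have hker : RingHom.ker φ ≤ z.asIdeal := le_trans (Ideal.comap_mono bot_le) hz.1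
    refine ⟨⟨z.asIdeal.map φ, Ideal.map_isPrime_of_surjective htop hker⟩, PrimeSpectrum.ext ?_⟩
    show (z.asIdeal.map φ).comap φ = z.asIdeal
    rw [Ideal.comap_map_of_surjective φ htop]
    exact sup_eq_left.mpr hker
  obtain ⟨t, hth, htl, htlen, htsat⟩ := exists_saturated_series_height (⟨P, ‹_›⟩ : PrimeSpectrum B)
  obtain ⟨s, hsh, hsl, hslen, hssat⟩ := exists_saturated_series_height (f ⟨P, ‹_›⟩)
  have hf0 : f ⊥ = ⟨Q, hQp⟩ := PrimeSpectrum.ext rfl
  let t' : LTSeries (PrimeSpectrum A[X]) := t.map f f.strictMono
  let c : LTSeries (PrimeSpectrum A[X]) :=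
    { length := t.length + 1
      toFun := Fin.cons ⊥ t'.toFun
      step := fun i => by
        refine Fin.cases ?_ (fun j => ?_) i
        · show ⊥ < f (t.toFun 0)
          rw [show t.toFun 0 = ⊥ from hth, hf0]; exact hcov.lt
        · exact t'.step j }
  have hlen := (hA.2 A[X] inferInstance).2 c s (show (⊥ : PrimeSpectrum A[X]) = s.head from hsh.symm)
    (show (Fin.cons ⊥ t'.toFun : Fin (t.length + 2) → _) (Fin.last _) = s.last from by
      rw [show Fin.last (t.length + 1) = Fin.succ (Fin.last t.length) from rfl, hsl]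
      show Fin.cons (α := fun _ => PrimeSpectrum A[X]) ⊥ (fun j => f (t.toFun j)) (Fin.last t.length).succ = _
      rw [Fin.cons_succ]
      exact congrArg f htl)
    (fun i => by
      refine Fin.cases ?_ (fun j => ?_) i
      · show ⊥ ⋖ f (t.toFun 0)
        rw [show t.toFun 0 = ⊥ from hth, hf0]; exact hcov
      · exact (htsat j).image f hord)
    hssat
  -- the height of the extended prime
  let ext : PrimeSpectrum A → PrimeSpectrum A[X] := fun x =>
    have := x.isPrime
    ⟨x.asIdeal.map Polynomial.C, Ideal.isPrime_map_C_of_isPrime⟩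
  have hback : ∀ x : PrimeSpectrum A, ∀ r : A, Polynomial.C r ∈ x.asIdeal.map Polynomial.C → r ∈ x.asIdeal := fun x r hr => by
    simpa using Ideal.mem_map_C_iff.mp hr 0
  have hmono : StrictMono ext := fun x y hxy => lt_of_le_of_ne (Ideal.map_mono hxy.le) fun e => hxy.not_ge fun r hr =>
    hback x r (by rw [show x.asIdeal.map Polynomial.C = y.asIdeal.map Polynomial.C from congrArg PrimeSpectrum.asIdeal e]; exact Ideal.mem_map_of_mem _ hr)
  have hlt : ext ⟨q, inferInstance⟩ < f ⟨P, ‹_›⟩ := by
    refine lt_of_le_of_ne ?_ fun e => ?_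
    · show q.map Polynomial.C ≤ P.comap φ
      rw [Ideal.map_le_iff_le_comap]
      intro r hr
      show φ (Polynomial.C r) ∈ P
      show aeval a (Polynomial.C r) ∈ P
      rw [aeval_C]; exact hr
    · have hgE : g ∈ q.map Polynomial.C := by
        rw [show q.map Polynomial.C = (P.comap φ) from congrArg PrimeSpectrum.asIdeal e]
        show φ g ∈ P
        rw [RingHom.mem_ker.mp hgQ]
        exact zero_mem _
      refine (inferInstance : q.IsPrime).one_notMem ?_
      have := Ideal.mem_map_C_iff.mp hgE g.natDegree
      rwa [hgm.coeff_natDegree] at this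
  have h1 := Order.height_le_height_apply_of_strictMono ext hmono (⟨q, inferInstance⟩ : PrimeSpectrum A)
  have h2 := Order.height_add_one_le hlt
  rw [← PrimeSpectrum.height_eq_orderHeight] at h1 h2
  rw [← PrimeSpectrum.height_eq_orderHeight] at h2
  have h3 : (f ⟨P, ‹_›⟩).asIdeal.height = P.height + 1 := by
    rw [← hslen, ← hlen, show c.length = t.length + 1 from rfl, Nat.cast_add, htlen, Nat.cast_one]
  rw [← PrimeSpectrum.height_eq_orderHeight] at h1
  exact (ENat.add_le_add_iff_right ENat.one_ne_top).mp ((add_le_add h1 le_rfl).trans (h2.trans h3.le))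

/-- Along a finite extension of a universally catenary domain the height does not drop. -/
theorem height_comap_le_of_finite (A B : Type u) [CommRing A] [CommRing B] [IsDomain A] [IsDomain B]
    [Algebra A B] [Module.Finite A B] (hA : CAlg.IsUniversallyCatenary A)
    (hinj : Function.Injective (algebraMap A B)) (P : Ideal B) [P.IsPrime] :
    (P.comap (algebraMap A B)).height ≤ P.height := by
  classical
  suffices H : ∀ s : Finset B, ∀ (P : Ideal ↥(Algebra.adjoin A (s : Set B))) [P.IsPrime],
      (P.comap (algebraMap A ↥(Algebra.adjoin A (s : Set B)))).height ≤ P.height by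
    obtain ⟨s, hs⟩ := (inferInstance : Algebra.FiniteType A B).out
    let e : ↥(Algebra.adjoin A (s : Set B)) ≃ₐ[A] B := (Subalgebra.equivOfEq _ _ hs).trans Subalgebra.topEquiv
    have h := H s (P.comap e.toRingEquiv)
    rw [show (P.comap e.toRingEquiv).comap (algebraMap A _) = P.comap (algebraMap A B) from
      Ideal.ext fun r => (iff_of_eq (congrArg (· ∈ P) (e.commutes r)) : _)] at h
    exact h.trans (le_of_eq (RingEquiv.height_comap e.toRingEquiv P))
  intro s
  induction s using Finset.induction_on with
  | empty =>
    intro P _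
    have hb : Function.Bijective (algebraMap A ↥(Algebra.adjoin A ((∅ : Finset B) : Set B))) := by
      refine ⟨fun x y h => hinj (congrArg Subtype.val h), fun x => ?_⟩
      obtain ⟨r, hr⟩ := Algebra.mem_bot.mp (by simpa using x.2 : (x : B) ∈ (⊥ : Subalgebra A B))
      exact ⟨r, Subtype.ext hr⟩
    exact le_of_eq (RingEquiv.height_comap (RingEquiv.ofBijective _ hb) P)
  | insert b s _ ih =>
    set S := Algebra.adjoin A (s : Set B)
    have hS : CAlg.IsUniversallyCatenary S :=
      have : Algebra.FiniteType A S := (S.fg_iff_finiteType).mp (Subalgebra.fg_adjoin_finset s)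
      isUniversallyCatenary_of_finiteType hA S
    set T := Algebra.adjoin S ({b} : Set B)
    have hT : T.restrictScalars A = Algebra.adjoin A ((insert b s : Finset B) : Set B) := by
      rw [Finset.coe_insert, Set.insert_eq, Set.union_comm, Algebra.adjoin_union_eq_adjoin_adjoin]
    rw [← hT]
    suffices key : ∀ (P : Ideal ↥T) [P.IsPrime], (P.comap (algebraMap A ↥T)).height ≤ P.height from key
    intro P _
    let b' : T := ⟨b, Algebra.self_mem_adjoin_singleton S b⟩
    have hb' : IsIntegral S b' := by
      refine (isIntegral_algHom_iff T.val Subtype.val_injective).mp ?_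
      exact (IsIntegral.of_finite A b).tower_top
    have hsurj : Function.Surjective (aeval b' : S[X] →ₐ[S] T) := fun x => by
      have hx : (x : B) ∈ Algebra.adjoin S ({b} : Set B) := x.2
      rw [Algebra.adjoin_singleton_eq_range_aeval] at hx
      obtain ⟨p, hp⟩ := hx
      exact ⟨p, Subtype.ext (by rw [← hp]; exact (aeval_algHom_apply T.val b' p).symm)⟩
    refine (le_trans ?_ (height_comap_le_of_adjoin S T hS (fun x y h => Subtype.ext (congrArg (fun z : T => (z : B)) h)) b' hb' hsurj P))
    exact ih (P.comap (algebraMap S T))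

end Groth.Ega4Algebra1
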