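import Groth.Agent.Ega4Algebra1.Sections
import Groth.Agent.LocCohBase.CM
import Groth.Agent.Calg1.DepthTwo

/-!
`Z`-pure and `Z`-closed modules: associated primes and depth.
-/

universe u

namespace Groth.Ega4Algebra1

open AlgebraicGeometry Pointwise

variable {A : Type u} [CommRing A] [IsNoetherianRing A] {M : Type u} [AddCommGroup M] [Module A M]

omit [IsNoetherianRing A] in
theorem toSect_eq_zero_of_annihilator {J : Ideal A} {m : M}
    (h : ∀ x : PrimeSpectrum A, ¬ J ≤ x.asIdeal → ∃ u, u ∉ x.asIdeal ∧ u • m = 0) :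
    toSect A J M m = 0 :=
  Sect.ext fun x => (mkLinearMap_eq_zero_iff _ m).mpr (h x.1 ((mem_complOpen_iff x.1).mp x.2))

/-- Restriction to `Spec A ∖ V(J)` is injective iff no associated prime of `M` contains `J`. -/
theorem injective_toSect_iff (J : Ideal A) :
    Function.Injective (toSect A J M) ↔ ∀ p ∈ associatedPrimes A M, ¬ J ≤ p := by
  constructor
  · intro hi p hp hJ
    obtain ⟨hpp, m, hm⟩ := isAssociatedPrime_iff.mp hp
    have hm0 : toSect A J M m = 0 := toSect_eq_zero_of_annihilator fun x hx => by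
      obtain ⟨r, hr, hrx⟩ := SetLike.not_le_iff_exists.mp hx
      refine ⟨r, hrx, ?_⟩
      have : r ∈ p := hJ hr
      rwa [hm, Submodule.mem_colon_singleton, Submodule.mem_bot] at this
    refine hpp.one_notMem ?_
    rw [hm, Submodule.mem_colon_singleton, Submodule.mem_bot, one_smul]
    exact hi (hm0.trans (map_zero _).symm)
  · intro h
    rw [injective_iff_map_eq_zero]
    intro m hm
    by_contra hne
    obtain ⟨p, hp, hle⟩ := exists_le_isAssociatedPrime_of_isNoetherianRing A m hne
    refine h p hp fun r hr => ?_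
    by_contra hrp
    have hx : (⟨p, hp.isPrime⟩ : PrimeSpectrum A) ∈ complOpen A J := (mem_complOpen_iff _).mpr fun hJ => hrp (hJ hr)
    have := hp.isPrime
    obtain ⟨u, hu, hu0⟩ := (mkLinearMap_eq_zero_iff p m).mp (congrFun (congrArg Subtype.val hm) ⟨_, hx⟩)
    exact hu (hle (by rw [Submodule.mem_colon_singleton, Submodule.mem_bot]; exact hu0))

theorem isPureAlong_iff {Z : Set (PrimeSpectrum A)} (hZ : StableUnderSpecialization Z) :
    EGA4.IsPureAlong Z M ↔ ∀ p : PrimeSpectrum A, p.asIdeal ∈ associatedPrimes A M → p ∉ Z := by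
  constructor
  · intro h p hp hpZ
    exact (injective_toSect_iff p.asIdeal).mp (injective_restrCompl_iff.mp (h p.asIdeal fun q hq =>
      hZ ((PrimeSpectrum.le_iff_specializes p q).mp hq) hpZ)) p.asIdeal hp le_rfl
  · intro h J hJ
    exact injective_restrCompl_iff.mpr ((injective_toSect_iff J).mpr fun p hp hle =>
      h ⟨p, hp.isPrime⟩ hp (hJ hle))

theorem isPureAlong_iff_depth [Module.Finite A M] {Z : Set (PrimeSpectrum A)} (hZ : StableUnderSpecialization Z) :
    EGA4.IsPureAlong Z M ↔ ∀ p : PrimeSpectrum A, p ∈ Z →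
      (1 : ℕ∞) ≤ LocCoh.depth (Localization.AtPrime p.asIdeal) (LocalizedModule p.asIdeal.primeCompl M) := by
  rw [isPureAlong_iff hZ]
  exact forall_congr' fun p => ⟨fun h hp => (Groth.LocCohBase.one_le_depth_localized_iff _ M).mpr fun ha => h ha hp,
    fun h ha hp => (Groth.LocCohBase.one_le_depth_localized_iff _ M).mp (h hp) ha⟩

/-- Depth at least two through a regular element. -/
theorem two_le_depth_localized [Module.Finite A M] (p : Ideal A) [p.IsPrime] {x : A} (hxp : x ∈ p)
    (hx : IsSMulRegular M x) (hass : p ∉ associatedPrimes A (QuotSMulTop x M)) :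
    (2 : ℕ∞) ≤ LocCoh.depth (Localization.AtPrime p) (LocalizedModule p.primeCompl M) := by
  set R := Localization.AtPrime p
  rcases subsingleton_or_nontrivial (LocalizedModule p.primeCompl M) with h | h
  · refine le_of_le_of_eq le_top (Eq.symm ?_)
    exact Groth.LocCohBase.idealDepth_eq_top_of_smul_top_eq_top (Subsingleton.elim _ _)
  have hIM := Groth.LocCohBase.smul_maximalIdeal_ne_top (R := R) (LocalizedModule p.primeCompl M)
    (IsLocalRing.maximalIdeal.isMaximal R).ne_top
  have hxm : algebraMap A R x ∈ IsLocalRing.maximalIdeal R :=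
    (IsLocalization.AtPrime.to_map_mem_maximal_iff R p x).mpr hxp
  have hreg : IsSMulRegular (LocalizedModule p.primeCompl M) (algebraMap A R x) :=
    hx.of_isLocalizedModule R p.primeCompl (LocalizedModule.mkLinearMap p.primeCompl M)
  rw [LocCoh.depth, ← Groth.LocCohBase.idealDepth_quotSMulTop_add_one _ _ hIM hxm hreg]
  have h1 := (Groth.LocCohBase.one_le_depth_localized_iff p (QuotSMulTop x M)).mpr hass
  rw [LocCoh.depth, ← Groth.LocCohBase.idealDepth_congr (Groth.LocCohBase.quotSMulTopLocalizedEquiv p M x)] at h1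
  calc (2 : ℕ∞) = 1 + 1 := by norm_num
    _ ≤ _ := add_le_add h1 le_rfl

/-- `M` is `Z`-closed iff it has depth at least two along `Z`. -/
theorem isClosedAlong_iff [Module.Finite A M] {Z : Set (PrimeSpectrum A)} (hZ : StableUnderSpecialization Z) :
    EGA4.IsClosedAlong Z M ↔ ∀ p : PrimeSpectrum A, p ∈ Z →
      (2 : ℕ∞) ≤ LocCoh.depth (Localization.AtPrime p.asIdeal) (LocalizedModule p.asIdeal.primeCompl M) := by
  constructor
  · intro h p hp
    have hpure : EGA4.IsPureAlong Z M := fun J hJ => (h J hJ).1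
    have hV : PrimeSpectrum.zeroLocus (p.asIdeal : Set A) ⊆ Z := fun q hq =>
      hZ ((PrimeSpectrum.le_iff_specializes p q).mp hq) hp
    have hass : ∀ q ∈ associatedPrimes A M, ¬ p.asIdeal ≤ q := fun q hq hle =>
      (isPureAlong_iff hZ).mp hpure ⟨q, hq.isPrime⟩ hq (hV hle)
    obtain ⟨x, hxp, hx⟩ : ∃ x ∈ p.asIdeal, IsSMulRegular M x := by
      by_contra hno
      push Not at hno
      have hsub : (p.asIdeal : Set A) ⊆ ⋃ q ∈ associatedPrimes A M, (q : Set A) := fun x hx => by
        rw [biUnion_associatedPrimes_eq_compl_regular]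
        exact hno x hx
      obtain ⟨q, hq, hle⟩ := (p.asIdeal.subset_union_prime_finite (associatedPrimes.finite A M)
        (f := id) 0 0 fun _ h _ _ => h.isPrime).1 hsub
      exact hass q hq hle
    refine two_le_depth_localized p.asIdeal hxp hx fun ha => ?_
    obtain ⟨hpp, z, hz⟩ := isAssociatedPrime_iff.mp ha
    obtain ⟨m, rfl⟩ := Submodule.Quotient.mk_surjective _ z
    have hzero : ∀ t ∈ p.asIdeal, ∃ m', x • m' = t • m := fun t ht => by
      have h1 : t • (Submodule.Quotient.mk m : QuotSMulTop x M) = 0 := by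
        rwa [hz, Submodule.mem_colon_singleton, Submodule.mem_bot] at ht
      rw [← Submodule.Quotient.mk_smul, Submodule.Quotient.mk_eq_zero, Submodule.mem_smul_pointwise_iff_exists] at h1
      obtain ⟨m', -, hm'⟩ := h1
      exact ⟨m', hm'⟩
    -- the section `m / x`
    have hxloc : ∀ y : complOpen A p.asIdeal, ∀ a b : LocalizedModule y.1.asIdeal.primeCompl M, x • a = x • b → a = b :=
      fun y a b e => by
        have := hx.of_isLocalizedModule (Localization.AtPrime y.1.asIdeal) y.1.asIdeal.primeCompl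
          (LocalizedModule.mkLinearMap y.1.asIdeal.primeCompl M)
        exact this (by simpa only [algebraMap_smul] using e)
    have hex : ∀ y : complOpen A p.asIdeal, ∃ e, x • e = LocalizedModule.mkLinearMap y.1.asIdeal.primeCompl M m := fun y => by
      obtain ⟨t, htp, hty⟩ := SetLike.not_le_iff_exists.mp ((mem_complOpen_iff y.1).mp y.2)
      obtain ⟨m', hm'⟩ := hzero t htp
      refine ⟨LocalizedModule.mk m' (⟨t, hty⟩ : y.1.asIdeal.primeCompl), ?_⟩
      rw [LocalizedModule.smul'_mk, hm', LocalizedModule.mkLinearMap_apply, LocalizedModule.mk_eq]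
      exact ⟨1, by simp [Submonoid.smul_def]⟩
    choose e he using hex
    let s : Sect A p.asIdeal M := ⟨e, fun y => by
      obtain ⟨t, htp, hty⟩ := SetLike.not_le_iff_exists.mp ((mem_complOpen_iff y.1).mp y.2)
      obtain ⟨m', hm'⟩ := hzero t htp
      refine ⟨PrimeSpectrum.basicOpen t, hty, CategoryTheory.homOfLE fun z hz => (mem_complOpen_iff z).mpr fun hle => hz (hle htp),
        m', t, fun z => ⟨z.2, hxloc _ _ _ ?_⟩⟩
      rw [he, LocalizedModule.smul'_mk, hm', LocalizedModule.mkLinearMap_apply, LocalizedModule.mk_eq]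
      exact ⟨1, by simp [Submonoid.smul_def]⟩⟩
    obtain ⟨hinj, hsurj⟩ := bijective_restrCompl_iff.mp (h p.asIdeal hV)
    obtain ⟨m', hm'⟩ := hsurj s
    have hxm : x • m' = m := hinj (Sect.ext fun y => by
      rw [map_smul, hm']
      exact he y)
    refine hpp.one_notMem ?_
    rw [hz, Submodule.mem_colon_singleton, Submodule.mem_bot, one_smul, Submodule.Quotient.mk_eq_zero, ← hxm]
    exact Submodule.smul_mem_pointwise_smul _ _ _ trivial
  · intro h J hJ
    refine bijective_restrCompl_iff.mpr (Groth.Calg1.bijective_of_forall_depth _ fun p _ => ?_)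
    by_cases hp : J ≤ p
    · exact Or.inr ⟨h ⟨p, ‹_›⟩ (hJ hp), notMem_associatedPrimes_sect p hp⟩
    · exact Or.inl (bijective_localized_toSect p hp)

end Groth.Ega4Algebra1
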