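import Groth.Agent.Ega4Algebra1.N1Criterion

/-!
Nagata rings from geometrically reduced formal fibres; the analytic criterion is a hypothesis here.
-/

set_option autoImplicit false

universe u

namespace Groth.Ega4Algebra1

open IsLocalRing

/-- The criterion "analytically unramified local domains are N-1". -/
def AnalyticallyUnramifiedN1 : Prop :=
  ∀ (R : Type u) [CommRing R] [IsDomain R] [IsLocalRing R] [IsNoetherianRing R],
    IsReduced (AdicCompletion (maximalIdeal R) R) → CAlg.IsN1 R

theorem finite_maximal_of_finite (A B : Type u) [CommRing A] [IsLocalRing A] [IsNoetherianRing A] [CommRing B]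
    [Algebra A B] [Module.Finite A B] : {q : Ideal B | q.IsMaximal}.Finite := by
  have : IsNoetherianRing B := IsNoetherianRing.of_finite A B
  set J := (maximalIdeal A).map (algebraMap A B)
  refine (Ideal.finite_minimalPrimes_of_isNoetherianRing B J).subset fun q hq => ?_
  have : q.IsMaximal := hq
  refine ⟨⟨inferInstance, Ideal.map_le_iff_le_comap.mpr
    (IsLocalRing.eq_maximalIdeal (Ideal.isMaximal_comap_of_isIntegral_of_isMaximal q)).ge⟩, fun p hp hpq => ?_⟩
  have := hp.1
  have : p.IsMaximal := by
    refine Ideal.isMaximal_of_isIntegral_of_isMaximal_comap (R := A) p ?_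
    have h1 : maximalIdeal A ≤ p.comap (algebraMap A B) := Ideal.map_le_iff_le_comap.1 hp.2
    rw [← (maximalIdeal.isMaximal A).eq_of_le (Ideal.IsPrime.ne_top inferInstance) h1]
    exact maximalIdeal.isMaximal A
  exact (this.eq_of_le (Ideal.IsMaximal.ne_top ‹_›) hpq).ge

theorem isNagata_of_geomReduced_local (hAU : AnalyticallyUnramifiedN1.{u}) (A : Type u) [CommRing A]
    [IsNoetherianRing A] [IsLocalRing A] (hA : EGA4.HasGeomReducedFormalFibres A) : CAlg.IsNagata A := by
  refine ⟨inferInstance, fun p _ => isN2_of_finite_isN1 _ fun B _ _ _ _ => ?_⟩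
  let : Algebra A B := ((algebraMap (A ⧸ p) B).comp (Ideal.Quotient.mk p)).toAlgebra
  have : IsScalarTower A (A ⧸ p) B := IsScalarTower.of_algebraMap_eq fun _ => rfl
  have : Module.Finite A B := Module.Finite.trans (A ⧸ p) B
  have : IsNoetherianRing B := IsNoetherianRing.of_finite A B
  refine isN1_of_semilocal B (finite_maximal_of_finite A B) fun n _ => ?_
  have : IsDomain (Localization.AtPrime n) :=
    IsLocalization.isDomain_localization n.primeCompl_le_nonZeroDivisors
  exact hAU _ (isReduced_completion_finite_domain A hA B n)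

theorem isNagata_of_geomReduced_of_isJ2 (hAU : AnalyticallyUnramifiedN1.{u}) (A : Type u) [CommRing A]
    [IsNoetherianRing A]
    (hA : ∀ (m : Ideal A) [m.IsMaximal], EGA4.HasGeomReducedFormalFibres (Localization.AtPrime m))
    (hJ : EGA4.IsJ2 A) : CAlg.IsNagata A := by
  refine ⟨inferInstance, fun p _ => isN2_of_finite_isN1 _ fun B _ _ _ _ => ?_⟩
  let : Algebra A B := ((algebraMap (A ⧸ p) B).comp (Ideal.Quotient.mk p)).toAlgebra
  have : IsScalarTower A (A ⧸ p) B := IsScalarTower.of_algebraMap_eq fun _ => rfl
  have : Module.Finite A B := Module.Finite.trans (A ⧸ p) B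
  have : IsNoetherianRing B := IsNoetherianRing.of_finite A B
  refine Groth.Calg1.isN1_iff.mpr ⟨exists_normal_away A B hJ, fun n _ => ?_⟩
  have : IsDomain (Localization.AtPrime n) :=
    IsLocalization.isDomain_localization n.primeCompl_le_nonZeroDivisors
  exact hAU _ (isReduced_completion_finite_of_maximal A hA B n)

theorem isNagata_of_isQuasiExcellent (hAU : AnalyticallyUnramifiedN1.{u}) (A : Type u) [CommRing A]
    (hA : EGA4.IsQuasiExcellent A) : CAlg.IsNagata A :=
  have := hA.1
  isNagata_of_geomReduced_of_isJ2 hAU A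
    (fun m _ => hasGeomReducedFormalFibres_of_isRegularHom _ (hA.2.1.2 m)) hA.2.2

end Groth.Ega4Algebra1
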