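import Groth.Prelude.Def_EGA4c
import Groth.Agent.LocCohBase.DepthLocal
import Mathlib

/-!
Sections of `M~` over the complement of `V(J)`, as dependent functions into localizations.
-/

universe u

namespace Groth.Ega4Algebra1

open AlgebraicGeometry TopologicalSpace CategoryTheory Opposite

variable (A : Type u) [CommRing A] (J : Ideal A) (M : Type u) [AddCommGroup M] [Module A M]

/-- The complement of `V(J)`. -/
def complOpen : Opens (PrimeSpectrum.Top A) :=
  ⟨(PrimeSpectrum.zeroLocus (J : Set A))ᶜ, (PrimeSpectrum.isClosed_zeroLocus _).isOpen_compl⟩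

/-- Sections of `M~` over the complement of `V(J)`. -/
abbrev Sect : Type u := (structureSheafInType A M).obj.obj (op (complOpen A J))

/-- The restriction `M → Γ(Spec A ∖ V(J), M~)`. -/
noncomputable def toSect : M →ₗ[A] Sect A J M := StructureSheaf.toOpenₗ A M (complOpen A J)

variable {A J M}

instance (x : PrimeSpectrum.Top A) : (PrimeSpectrum.asIdeal x).IsPrime := PrimeSpectrum.isPrime x

theorem toSect_apply (m : M) (x : complOpen A J) :
    (toSect A J M m).1 x = LocalizedModule.mkLinearMap x.1.asIdeal.primeCompl M m := rfl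

theorem restrCompl_toOpen (m : M) :
    EGA4.restrCompl A J M (StructureSheaf.toOpenₗ A M ⊤ m) = toSect A J M m := rfl

theorem injective_restrCompl_iff : Function.Injective (EGA4.restrCompl A J M) ↔ Function.Injective (toSect A J M) := by
  have h := StructureSheaf.toOpenₗ_top_bijective (R := A) (M := M)
  have : (EGA4.restrCompl A J M : _ → _) ∘ (StructureSheaf.toOpenₗ A M ⊤) = toSect A J M := funext restrCompl_toOpen
  exact ⟨fun hi => this ▸ hi.comp h.1, fun hi a b e => by
    obtain ⟨a, rfl⟩ := h.2 a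
    obtain ⟨b, rfl⟩ := h.2 b
    exact congrArg _ (hi e)⟩

theorem bijective_restrCompl_iff : Function.Bijective (EGA4.restrCompl A J M) ↔ Function.Bijective (toSect A J M) := by
  have h := StructureSheaf.toOpenₗ_top_bijective (R := A) (M := M)
  have : (EGA4.restrCompl A J M : _ → _) ∘ (StructureSheaf.toOpenₗ A M ⊤) = toSect A J M := funext restrCompl_toOpen
  exact ⟨fun hb => this ▸ hb.comp h, fun hb => ⟨injective_restrCompl_iff.mpr hb.1, fun s => by
    obtain ⟨m, hm⟩ := hb.2 s
    exact ⟨StructureSheaf.toOpenₗ A M ⊤ m, hm⟩⟩⟩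

theorem mem_complOpen_iff (x : PrimeSpectrum A) : x ∈ complOpen A J ↔ ¬ J ≤ x.asIdeal := by
  show x ∈ (PrimeSpectrum.zeroLocus (J : Set A))ᶜ ↔ _
  simp [PrimeSpectrum.mem_zeroLocus]

theorem Sect.ext {s t : Sect A J M} (h : ∀ x, s.1 x = t.1 x) : s = t := Subtype.ext (funext h)

/-- An element of a localized module is zero exactly when killed outside the prime. -/
theorem mkLinearMap_eq_zero_iff (p : Ideal A) [p.IsPrime] (m : M) :
    LocalizedModule.mkLinearMap p.primeCompl M m = 0 ↔ ∃ u, u ∉ p ∧ u • m = 0 := by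
  rw [IsLocalizedModule.eq_zero_iff p.primeCompl]
  exact ⟨fun ⟨⟨u, hu⟩, h⟩ => ⟨u, hu, h⟩, fun ⟨u, hu, h⟩ => ⟨⟨u, hu⟩, h⟩⟩

theorem smul_localized_eq_zero_iff (p : Ideal A) [p.IsPrime] {r : A} (hr : r ∉ p)
    (z : LocalizedModule p.primeCompl M) : r • z = 0 ↔ z = 0 := by
  refine ⟨fun h => ?_, fun h => by rw [h, smul_zero]⟩
  exact (Module.End.isUnit_iff _).mp (IsLocalizedModule.map_units (LocalizedModule.mkLinearMap p.primeCompl M) (⟨r, hr⟩ : p.primeCompl)) |>.1 (h.trans (smul_zero r).symm)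

/-- Sections have no associated prime containing `J`. -/
theorem notMem_associatedPrimes_sect [IsNoetherianRing A] (p : Ideal A) (hJ : J ≤ p) :
    p ∉ associatedPrimes A (Sect A J M) := by
  intro hp
  obtain ⟨hpp, s, hs⟩ := isAssociatedPrime_iff.mp hp
  have h0 : s = 0 := Sect.ext fun x => by
    obtain ⟨r, hrJ, hrx⟩ := SetLike.not_le_iff_exists.mp ((mem_complOpen_iff x.1).mp x.2)
    have hr : r • s = 0 := by
      have : r ∈ p := hJ hrJ
      rwa [hs, Submodule.mem_colon_singleton, Submodule.mem_bot] at this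
    exact (smul_localized_eq_zero_iff x.1.asIdeal hrx (s.1 x)).mp (congrArg (fun t : Sect A J M => t.1 x) hr)
  refine hpp.one_notMem ?_
  rw [hs, Submodule.mem_colon_singleton, Submodule.mem_bot, h0, smul_zero]

/-- A section vanishing on `D(r) ⊆ Spec A ∖ V(J)` is killed by a power of `r`. -/
theorem exists_pow_smul_eq_zero [IsNoetherianRing A] {r : A} (s : Sect A J M)
    (hs : ∀ x : complOpen A J, r ∉ x.1.asIdeal → s.1 x = 0) : ∃ n : ℕ, r ^ n • s = 0 := by
  let W : ℕ → Set (complOpen A J) := fun n => {x | r ^ n • s.1 x = 0}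
  have hWo : ∀ n, IsOpen (W n) := fun n => isOpen_iff_forall_mem_open.mpr fun x hx => by
    obtain ⟨V, hxV, i, m, t, hV⟩ := s.2 x
    obtain ⟨htx, hsx⟩ := hV ⟨x.1, hxV⟩
    have hzero : r ^ n • LocalizedModule.mk m (⟨t, htx⟩ : x.1.asIdeal.primeCompl) = 0 := by
      rw [← hsx]; exact hx
    rw [LocalizedModule.smul'_mk, ← LocalizedModule.zero_mk 1, LocalizedModule.mk_eq] at hzero
    obtain ⟨⟨u, hu⟩, hu0⟩ := hzero
    simp only [one_smul, smul_zero, Submonoid.smul_def] at hu0
    refine ⟨{y | y.1 ∈ V} ∩ {y | u ∉ y.1.asIdeal}, fun y ⟨hyV, hyu⟩ => ?_, (V.2.preimage continuous_subtype_val).inter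
      ((PrimeSpectrum.isOpen_basicOpen (a := u)).preimage continuous_subtype_val), hxV, hu⟩
    obtain ⟨hty, hsy⟩ := hV ⟨y.1, hyV⟩
    show r ^ n • s.1 y = 0
    rw [show s.1 y = _ from hsy, LocalizedModule.smul'_mk, ← LocalizedModule.zero_mk 1, LocalizedModule.mk_eq]
    exact ⟨⟨u, hyu⟩, by simp only [one_smul, smul_zero, Submonoid.smul_def]; exact hu0⟩
  have hcov : ∀ x, ∃ n, x ∈ W n := fun x => by
    obtain ⟨V, hxV, i, m, t, hV⟩ := s.2 x
    obtain ⟨htx, hsx⟩ := hV ⟨x.1, hxV⟩
    obtain ⟨_, ⟨g, rfl⟩, hxg, hgV⟩ :=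
      PrimeSpectrum.isTopologicalBasis_basic_opens.exists_subset_of_mem_open hxV V.2
    -- the annihilator of `m` contains a power of `r g`
    have hrad : r * g ∈ (Submodule.span A {m}).annihilator.radical := by
      rw [Ideal.radical_eq_sInf]
      refine Submodule.mem_sInf.mpr fun Q ⟨hle, hQ⟩ => ?_
      by_contra hrg
      have hgQ : g ∉ Q := fun h => hrg (Ideal.mul_mem_left Q _ h)
      have hrQ : r ∉ Q := fun h => hrg (Ideal.mul_mem_right _ Q h)
      let y : PrimeSpectrum A := ⟨Q, hQ⟩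
      have hyV : y ∈ V := hgV hgQ
      obtain ⟨hty, hsy⟩ := hV ⟨y, hyV⟩
      have hz : LocalizedModule.mk m (⟨t, hty⟩ : y.asIdeal.primeCompl) = 0 := by
        rw [← hsy]; exact hs (i ⟨y, hyV⟩) hrQ
      rw [← LocalizedModule.zero_mk 1, LocalizedModule.mk_eq] at hz
      obtain ⟨⟨u, hu⟩, hu0⟩ := hz
      simp only [one_smul, smul_zero, Submonoid.smul_def] at hu0
      exact hu (hle (by rw [Submodule.mem_annihilator_span_singleton]; exact hu0))
    obtain ⟨n, hn⟩ := hrad
    rw [Submodule.mem_annihilator_span_singleton, mul_pow] at hn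
    refine ⟨n, ?_⟩
    show r ^ n • s.1 x = 0
    rw [show s.1 x = _ from hsx, LocalizedModule.smul'_mk, ← LocalizedModule.zero_mk 1, LocalizedModule.mk_eq]
    refine ⟨⟨g ^ n, fun h => hxg (x.1.isPrime.mem_of_pow_mem n h)⟩, ?_⟩
    simp only [one_smul, smul_zero, Submonoid.smul_def]
    rw [smul_smul, mul_comm]; exact hn
  have : CompactSpace (complOpen A J) := isCompact_iff_compactSpace.mp (TopologicalSpace.NoetherianSpace.isCompact (α := PrimeSpectrum A) _)
  obtain ⟨F, hF⟩ := isCompact_univ.elim_finite_subcover W hWo (fun x _ => Set.mem_iUnion.mpr (hcov x))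
  refine ⟨F.sup id, Sect.ext fun x => ?_⟩
  obtain ⟨n, hnF, hxn⟩ := Set.mem_iUnion₂.mp (hF (Set.mem_univ x))
  show r ^ F.sup id • s.1 x = 0
  rw [← Nat.sub_add_cancel (Finset.le_sup (f := id) hnF), pow_add, mul_smul]
  show r ^ _ • (r ^ n • s.1 x) = 0
  rw [hxn, smul_zero]

/-- At a point off `V(J)` the sections localize to the localization of `M`. -/
theorem bijective_localized_toSect [IsNoetherianRing A] (p : Ideal A) [p.IsPrime] (hp : ¬ J ≤ p) :
    Function.Bijective (LocalizedModule.map p.primeCompl (toSect A J M)) := by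
  let x : complOpen A J := ⟨⟨p, ‹_›⟩, (mem_complOpen_iff _).mpr hp⟩
  let ev : Sect A J M →ₗ[A] LocalizedModule p.primeCompl M :=
    { toFun := fun s => s.1 x, map_add' := fun _ _ => rfl, map_smul' := fun _ _ => rfl }
  obtain ⟨r, hrJ, hrp⟩ := SetLike.not_le_iff_exists.mp hp
  refine ⟨?_, fun z => ?_⟩
  · rw [injective_iff_map_eq_zero]
    intro z hz
    induction z using LocalizedModule.induction_on with
    | h m t =>
      rw [LocalizedModule.map_mk, ← LocalizedModule.zero_mk t, LocalizedModule.mk_eq] at hz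
      obtain ⟨⟨u, hu⟩, hu0⟩ := hz
      simp only [smul_zero, Submonoid.smul_def] at hu0
      have h1 := congrArg ev hu0
      rw [map_smul, map_smul, map_zero] at h1
      have h2 := (smul_localized_eq_zero_iff p t.2 _).mp ((smul_localized_eq_zero_iff p hu _).mp h1)
      obtain ⟨v, hv, hvm⟩ := (mkLinearMap_eq_zero_iff p m).mp h2
      rw [← LocalizedModule.zero_mk t, LocalizedModule.mk_eq]
      refine ⟨⟨v, hv⟩, ?_⟩
      simp only [smul_zero, Submonoid.smul_def]
      rw [smul_comm, hvm, smul_zero]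
  · induction z using LocalizedModule.induction_on with
    | h s t =>
      -- on `D(r)` the section is a fraction `m / r ^ k`
      obtain ⟨⟨m, ⟨_, k, rfl⟩⟩, hm⟩ := IsLocalizedModule.surj (Submonoid.powers r)
        (StructureSheaf.toOpenₗ A M (PrimeSpectrum.basicOpen r))
        ((structureSheafInType A M).obj.map (homOfLE (fun y hy => (mem_complOpen_iff y).mpr fun h => hy (h hrJ) :
          PrimeSpectrum.basicOpen r ≤ complOpen A J)).op s)
      have hd : ∀ y : complOpen A J, r ∉ y.1.asIdeal → (r ^ k • s - toSect A J M m).1 y = 0 := fun y hy => by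
        show r ^ k • s.1 y - (toSect A J M m).1 y = 0
        rw [sub_eq_zero]
        exact congrArg (fun w => w.1 ⟨y.1, hy⟩) hm
      obtain ⟨n, hn⟩ := exists_pow_smul_eq_zero _ hd
      rw [smul_sub, sub_eq_zero, smul_smul, ← pow_add, ← map_smul] at hn
      refine ⟨LocalizedModule.mk (r ^ n • m) (⟨r ^ (n + k), fun h => hrp (Ideal.IsPrime.mem_of_pow_mem ‹_› _ h)⟩ * t), ?_⟩
      rw [LocalizedModule.map_mk, ← hn, LocalizedModule.mk_eq]
      exact ⟨1, by simp only [one_smul, Submonoid.smul_def, Submonoid.coe_mul, smul_smul, mul_comm]⟩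

end Groth.Ega4Algebra1
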